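import Mathlib
import Cfsg.Agent.H909.UnitField
import Cfsg.Agent.H909.FieldGen

/-!
# The normaliser of a quadratic field of unitary type in `Sp_4(3)` is not maximal (helper909)
-/

set_option autoImplicit false
set_option linter.unusedSimpArgs false

namespace Cfsg.Agent.H909

open Cfsg Cfsg.Geo Matrix Module
open Cfsg.Agent.ClassicalGeometry.SympBasic

variable {F : Type*} [Field F]

section adapted

variable {s : Matrix (Fin 2 ⊕ Fin 2) (Fin 2 ⊕ Fin 2) F}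

/-- The projection of `x` to the orthogonal complement of `v, s v`. -/
theorem proj_orth {v : Fin 2 ⊕ Fin 2 → F} (h1 : sympForm 2 F (s *ᵥ v) v = 1)
    (x : Fin 2 ⊕ Fin 2 → F) :
    sympForm 2 F (x + sympForm 2 F x (s *ᵥ v) • v - sympForm 2 F x v • (s *ᵥ v)) v = 0 ∧
      sympForm 2 F (x + sympForm 2 F x (s *ᵥ v) • v - sympForm 2 F x v • (s *ᵥ v)) (s *ᵥ v) = 0 := by
  have h1' : sympForm 2 F v (s *ᵥ v) = -1 := by rw [sympForm_swap, h1]
  constructor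
  · rw [sympForm_sub_left, sympForm_add_left, sympForm_smul_left, sympForm_smul_left, h1,
      sympForm_self]
    ring
  · rw [sympForm_sub_left, sympForm_add_left, sympForm_smul_left, sympForm_smul_left, h1',
      sympForm_self]
    ring

theorem exists_norm_one [Fintype F] (h3 : Fintype.card F = 3) (hs2 : s * s = -1)
    (hskew : ∀ u v, sympForm 2 F (s *ᵥ u) v = - sympForm 2 F u (s *ᵥ v))
    (W : Submodule F (Fin 2 ⊕ Fin 2 → F)) (hW : ∀ w ∈ W, s *ᵥ w ∈ W)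
    (hne : ∃ x ∈ W, ∃ y ∈ W, sympForm 2 F x y ≠ 0) : ∃ v ∈ W, sympForm 2 F (s *ᵥ v) v = 1 := by
  have h2 := two_ne_zero_of_three h3
  have hss : ∀ v, s *ᵥ (s *ᵥ v) = -v := fun v => by
    rw [Matrix.mulVec_mulVec, hs2, Matrix.neg_mulVec, Matrix.one_mulVec]
  have hsym : ∀ u v, sympForm 2 F (s *ᵥ u) v = sympForm 2 F (s *ᵥ v) u := by
    intro u v
    rw [hskew, sympForm_swap, neg_neg]
  obtain ⟨u, hu, hne'⟩ : ∃ u ∈ W, sympForm 2 F (s *ᵥ u) u ≠ 0 := by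
    by_contra hcon
    push Not at hcon
    obtain ⟨x, hx, y, hy, hxy⟩ := hne
    apply hxy
    -- polarise at `s x` and `y`
    have hx' : s *ᵥ x ∈ W := hW x hx
    have e := hcon (s *ᵥ x + y) (W.add_mem hx' hy)
    rw [Matrix.mulVec_add, sympForm_add_left, sympForm_add_right, sympForm_add_right,
      hcon _ hx', hcon _ hy, hsym y, hss, sympForm_neg_left] at e
    have e' : (2 : F) * sympForm 2 F x y = 0 := by linear_combination -e
    exact (mul_eq_zero.1 e').resolve_left h2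
  rcases field_three h3 (sympForm 2 F (s *ᵥ u) u) with h | h | h
  · exact absurd h hne'
  · exact ⟨u, hu, h⟩
  · refine ⟨u + s *ᵥ u, W.add_mem hu (hW u hu), ?_⟩
    rw [Matrix.mulVec_add, hss, sympForm_add_left, sympForm_add_right, sympForm_add_right,
      sympForm_self, sympForm_neg_left, sympForm_neg_left, sympForm_self, h]
    have : sympForm 2 F u (s *ᵥ u) = 1 := by rw [sympForm_swap, h, neg_neg]
    rw [this]
    have h30 := three_eq_zero h3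
    linear_combination -h30

/-- A symplectic basis adapted to a skew element of square `-1`, for `|F| = 3`. -/
theorem exists_adapted_unit [Fintype F] (h3 : Fintype.card F = 3) (hs2 : s * s = -1)
    (hskew : ∀ u v, sympForm 2 F (s *ᵥ u) v = - sympForm 2 F u (s *ᵥ v)) :
    ∃ P : GL (Fin 2 ⊕ Fin 2) F, P ∈ spGL 2 F ∧
      s * (P : Matrix (Fin 2 ⊕ Fin 2) (Fin 2 ⊕ Fin 2) F) =
        (P : Matrix (Fin 2 ⊕ Fin 2) (Fin 2 ⊕ Fin 2) F) * Matrix.J (Fin 2) F := by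
  have hss : ∀ v, s *ᵥ (s *ᵥ v) = -v := fun v => by
    rw [Matrix.mulVec_mulVec, hs2, Matrix.neg_mulVec, Matrix.one_mulVec]
  have hpres : ∀ u v, sympForm 2 F (s *ᵥ u) (s *ᵥ v) = sympForm 2 F u v := by
    intro u v
    rw [hskew, hss, sympForm_neg_right, neg_neg]
  obtain ⟨v1, -, hv1⟩ := exists_norm_one h3 hs2 hskew ⊤ (fun _ _ => Submodule.mem_top) (by
    refine ⟨Pi.single (Sum.inr 0) 1, Submodule.mem_top, Pi.single (Sum.inl 0) 1,
      Submodule.mem_top, ?_⟩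
    rw [sympForm_single_inr_left, Pi.single_eq_same]
    exact one_ne_zero)
  -- the orthogonal complement of `v1, s v1`
  let W : Submodule F (Fin 2 ⊕ Fin 2 → F) :=
    LinearMap.ker ((sympBilin 2 F).flip v1) ⊓ LinearMap.ker ((sympBilin 2 F).flip (s *ᵥ v1))
  have hW : ∀ w, w ∈ W ↔ sympForm 2 F w v1 = 0 ∧ sympForm 2 F w (s *ᵥ v1) = 0 := fun w => Iff.rfl
  have hWs : ∀ w ∈ W, s *ᵥ w ∈ W := by
    intro w hw
    rw [hW] at hw ⊢
    refine ⟨?_, ?_⟩
    · rw [hskew, hw.2, neg_zero]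
    · rw [hpres, hw.1]
  have hex : ∃ x ∈ W, ∃ y ∈ W, sympForm 2 F x y ≠ 0 := by
    -- some `x ∈ W` is non-zero, and then `W` contains a vector not orthogonal to it
    obtain ⟨x, hx, hx0⟩ : ∃ x ∈ W, x ≠ 0 := by
      by_contra hcon
      push Not at hcon
      have hspan : (⊤ : Submodule F (Fin 2 ⊕ Fin 2 → F)) ≤ Submodule.span F {v1, s *ᵥ v1} := by
        intro x _
        have hp := proj_orth hv1 x
        have h0 := hcon _ ((hW _).2 hp)
        rw [Submodule.mem_span_pair]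
        refine ⟨-sympForm 2 F x (s *ᵥ v1), sympForm 2 F x v1, ?_⟩
        rw [sub_eq_zero] at h0
        rw [neg_smul, ← h0]
        abel
      have h4 : finrank F (⊤ : Submodule F (Fin 2 ⊕ Fin 2 → F)) = 4 := by
        rw [finrank_top, Module.finrank_fintype_fun_eq_card]
        rfl
      have hle := Submodule.finrank_mono hspan
      have h2 : finrank F (Submodule.span F ({v1, s *ᵥ v1} : Set (Fin 2 ⊕ Fin 2 → F))) ≤ 2 := by
        classical
        have := finrank_span_finset_le_card (R := F)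
          ({v1, s *ᵥ v1} : Finset (Fin 2 ⊕ Fin 2 → F))
        rw [Finset.coe_pair] at this
        exact this.trans (Finset.card_le_two)
      omega
    obtain ⟨z, hz, -⟩ := exists_both_ne_zero hx0 hx0
    refine ⟨x, hx, _, (hW _).2 (proj_orth hv1 z), ?_⟩
    rw [sympForm_sub_right, sympForm_add_right, sympForm_smul_right, sympForm_smul_right,
      ((hW x).1 hx).1, ((hW x).1 hx).2]
    simpa using hz
  obtain ⟨v2, hv2W, hv2⟩ := exists_norm_one h3 hs2 hskew W hWs hex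
  obtain ⟨h21, h21'⟩ := (hW v2).1 hv2W
  let v : Fin 2 → (Fin 2 ⊕ Fin 2 → F) := ![v1, v2]
  have hvv : ∀ i j, sympForm 2 F (v i) (v j) = 0 := by
    intro i j
    fin_cases i <;> fin_cases j
    · exact sympForm_self _
    · show sympForm 2 F v1 v2 = 0
      rw [sympForm_swap, h21, neg_zero]
    · exact h21
    · exact sympForm_self _
  have hvs : ∀ i j, sympForm 2 F (v i) (s *ᵥ v j) = if i = j then -1 else 0 := by
    intro i j
    fin_cases i <;> fin_cases j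
    · show sympForm 2 F v1 (s *ᵥ v1) = _
      rw [sympForm_swap, hv1]; simp
    · show sympForm 2 F v1 (s *ᵥ v2) = _
      have : sympForm 2 F v1 (s *ᵥ v2) = 0 := by
        have e := hskew v1 v2
        rw [sympForm_swap, h21', neg_zero] at e
        exact neg_eq_zero.1 e.symm
      rw [this]; simp
    · show sympForm 2 F v2 (s *ᵥ v1) = _
      rw [h21']; simp
    · show sympForm 2 F v2 (s *ᵥ v2) = _
      rw [sympForm_swap, hv2]; simp
  obtain ⟨P, hP, hcol⟩ := exists_spGL_of_family (Sum.elim v (fun i => s *ᵥ v i)) (by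
    rintro (i | i) (j | j)
    · rw [J_apply_inl_inl]; exact hvv i j
    · rw [J_apply_inl_inr]; exact hvs i j
    · rw [J_apply_inr_inl]
      show sympForm 2 F (s *ᵥ v i) (v j) = _
      rw [sympForm_swap, hvs]
      by_cases h : i = j
      · subst h; simp
      · rw [if_neg (Ne.symm h), if_neg h, neg_zero]
    · rw [J_apply_inr_inr]
      show sympForm 2 F (s *ᵥ v i) (s *ᵥ v j) = _
      rw [hpres, hvv])
  refine ⟨P, hP, ?_⟩
  apply ext_single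
  intro a
  rw [← Matrix.mulVec_mulVec, ← Matrix.mulVec_mulVec, hcol]
  rcases a with i | i
  · have hJ : Matrix.J (Fin 2) F *ᵥ Pi.single (Sum.inl i) 1 = Pi.single (Sum.inr i) 1 := by
      ext (j | j)
      · rw [J_mulVec_inl]; simp
      · rw [J_mulVec_inr]; simp [Pi.single_apply]
    rw [hJ, hcol]
    rfl
  · have hJ : Matrix.J (Fin 2) F *ᵥ Pi.single (Sum.inr i) 1 = -Pi.single (Sum.inl i) 1 := by
      ext (j | j)
      · rw [J_mulVec_inl]; simp [Pi.single_apply]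
      · rw [J_mulVec_inr]; simp
    rw [hJ, Matrix.mulVec_neg, hcol]
    exact hss _

end adapted

section transfer

open Quat (JJ yy M3)

/-- Coordinates with respect to `P`, over `ZMod 3`. -/
def co (e : ZMod 3 ≃+* F) (P : GL (Fin 2 ⊕ Fin 2) F)
    (X : Matrix (Fin 2 ⊕ Fin 2) (Fin 2 ⊕ Fin 2) F) : M3 :=
  e.symm.toRingHom.mapMatrix (((P⁻¹ : GL (Fin 2 ⊕ Fin 2) F) :
    Matrix (Fin 2 ⊕ Fin 2) (Fin 2 ⊕ Fin 2) F) * X * (P : Matrix (Fin 2 ⊕ Fin 2) (Fin 2 ⊕ Fin 2) F))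

variable {e : ZMod 3 ≃+* F} {P : GL (Fin 2 ⊕ Fin 2) F}

theorem co_mul (X Y : Matrix (Fin 2 ⊕ Fin 2) (Fin 2 ⊕ Fin 2) F) :
    co e P (X * Y) = co e P X * co e P Y := by
  unfold co
  rw [← map_mul]
  congr 1
  have h : (P : Matrix (Fin 2 ⊕ Fin 2) (Fin 2 ⊕ Fin 2) F) * ((P⁻¹ : GL (Fin 2 ⊕ Fin 2) F) :
    Matrix (Fin 2 ⊕ Fin 2) (Fin 2 ⊕ Fin 2) F) = 1 := by
    rw [← Units.val_mul, mul_inv_cancel, Units.val_one]
  calc _ = ((P⁻¹ : GL (Fin 2 ⊕ Fin 2) F) : Matrix (Fin 2 ⊕ Fin 2) (Fin 2 ⊕ Fin 2) F) * X *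
        ((P : Matrix (Fin 2 ⊕ Fin 2) (Fin 2 ⊕ Fin 2) F) * ((P⁻¹ : GL (Fin 2 ⊕ Fin 2) F) :
          Matrix (Fin 2 ⊕ Fin 2) (Fin 2 ⊕ Fin 2) F)) * Y * P := by
        rw [h, Matrix.mul_one, Matrix.mul_assoc _ X Y]
    _ = _ := by simp only [Matrix.mul_assoc]

theorem co_one : co e P 1 = 1 := by
  unfold co
  rw [Matrix.mul_one, ← Units.val_mul, inv_mul_cancel, Units.val_one, map_one]

theorem co_neg (X : Matrix (Fin 2 ⊕ Fin 2) (Fin 2 ⊕ Fin 2) F) : co e P (-X) = -co e P X := by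
  unfold co
  rw [Matrix.mul_neg, Matrix.neg_mul, map_neg]

theorem mapMatrix_inj {X Y : Matrix (Fin 2 ⊕ Fin 2) (Fin 2 ⊕ Fin 2) F}
    (h : e.symm.toRingHom.mapMatrix X = e.symm.toRingHom.mapMatrix Y) : X = Y := by
  ext i j
  have := congrFun (congrFun h i) j
  exact e.symm.injective this

theorem co_inj {X Y : Matrix (Fin 2 ⊕ Fin 2) (Fin 2 ⊕ Fin 2) F} (h : co e P X = co e P Y) :
    X = Y := by
  have h' := mapMatrix_inj h
  have hc : ∀ Z : Matrix (Fin 2 ⊕ Fin 2) (Fin 2 ⊕ Fin 2) F, Z =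
      (P : Matrix (Fin 2 ⊕ Fin 2) (Fin 2 ⊕ Fin 2) F) * (((P⁻¹ : GL (Fin 2 ⊕ Fin 2) F) :
        Matrix (Fin 2 ⊕ Fin 2) (Fin 2 ⊕ Fin 2) F) * Z * P) * ((P⁻¹ : GL (Fin 2 ⊕ Fin 2) F) :
        Matrix (Fin 2 ⊕ Fin 2) (Fin 2 ⊕ Fin 2) F) := by
    intro Z
    have h : (P : Matrix (Fin 2 ⊕ Fin 2) (Fin 2 ⊕ Fin 2) F) * ((P⁻¹ : GL (Fin 2 ⊕ Fin 2) F) :
      Matrix (Fin 2 ⊕ Fin 2) (Fin 2 ⊕ Fin 2) F) = 1 := by
      rw [← Units.val_mul, mul_inv_cancel, Units.val_one]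
    simp only [Matrix.mul_assoc, h, Matrix.mul_one]
    rw [← Matrix.mul_assoc, h, Matrix.one_mul]
  rw [hc X, h', ← hc Y]

theorem mapMatrix_J : e.symm.toRingHom.mapMatrix (Matrix.J (Fin 2) F) = JJ := by
  ext (i | i) (j | j) <;>
    simp [JJ, Matrix.J, Matrix.one_apply]

theorem co_symp (hP : P ∈ spGL 2 F) (X : Matrix (Fin 2 ⊕ Fin 2) (Fin 2 ⊕ Fin 2) F) :
    (co e P X)ᵀ * JJ * co e P X = JJ ↔ Xᵀ * Matrix.J (Fin 2) F * X = Matrix.J (Fin 2) F := by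
  have h1 : (co e P X)ᵀ * JJ * co e P X = JJ ↔
      (((P⁻¹ : GL (Fin 2 ⊕ Fin 2) F) : Matrix (Fin 2 ⊕ Fin 2) (Fin 2 ⊕ Fin 2) F) * X *
          (P : Matrix (Fin 2 ⊕ Fin 2) (Fin 2 ⊕ Fin 2) F))ᵀ *
        Matrix.J (Fin 2) F * (((P⁻¹ : GL (Fin 2 ⊕ Fin 2) F) :
        Matrix (Fin 2 ⊕ Fin 2) (Fin 2 ⊕ Fin 2) F) * X *
          (P : Matrix (Fin 2 ⊕ Fin 2) (Fin 2 ⊕ Fin 2) F)) = Matrix.J (Fin 2) F := by
    unfold co
    rw [← mapMatrix_J (e := e)]
    have ht : ∀ Z : Matrix (Fin 2 ⊕ Fin 2) (Fin 2 ⊕ Fin 2) F,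
        (e.symm.toRingHom.mapMatrix Z)ᵀ = e.symm.toRingHom.mapMatrix Zᵀ := fun Z => rfl
    rw [ht, ← map_mul, ← map_mul]
    exact ⟨fun h => mapMatrix_inj h, fun h => by rw [h]⟩
  rw [h1, ← SymplecticGroup.mem_iff', ← SymplecticGroup.mem_iff']
  have hPm := mem_spGL_iff_symplectic.1 hP
  have hPi := mem_spGL_iff_symplectic.1 (inv_mem hP)
  constructor
  · intro h
    have h2 := mul_mem (mul_mem hPm h) hPi
    have h3 : (P : Matrix (Fin 2 ⊕ Fin 2) (Fin 2 ⊕ Fin 2) F) * (((P⁻¹ : GL (Fin 2 ⊕ Fin 2) F) :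
        Matrix (Fin 2 ⊕ Fin 2) (Fin 2 ⊕ Fin 2) F) * X *
          (P : Matrix (Fin 2 ⊕ Fin 2) (Fin 2 ⊕ Fin 2) F)) * ((P⁻¹ : GL (Fin 2 ⊕ Fin 2) F) :
        Matrix (Fin 2 ⊕ Fin 2) (Fin 2 ⊕ Fin 2) F) = X := by
      have h : (P : Matrix (Fin 2 ⊕ Fin 2) (Fin 2 ⊕ Fin 2) F) * ((P⁻¹ : GL (Fin 2 ⊕ Fin 2) F) :
        Matrix (Fin 2 ⊕ Fin 2) (Fin 2 ⊕ Fin 2) F) = 1 := by
        rw [← Units.val_mul, mul_inv_cancel, Units.val_one]
      simp only [Matrix.mul_assoc, h, Matrix.mul_one]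
      rw [← Matrix.mul_assoc, h, Matrix.one_mul]
    rwa [h3] at h2
  · intro h
    exact mul_mem (mul_mem hPi h) hPm

end transfer

/-- A group normalising a generating set up to finiteness. -/
theorem conj_closure_mem {G : Type*} [Group G] {S : Set G} {g : G}
    (h : ∀ x ∈ S, g * x * g⁻¹ ∈ Subgroup.closure S) {x : G} (hx : x ∈ Subgroup.closure S) :
    g * x * g⁻¹ ∈ Subgroup.closure S := by
  induction hx using Subgroup.closure_induction with
  | mem x hx => exact h x hx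
  | one => simp
  | mul x y _ _ hx hy =>
    have : g * (x * y) * g⁻¹ = (g * x * g⁻¹) * (g * y * g⁻¹) := by group
    rw [this]
    exact mul_mem hx hy
  | inv x _ hx =>
    have : g * x⁻¹ * g⁻¹ = (g * x * g⁻¹)⁻¹ := by group
    rw [this]
    exact inv_mem hx

theorem conj_inv_mem_of_finite {G : Type*} [Group G] [Finite G] {R : Subgroup G} {g : G}
    (h : ∀ x ∈ R, g * x * g⁻¹ ∈ R) : ∀ x ∈ R, g⁻¹ * x * g ∈ R := by
  let f : R → R := fun x => ⟨g * x * g⁻¹, h x x.2⟩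
  have hf : Function.Injective f := by
    intro x y hxy
    have := congrArg Subtype.val hxy
    exact Subtype.ext (by simpa [f] using this)
  intro x hx
  obtain ⟨y, hy⟩ := Finite.surjective_of_injective hf ⟨x, hx⟩
  have : g * (y : G) * g⁻¹ = x := congrArg Subtype.val hy
  rw [← this]
  have h2 : g⁻¹ * (g * (y : G) * g⁻¹) * g = y := by group
  rw [h2]
  exact y.2

/-- If two sets of elements of a finite group conjugate `R` into itself, so does the group they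
generate. -/
theorem conj_mem_of_closure {G : Type*} [Group G] [Finite G] {R : Subgroup G} {A : Set G}
    (h : ∀ g ∈ A, ∀ x ∈ R, g * x * g⁻¹ ∈ R) {g : G} (hg : g ∈ Subgroup.closure A) :
    ∀ x ∈ R, g * x * g⁻¹ ∈ R := by
  induction hg using Subgroup.closure_induction with
  | mem g hg => exact h g hg
  | one => intro x hx; simpa using hx
  | mul a b _ _ ha hb =>
    intro x hx
    have : a * b * x * (a * b)⁻¹ = a * (b * x * b⁻¹) * a⁻¹ := by group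
    rw [this]
    exact ha _ (hb x hx)
  | inv a _ ha =>
    intro x hx
    rw [inv_inv]
    exact conj_inv_mem_of_finite ha x hx

section sc

variable {G : Type*} [Group G] [HasDistribNeg G]

/-- Commuting up to sign. -/
def SC (x σ : G) : Prop := x * σ = σ * x ∨ x * σ = -(σ * x)

theorem SC.mul {x y σ : G} (hx : SC x σ) (hy : SC y σ) : SC (x * y) σ := by
  rcases hx with hx | hx <;> rcases hy with hy | hy
  · left; rw [mul_assoc, hy, ← mul_assoc, hx, mul_assoc]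
  · right; rw [mul_assoc, hy, mul_neg, ← mul_assoc, hx, mul_assoc]
  · right; rw [mul_assoc, hy, ← mul_assoc, hx, neg_mul, mul_assoc]
  · left; rw [mul_assoc, hy, mul_neg, ← mul_assoc, hx, neg_mul, neg_neg, mul_assoc]

theorem SC.inv {x σ : G} (hx : SC x σ) : SC x⁻¹ σ := by
  rcases hx with hx | hx
  · left
    rw [inv_mul_eq_iff_eq_mul, ← mul_assoc, hx, mul_inv_cancel_right]
  · right
    rw [inv_mul_eq_iff_eq_mul, mul_neg, ← mul_assoc, hx, neg_mul, neg_neg, mul_inv_cancel_right]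

/-- Non-central involutions of `A` commuting with `σ` up to sign. -/
def invS (A : Subgroup G) (σ : G) : Set G :=
  {x | x ∈ A ∧ x * x = 1 ∧ x ≠ 1 ∧ x ≠ -1 ∧ SC x σ}

theorem conj_mem_invS {A : Subgroup G} {σ g x : G} (hg : g ∈ A) (hgs : SC g σ)
    (hx : x ∈ invS A σ) : g * x * g⁻¹ ∈ invS A σ := by
  obtain ⟨h1, h2, h3, h4, h5⟩ := hx
  refine ⟨mul_mem (mul_mem hg h1) (inv_mem hg), ?_, ?_, ?_, (hgs.mul h5).mul hgs.inv⟩
  · calc g * x * g⁻¹ * (g * x * g⁻¹) = g * (x * x) * g⁻¹ := by group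
      _ = 1 := by rw [h2]; group
  · intro h
    apply h3
    rwa [conj_eq_one_iff] at h
  · intro h
    apply h4
    have h' : x = g⁻¹ * (g * x * g⁻¹) * g := by group
    rw [h', h, mul_neg, neg_mul, mul_one, inv_mul_cancel]

end sc

section final

open Quat (JJ yy M3 t1)

theorem coe_mul_inv (g : GL (Fin 2 ⊕ Fin 2) F) :
    (g : Matrix (Fin 2 ⊕ Fin 2) (Fin 2 ⊕ Fin 2) F) *
      ((g⁻¹ : GL (Fin 2 ⊕ Fin 2) F) : Matrix (Fin 2 ⊕ Fin 2) (Fin 2 ⊕ Fin 2) F) = 1 := by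
  rw [← Units.val_mul, mul_inv_cancel, Units.val_one]

theorem coe_inv_mul (g : GL (Fin 2 ⊕ Fin 2) F) :
    ((g⁻¹ : GL (Fin 2 ⊕ Fin 2) F) : Matrix (Fin 2 ⊕ Fin 2) (Fin 2 ⊕ Fin 2) F) *
    (g : Matrix (Fin 2 ⊕ Fin 2) (Fin 2 ⊕ Fin 2) F) = 1 := by
  rw [← Units.val_mul, inv_mul_cancel, Units.val_one]

/-- Membership in the set of involutions, in coordinates. -/
theorem mem_invS_iff {e : ZMod 3 ≃+* F} {P σ : GL (Fin 2 ⊕ Fin 2) F} (hP : P ∈ spGL 2 F)
    (hcs : co e P (σ : Matrix (Fin 2 ⊕ Fin 2) (Fin 2 ⊕ Fin 2) F) = JJ)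
    (x : GL (Fin 2 ⊕ Fin 2) F) :
    x ∈ invS (spGL 2 F) σ ↔
      Quat.T (co e P (x : Matrix (Fin 2 ⊕ Fin 2) (Fin 2 ⊕ Fin 2) F)) := by
  have key : ∀ a b : GL (Fin 2 ⊕ Fin 2) F, a = b ↔
      co e P (a : Matrix (Fin 2 ⊕ Fin 2) (Fin 2 ⊕ Fin 2) F) =
        co e P (b : Matrix (Fin 2 ⊕ Fin 2) (Fin 2 ⊕ Fin 2) F) := fun a b =>
    ⟨fun h => by rw [h], fun h => Units.ext (co_inj h)⟩
  rw [Quat.T_iff, co_symp hP, ← mem_spGL_iff_transpose]
  unfold invS SC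
  rw [Set.mem_ofPred_eq, Ne, Ne, key (x * x) 1, key x 1, key x (-1), key (x * σ) (σ * x),
    key (x * σ) (-(σ * x))]
  simp only [Units.val_mul, Units.val_one, Units.val_neg, co_mul, co_one, co_neg, hcs]
  tauto

/-- Elements of the symplectic group with given coordinates. -/
theorem exists_co_eq {e : ZMod 3 ≃+* F} {P : GL (Fin 2 ⊕ Fin 2) F} (hP : P ∈ spGL 2 F)
    {A : M3} (hA : Aᵀ * JJ * A = JJ) : ∃ x : GL (Fin 2 ⊕ Fin 2) F, x ∈ spGL 2 F ∧
      co e P (x : Matrix (Fin 2 ⊕ Fin 2) (Fin 2 ⊕ Fin 2) F) = A := by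
  have hA' : e.toRingHom.mapMatrix A ∈ Matrix.symplecticGroup (Fin 2) F := by
    rw [SymplecticGroup.mem_iff']
    have ht : (e.toRingHom.mapMatrix A)ᵀ = e.toRingHom.mapMatrix Aᵀ := rfl
    have hJ : Matrix.J (Fin 2) F = e.toRingHom.mapMatrix JJ := by
      ext (i | i) (j | j) <;>
        simp [JJ, Matrix.J, Matrix.one_apply]
    rw [ht, hJ, ← map_mul, ← map_mul, hA]
  refine ⟨P * spHom 2 F ⟨_, hA'⟩ * P⁻¹, mul_mem (mul_mem hP (spHom_mem _)) (inv_mem hP), ?_⟩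
  unfold co
  rw [Units.val_mul, Units.val_mul, spHom_coe]
  have : ((P⁻¹ : GL (Fin 2 ⊕ Fin 2) F) : Matrix (Fin 2 ⊕ Fin 2) (Fin 2 ⊕ Fin 2) F) *
      ((P : Matrix (Fin 2 ⊕ Fin 2) (Fin 2 ⊕ Fin 2) F) * e.toRingHom.mapMatrix A *
        ((P⁻¹ : GL (Fin 2 ⊕ Fin 2) F) : Matrix (Fin 2 ⊕ Fin 2) (Fin 2 ⊕ Fin 2) F)) *
      (P : Matrix (Fin 2 ⊕ Fin 2) (Fin 2 ⊕ Fin 2) F) = e.toRingHom.mapMatrix A := by
    simp only [Matrix.mul_assoc, coe_inv_mul, Matrix.mul_one]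
    rw [← Matrix.mul_assoc, coe_inv_mul, Matrix.one_mul]
  rw [this]
  ext i j
  simp

/-- Conjugation by the element with coordinates `yy` preserves the set of involutions. -/
theorem conj_yy {e : ZMod 3 ≃+* F} {P σ y x : GL (Fin 2 ⊕ Fin 2) F} (hP : P ∈ spGL 2 F)
    (hcs : co e P (σ : Matrix (Fin 2 ⊕ Fin 2) (Fin 2 ⊕ Fin 2) F) = JJ)
    (hy : co e P (y : Matrix (Fin 2 ⊕ Fin 2) (Fin 2 ⊕ Fin 2) F) = yy)
    (hx : x ∈ invS (spGL 2 F) σ) : y * x * y⁻¹ ∈ invS (spGL 2 F) σ := by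
  rw [mem_invS_iff hP hcs] at hx ⊢
  obtain ⟨B, hB, hyB⟩ := Quat.T_yy hx
  have h : co e P ((y * x * y⁻¹ : GL (Fin 2 ⊕ Fin 2) F) :
      Matrix (Fin 2 ⊕ Fin 2) (Fin 2 ⊕ Fin 2) F) = B := by
    rw [Units.val_mul, Units.val_mul, co_mul, co_mul, hy, hyB, Matrix.mul_assoc, ← hy, ← co_mul,
      coe_mul_inv, co_one, Matrix.mul_one]
  rw [h]
  exact hB

/-- **For `|F| = 3` the normaliser of a quadratic field of unitary type is not maximal.** -/
theorem not_maximal_unit_three [Fintype F] (h3 : Fintype.card F = 3)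
    {K : Subalgebra F (Matrix (Fin 2 ⊕ Fin 2) (Fin 2 ⊕ Fin 2) F)} (hK : IsFieldSubalgebra 2 K)
    (hadj : IsAdjointClosedFor (sympForm 2 F) K) (hself : ¬ IsSelfAdjointFor (sympForm 2 F) K)
    (hmax : IsMaximalIn (spGL 2 F) (subalgebraNormalizer K ⊓ spGL 2 F)) : False := by
  have h2 := two_ne_zero_of_three h3
  obtain ⟨s, hsK, b, hsb, hnsq, hskew, hlin⟩ := exists_skew_generator h2 hK hadj hself
  have hs2 : s * s = -1 := by
    rcases field_three h3 b with h | h | h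
    · exact absurd (h ▸ ⟨0, by ring⟩) hnsq
    · exact absurd (h ▸ ⟨1, by ring⟩) hnsq
    · rw [hsb, h, neg_smul, one_smul]
  obtain ⟨P, hP, hsP⟩ := exists_adapted_unit h3 hs2 hskew
  let e : ZMod 3 ≃+* F := ZMod.ringEquivOfPrime F Nat.prime_three h3
  let σ : GL (Fin 2 ⊕ Fin 2) F := ⟨s, -s, by rw [Matrix.mul_neg, hs2, neg_neg],
    by rw [Matrix.neg_mul, hs2, neg_neg]⟩
  have hσ : (σ : Matrix (Fin 2 ⊕ Fin 2) (Fin 2 ⊕ Fin 2) F) = s := rfl
  have hcs : co e P (σ : Matrix (Fin 2 ⊕ Fin 2) (Fin 2 ⊕ Fin 2) F) = JJ := by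
    unfold co
    rw [hσ, Matrix.mul_assoc, hsP, ← Matrix.mul_assoc, coe_inv_mul, Matrix.one_mul]
    exact mapMatrix_J
  -- the normaliser of `K` commutes with `σ` up to sign
  have hnorm : ∀ g : GL (Fin 2 ⊕ Fin 2) F, g ∈ subalgebraNormalizer K ↔ SC g σ := by
    intro g
    have hK' : ∀ x : Matrix (Fin 2 ⊕ Fin 2) (Fin 2 ⊕ Fin 2) F, x ∈ K ↔ ∃ a c : F,
        x = a • 1 + c • s := fun x => ⟨hlin x, fun ⟨a, c, h⟩ => h ▸ K.add_mem
          (K.smul_mem K.one_mem a) (K.smul_mem hsK c)⟩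
    constructor
    · intro hg
      have h1 : (g : Matrix (Fin 2 ⊕ Fin 2) (Fin 2 ⊕ Fin 2) F) * s *
          ((g⁻¹ : GL (Fin 2 ⊕ Fin 2) F) : Matrix (Fin 2 ⊕ Fin 2) (Fin 2 ⊕ Fin 2) F) ∈ K :=
        (hg s).1 hsK
      set z := (g : Matrix (Fin 2 ⊕ Fin 2) (Fin 2 ⊕ Fin 2) F) * s *
          ((g⁻¹ : GL (Fin 2 ⊕ Fin 2) F) : Matrix (Fin 2 ⊕ Fin 2) (Fin 2 ⊕ Fin 2) F) with hz
      have hgz : (g : Matrix (Fin 2 ⊕ Fin 2) (Fin 2 ⊕ Fin 2) F) * s = z * g := by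
        rw [hz, Matrix.mul_assoc _ _ (g : Matrix (Fin 2 ⊕ Fin 2) (Fin 2 ⊕ Fin 2) F), coe_inv_mul,
          Matrix.mul_one]
      have hzz : z * z = -1 := by
        rw [hz]
        calc _ = (g : Matrix (Fin 2 ⊕ Fin 2) (Fin 2 ⊕ Fin 2) F) * s *
              (((g⁻¹ : GL (Fin 2 ⊕ Fin 2) F) : Matrix (Fin 2 ⊕ Fin 2) (Fin 2 ⊕ Fin 2) F) * g) * s *
              ((g⁻¹ : GL (Fin 2 ⊕ Fin 2) F) : Matrix (Fin 2 ⊕ Fin 2) (Fin 2 ⊕ Fin 2) F) := by
                simp only [Matrix.mul_assoc]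
          _ = (g : Matrix (Fin 2 ⊕ Fin 2) (Fin 2 ⊕ Fin 2) F) * (s * s) *
              ((g⁻¹ : GL (Fin 2 ⊕ Fin 2) F) : Matrix (Fin 2 ⊕ Fin 2) (Fin 2 ⊕ Fin 2) F) := by
                rw [coe_inv_mul, Matrix.mul_one]; simp only [Matrix.mul_assoc]
          _ = -1 := by rw [hs2, Matrix.mul_neg, Matrix.mul_one, Matrix.neg_mul, coe_mul_inv]
      have hprod : (z - s) * (z + s) = 0 := by
        rw [Matrix.sub_mul, Matrix.mul_add, Matrix.mul_add, hzz, hs2, hK.comm s hsK z h1]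
        abel
      rcases IsFieldSubalgebra.eq_zero_or hK (K.sub_mem h1 hsK) hprod with h | h
      · left
        apply Units.ext
        rw [Units.val_mul, Units.val_mul, hσ, hgz, sub_eq_zero.1 h]
      · right
        apply Units.ext
        rw [Units.val_neg, Units.val_mul, Units.val_mul, hσ, hgz, eq_neg_of_add_eq_zero_left h,
          Matrix.neg_mul]
    · intro hg x
      have hm : ∀ g : GL (Fin 2 ⊕ Fin 2) F, SC g σ → ∀ x ∈ K,
          (g : Matrix (Fin 2 ⊕ Fin 2) (Fin 2 ⊕ Fin 2) F) * x *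
          ((g⁻¹ : GL (Fin 2 ⊕ Fin 2) F) : Matrix (Fin 2 ⊕ Fin 2) (Fin 2 ⊕ Fin 2) F) ∈ K := by
        intro g hg x hx
        obtain ⟨a, c, rfl⟩ := hlin x hx
        have e1 : (g : Matrix (Fin 2 ⊕ Fin 2) (Fin 2 ⊕ Fin 2) F) * (a • 1 + c • s) *
          ((g⁻¹ : GL (Fin 2 ⊕ Fin 2) F) : Matrix (Fin 2 ⊕ Fin 2) (Fin 2 ⊕ Fin 2) F) =
            a • 1 + c • ((g : Matrix (Fin 2 ⊕ Fin 2) (Fin 2 ⊕ Fin 2) F) * s *
              ((g⁻¹ : GL (Fin 2 ⊕ Fin 2) F) : Matrix (Fin 2 ⊕ Fin 2) (Fin 2 ⊕ Fin 2) F)) := by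
          rw [Matrix.mul_add, Matrix.add_mul, Matrix.mul_smul, Matrix.smul_mul, Matrix.mul_one,
            coe_mul_inv, Matrix.mul_smul, Matrix.smul_mul]
        rw [e1]
        refine K.add_mem (K.smul_mem K.one_mem a) (K.smul_mem ?_ c)
        rcases hg with hg | hg
        · have h' : (g : Matrix (Fin 2 ⊕ Fin 2) (Fin 2 ⊕ Fin 2) F) * s = s * g :=
            congrArg Units.val hg
          rw [h', Matrix.mul_assoc, coe_mul_inv, Matrix.mul_one]
          exact hsK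
        · have h' : (g : Matrix (Fin 2 ⊕ Fin 2) (Fin 2 ⊕ Fin 2) F) * s = -(s * g) :=
            congrArg Units.val hg
          rw [h', Matrix.neg_mul, Matrix.mul_assoc, coe_mul_inv, Matrix.mul_one]
          exact K.neg_mem hsK
      refine ⟨hm g hg x, fun h => ?_⟩
      have h' := hm g⁻¹ hg.inv _ h
      rw [inv_inv] at h'
      have h'' : ((g⁻¹ : GL (Fin 2 ⊕ Fin 2) F) : Matrix (Fin 2 ⊕ Fin 2) (Fin 2 ⊕ Fin 2) F) *
          ((g : Matrix (Fin 2 ⊕ Fin 2) (Fin 2 ⊕ Fin 2) F) * x *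
            ((g⁻¹ : GL (Fin 2 ⊕ Fin 2) F) : Matrix (Fin 2 ⊕ Fin 2) (Fin 2 ⊕ Fin 2) F)) *
          (g : Matrix (Fin 2 ⊕ Fin 2) (Fin 2 ⊕ Fin 2) F) = x := by
        simp only [Matrix.mul_assoc, coe_inv_mul, Matrix.mul_one]
        rw [← Matrix.mul_assoc, coe_inv_mul, Matrix.one_mul]
      rwa [h''] at h'
  obtain ⟨y, hy, hcy⟩ := exists_co_eq (e := e) hP Quat.yy_symp
  obtain ⟨t, ht, hct⟩ := exists_co_eq (e := e) hP Quat.t1_symp
  set R := Subgroup.closure (invS (spGL 2 F) σ) with hR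
  set H := subalgebraNormalizer K ⊓ spGL 2 F with hH
  have hRH : R ≤ H := by
    rw [hR, Subgroup.closure_le]
    intro x hx
    exact ⟨(hnorm x).2 hx.2.2.2.2, hx.1⟩
  have hyH : y ∉ H := by
    intro hyH
    have hsc := (hnorm y).1 hyH.1
    have h1 : yy * JJ = JJ * yy ∨ yy * JJ = -(JJ * yy) := by
      rw [← hcy, ← hcs, ← co_mul, ← co_mul, ← co_neg]
      rcases hsc with h | h
      · left
        rw [← Units.val_mul, h, Units.val_mul]
      · right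
        rw [← Units.val_mul, h, Units.val_neg, Units.val_mul]
    revert h1
    decide
  have hconjH : ∀ g ∈ H, ∀ x ∈ R, g * x * g⁻¹ ∈ R := by
    intro g hg x hx
    refine conj_closure_mem (fun x hx => Subgroup.subset_closure ?_) hx
    exact conj_mem_invS hg.2 ((hnorm g).1 hg.1) hx
  have hconjy : ∀ x ∈ R, y * x * y⁻¹ ∈ R := by
    intro x hx
    refine conj_closure_mem (fun x hx => Subgroup.subset_closure ?_) hx
    exact conj_yy hP hcs hcy hx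
  -- the group generated by `H` and `y`
  have hM : Subgroup.closure ((H : Set (GL (Fin 2 ⊕ Fin 2) F)) ∪ {y}) = spGL 2 F := by
    have h1 : H ≤ Subgroup.closure ((H : Set (GL (Fin 2 ⊕ Fin 2) F)) ∪ {y}) := fun g hg =>
      Subgroup.subset_closure (Or.inl hg)
    have h2 : Subgroup.closure ((H : Set (GL (Fin 2 ⊕ Fin 2) F)) ∪ {y}) ≤ spGL 2 F := by
      rw [Subgroup.closure_le]
      rintro g (hg | hg)
      · exact hg.2
      · rw [Set.mem_singleton_iff] at hg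
        rw [hg]
        exact hy
    rcases hmax.2 _ h1 h2 with h | h
    · exfalso
      apply hyH
      rw [← h]
      exact Subgroup.subset_closure (Or.inr rfl)
    · exact h
  have hnormal : ∀ g ∈ spGL 2 F, ∀ x ∈ R, g * x * g⁻¹ ∈ R := by
    intro g hg
    rw [← hM] at hg
    refine conj_mem_of_closure ?_ hg
    rintro a (ha | ha)
    · exact hconjH a ha
    · rw [Set.mem_singleton_iff] at ha
      rw [ha]
      exact hconjy
  have htR : t ∈ invS (spGL 2 F) σ := by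
    rw [mem_invS_iff hP hcs, hct]
    exact Or.inl rfl
  have htns : t ∉ scalars (Fin 2 ⊕ Fin 2) F := by
    intro h
    rw [mem_scalars_iff] at h
    obtain ⟨c, hc⟩ := h
    have h1 : (t : Matrix (Fin 2 ⊕ Fin 2) (Fin 2 ⊕ Fin 2) F) ≠ 1 := fun h =>
      htR.2.2.1 (Units.ext h)
    have h2 : (t : Matrix (Fin 2 ⊕ Fin 2) (Fin 2 ⊕ Fin 2) F) ≠ -1 := fun h =>
      htR.2.2.2.1 (Units.ext h)
    rcases field_three h3 (c : F) with h | h | h
    · exact c.ne_zero h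
    · exact h1 (by rw [hc, h, one_smul])
    · exact h2 (by rw [hc, h, neg_smul, one_smul])
  have hle := spGL_le_of_normalised (Or.inr (Or.inl ⟨rfl, h3.ge⟩)) hnormal
    (Subgroup.subset_closure htR) ht htns
  exact absurd (hle.trans hRH) (not_le_of_gt hmax.1)

end final

end Cfsg.Agent.H909
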