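import Mathlib

/-!
# Combinatorics of the six Sylow 5-subgroups of `A₅` (helper909)
-/

set_option autoImplicit false

namespace Cfsg.Agent.H909.AltFive

open Equiv

/-- representatives of the six Sylow 5-subgroups, all in one class of `A₅` -/
def y : Fin 6 → Perm (Fin 5) :=
  ![List.formPerm [0, 1, 2, 3, 4], List.formPerm [0, 1, 3, 4, 2], List.formPerm [0, 1, 4, 2, 3],
    List.formPerm [0, 2, 1, 4, 3], List.formPerm [0, 2, 3, 1, 4], List.formPerm [0, 3, 1, 2, 4]]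

set_option maxRecDepth 100000 in
theorem y_pow : ∀ i, y i ^ 5 = 1 ∧ y i ≠ 1 ∧ Perm.sign (y i) = 1 := by decide +kernel

set_option maxRecDepth 100000 in
theorem cover : ∀ τ : Perm (Fin 5), τ ^ 5 = 1 → τ ≠ 1 →
    ∃ i, τ = y i ∨ τ = (y i)⁻¹ ∨ τ = y i ^ 2 ∨ τ = (y i ^ 2)⁻¹ := by decide +kernel

set_option maxRecDepth 100000 in
theorem conj : ∀ g : Perm (Fin 5), Perm.sign g = 1 → ∀ i, ∃ j, g * y i * g⁻¹ = y j ∨
    g * y i * g⁻¹ = (y j)⁻¹ := by decide +kernel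

set_option maxRecDepth 100000 in
theorem pair : ∀ i j : Fin 6, i ≠ j → ∃ g : Perm (Fin 5), Perm.sign g = 1 ∧
    (g * y 0 * g⁻¹ = y i ∨ g * y 0 * g⁻¹ = (y i)⁻¹) ∧
    (g * y 1 * g⁻¹ = y j ∨ g * y 1 * g⁻¹ = (y j)⁻¹) := by decide +kernel

set_option maxRecDepth 100000 in
theorem inj : ∀ i j : Fin 6, (y i = y j ∨ y i = (y j)⁻¹) → i = j := by decide +kernel

end Cfsg.Agent.H909.AltFive
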