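import Mathlib

/-!
# Generation of alternating groups by Jordan's theorem (helper909)
-/

set_option autoImplicit false

namespace Cfsg.Agent.H909.AltGen

open Equiv MulAction

/-- A set of even permutations generating a 2-transitive group with a 3-cycle generates the alternating group. -/
theorem gen {n : ℕ} (S : Set (Perm (Fin n))) (hS : ∀ s ∈ S, Perm.sign s = 1) {i₀ j₀ : Fin n}
    (hij : i₀ ≠ j₀) (h2 : ∀ k l : Fin n, k ≠ l → ∃ g ∈ Subgroup.closure S, g i₀ = k ∧ g j₀ = l)
    {c : Perm (Fin n)} (hc : c ∈ Subgroup.closure S) (h3 : c.IsThreeCycle) :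
    Subgroup.closure S = alternatingGroup (Fin n) := by
  apply le_antisymm
  · rw [Subgroup.closure_le]
    intro s hs
    exact hS s hs
  · have h22 : IsMultiplyPretransitive (Subgroup.closure S) (Fin n) 2 := by
      rw [is_two_pretransitive_iff]
      intro a b k l hab hkl
      obtain ⟨g, hg, hg1, hg2⟩ := h2 a b hab
      obtain ⟨g', hg', hg1', hg2'⟩ := h2 k l hkl
      refine ⟨⟨g' * g⁻¹, mul_mem hg' (inv_mem hg)⟩, ?_, ?_⟩
      · change g' (g⁻¹ a) = k
        have h5 : g⁻¹ a = i₀ := by rw [← hg1]; exact Equiv.symm_apply_apply g i₀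
        rw [h5, hg1']
      · change g' (g⁻¹ b) = l
        have h5 : g⁻¹ b = j₀ := by rw [← hg2]; exact Equiv.symm_apply_apply g j₀
        rw [h5, hg2']
    exact Perm.alternatingGroup_le_of_isPreprimitive_of_isThreeCycle_mem
      (isPreprimitive_of_is_two_pretransitive h22) h3 hc

/-- the same in the alternating group itself -/
theorem gen' {n : ℕ} (S : Set (alternatingGroup (Fin n)))
    (h : Subgroup.closure ((fun x : alternatingGroup (Fin n) => (x : Perm (Fin n))) '' S) =
      alternatingGroup (Fin n)) : Subgroup.closure S = ⊤ := by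
  apply Subgroup.map_injective (alternatingGroup (Fin n)).subtype_injective
  rw [MonoidHom.map_closure, ← MonoidHom.range_eq_map, Subgroup.range_subtype]
  exact h

/-- nilpotent matrices -/
theorem nilp_pow {F : Type*} [Field F] {ι : Type*} [Fintype ι] [DecidableEq ι] {N : Matrix ι ι F}
    (h : IsNilpotent N) : N ^ Fintype.card ι = 0 := by
  have h1 := Matrix.isNilpotent_charpoly_sub_pow_of_isNilpotent h
  have h2 := sub_eq_zero.1 h1.eq_zero
  have h3 := Matrix.aeval_self_charpoly N
  rw [h2, map_pow, Polynomial.aeval_X] at h3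
  exact h3

end Cfsg.Agent.H909.AltGen
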