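import Mathlib
import Cfsg.Agent.H909.AltFive
import Cfsg.Agent.H909.AltGen

/-!
# Generation of `A₅` by two 5-cycles, and by two 3-cycles (helper909)
-/

set_option autoImplicit false

namespace Cfsg.Agent.H909.AltFive

open Equiv

set_option maxRecDepth 100000 in
theorem words : ∀ k l : Fin 5, k ≠ l → ∃ a b c : Fin 5,
    (y 0 ^ (a : ℕ) * y 1 ^ (b : ℕ) * y 0 ^ (c : ℕ)) 0 = k ∧
    (y 0 ^ (a : ℕ) * y 1 ^ (b : ℕ) * y 0 ^ (c : ℕ)) 1 = l := by decide +kernel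

theorem isThreeCycle_of {n : ℕ} {c : Perm (Fin n)} (h : c.support.card = 3) : c.IsThreeCycle :=
  card_support_eq_three_iff.1 h

theorem gen_y : Subgroup.closure ({y 0, y 1} : Set (Perm (Fin 5))) = alternatingGroup (Fin 5) := by
  have m0 : y 0 ∈ Subgroup.closure ({y 0, y 1} : Set (Perm (Fin 5))) :=
    Subgroup.subset_closure (by simp)
  have m1 : y 1 ∈ Subgroup.closure ({y 0, y 1} : Set (Perm (Fin 5))) :=
    Subgroup.subset_closure (by simp)
  refine AltGen.gen (i₀ := 0) (j₀ := 1) (c := y 0 * y 1 ^ 2) _ ?_ (by decide) ?_ ?_ ?_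
  · rintro s (rfl | rfl)
    · exact (y_pow 0).2.2
    · exact (y_pow 1).2.2
  · intro k l hkl
    obtain ⟨a, b, c, h1, h2⟩ := words k l hkl
    exact ⟨_, mul_mem (mul_mem (pow_mem m0 _) (pow_mem m1 _)) (pow_mem m0 _), h1, h2⟩
  · exact mul_mem m0 (pow_mem m1 _)
  · apply isThreeCycle_of
    decide +kernel

/-- two 3-cycles sharing one point -/
def x : Fin 2 → Perm (Fin 5) := ![List.formPerm [0, 1, 2], List.formPerm [2, 3, 4]]

set_option maxRecDepth 100000 in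
theorem words3 : ∀ k l : Fin 5, k ≠ l → ∃ a b c d e : Fin 3,
    (x 0 ^ (a : ℕ) * x 1 ^ (b : ℕ) * x 0 ^ (c : ℕ) * x 1 ^ (d : ℕ) * x 0 ^ (e : ℕ)) 0 = k ∧
    (x 0 ^ (a : ℕ) * x 1 ^ (b : ℕ) * x 0 ^ (c : ℕ) * x 1 ^ (d : ℕ) * x 0 ^ (e : ℕ)) 1 = l := by decide +kernel

theorem x_pow : ∀ i, x i ^ 3 = 1 ∧ x i ≠ 1 ∧ Perm.sign (x i) = 1 := by decide +kernel

theorem gen_x : Subgroup.closure ({x 0, x 1} : Set (Perm (Fin 5))) = alternatingGroup (Fin 5) := by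
  have m0 : x 0 ∈ Subgroup.closure ({x 0, x 1} : Set (Perm (Fin 5))) :=
    Subgroup.subset_closure (by simp)
  have m1 : x 1 ∈ Subgroup.closure ({x 0, x 1} : Set (Perm (Fin 5))) :=
    Subgroup.subset_closure (by simp)
  refine AltGen.gen (i₀ := 0) (j₀ := 1) (c := x 0) _ ?_ (by decide) ?_ ?_ ?_
  · rintro s (rfl | rfl)
    · exact (x_pow 0).2.2
    · exact (x_pow 1).2.2
  · intro k l hkl
    obtain ⟨a, b, c, d, e, h1, h2⟩ := words3 k l hkl
    exact ⟨_, mul_mem (mul_mem (mul_mem (mul_mem (pow_mem m0 _) (pow_mem m1 _)) (pow_mem m0 _))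
      (pow_mem m1 _)) (pow_mem m0 _), h1, h2⟩
  · exact m0
  · apply isThreeCycle_of
    decide +kernel

end Cfsg.Agent.H909.AltFive
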