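import Mathlib
import Cfsg.Prelude.Def_GeometricClasses
import Cfsg.Agent.H906.TraceField

/-!
# Groups generated modulo scalars by two quadratic elements (helper909)

`quad_pair`: if `P` is generated modulo scalars by `y₁, y₂` with `y_i + y_i⁻¹` scalar, then `P` is not absolutely
irreducible in dimension at least 3.
-/

set_option autoImplicit false

namespace Cfsg.Agent.H909.QuadPair

open Cfsg Cfsg.Geo Matrix Module

variable {F : Type*} [Field F] {ι : Type} [Fintype ι] [DecidableEq ι]

/-- the invertible matrices commuting with `M` -/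
def commSub (M : Matrix ι ι F) : Subgroup (GL ι F) where
  carrier := {g | M * (g : Matrix ι ι F) = (g : Matrix ι ι F) * M}
  one_mem' := by simp
  mul_mem' {a b} ha hb := by
    change M * ((a * b : GL ι F) : Matrix ι ι F) = ((a * b : GL ι F) : Matrix ι ι F) * M
    rw [Units.val_mul, ← mul_assoc, show M * (a : Matrix ι ι F) = a * M from ha, mul_assoc,
      show M * (b : Matrix ι ι F) = b * M from hb, mul_assoc]
  inv_mem' {a} ha := by
    change M * ((a⁻¹ : GL ι F) : Matrix ι ι F) = ((a⁻¹ : GL ι F) : Matrix ι ι F) * M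
    have h1 : M * (a : Matrix ι ι F) = a * M := ha
    calc M * ((a⁻¹ : GL ι F) : Matrix ι ι F)
        = ((a⁻¹ : GL ι F) : Matrix ι ι F) * ((a : Matrix ι ι F) * M) *
            ((a⁻¹ : GL ι F) : Matrix ι ι F) := by
          rw [← mul_assoc, ← Units.val_mul, inv_mul_cancel, Units.val_one, one_mul]
      _ = ((a⁻¹ : GL ι F) : Matrix ι ι F) * M := by
          rw [← h1, mul_assoc, mul_assoc, ← Units.val_mul, mul_inv_cancel, Units.val_one, mul_one]

theorem mem_commSub {M : Matrix ι ι F} {g : GL ι F} :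
    g ∈ commSub M ↔ M * (g : Matrix ι ι F) = (g : Matrix ι ι F) * M := Iff.rfl

theorem scalars_le_commSub (M : Matrix ι ι F) : scalars ι F ≤ commSub M := by
  intro g hg
  obtain ⟨c, hc⟩ := (mem_scalars_iff g).1 hg
  rw [mem_commSub, hc, Matrix.mul_smul, Matrix.smul_mul, mul_one, one_mul]

/-- A matrix commuting with generators of `P` modulo scalars is scalar. -/
theorem scalar_of_comm {P : Subgroup (GL ι F)} (habs : ActsAbsolutelyIrreducibly (matrixSet P))
    {S : Set (GL ι F)} (hgen : P ≤ Subgroup.closure S ⊔ scalars ι F) {M : Matrix ι ι F}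
    (hM : ∀ s ∈ S, M * (s : Matrix ι ι F) = (s : Matrix ι ι F) * M) :
    ∃ c : F, M = c • (1 : Matrix ι ι F) := by
  apply habs.2
  rintro _ ⟨g, hg, rfl⟩
  have h1 : Subgroup.closure S ⊔ scalars ι F ≤ commSub M :=
    sup_le ((Subgroup.closure_le _).2 fun s hs => hM s hs) (scalars_le_commSub M)
  exact h1 (hgen hg)

/-- the subalgebra-like space -/
theorem quad_pair {P : Subgroup (GL ι F)} (hι : 3 ≤ Fintype.card ι)
    (habs : ActsAbsolutelyIrreducibly (matrixSet P)) {y₁ y₂ : GL ι F} {c₁ c₂ : F}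
    (hgen : P ≤ Subgroup.closure {y₁, y₂} ⊔ scalars ι F)
    (h₁ : (y₁ : Matrix ι ι F) + ((y₁⁻¹ : GL ι F) : Matrix ι ι F) = c₁ • 1)
    (h₂ : (y₂ : Matrix ι ι F) + ((y₂⁻¹ : GL ι F) : Matrix ι ι F) = c₂ • 1) : False := by
  set A : Matrix ι ι F := (y₁ : Matrix ι ι F) with hA
  set B : Matrix ι ι F := (y₂ : Matrix ι ι F) with hB
  have hA' : ((y₁⁻¹ : GL ι F) : Matrix ι ι F) = c₁ • 1 - A := by rw [← h₁]; abel
  have hB' : ((y₂⁻¹ : GL ι F) : Matrix ι ι F) = c₂ • 1 - B := by rw [← h₂]; abel
  have hAA : A * A = c₁ • A - 1 := by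
    have h3 : A * ((y₁⁻¹ : GL ι F) : Matrix ι ι F) = 1 := by
      rw [hA, ← Units.val_mul, mul_inv_cancel, Units.val_one]
    rw [hA', mul_sub, Matrix.mul_smul, mul_one] at h3
    rw [← h3]; abel
  have hBB : B * B = c₂ • B - 1 := by
    have h3 : B * ((y₂⁻¹ : GL ι F) : Matrix ι ι F) = 1 := by
      rw [hB, ← Units.val_mul, mul_inv_cancel, Units.val_one]
    rw [hB', mul_sub, Matrix.mul_smul, mul_one] at h3
    rw [← h3]; abel
  set t : Matrix ι ι F := A * B + B * A - c₁ • B - c₂ • A with ht
  have htA : t * A = A * t := by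
    have e1 : t * A = A * B * A + B * (A * A) - c₁ • (B * A) - c₂ • (A * A) := by
      rw [ht]; simp only [sub_mul, add_mul, Matrix.smul_mul, mul_assoc]
    have e2 : A * t = A * A * B + A * B * A - c₁ • (A * B) - c₂ • (A * A) := by
      rw [ht]; simp only [mul_sub, mul_add, Matrix.mul_smul, mul_assoc]
    rw [e1, e2, hAA]
    simp only [sub_mul, mul_sub, Matrix.smul_mul, Matrix.mul_smul, one_mul, mul_one]
    abel
  have htB : t * B = B * t := by
    have e1 : t * B = A * (B * B) + B * A * B - c₁ • (B * B) - c₂ • (A * B) := by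
      rw [ht]; simp only [sub_mul, add_mul, Matrix.smul_mul, mul_assoc]
    have e2 : B * t = B * A * B + B * B * A - c₁ • (B * B) - c₂ • (B * A) := by
      rw [ht]; simp only [mul_sub, mul_add, Matrix.mul_smul, mul_assoc]
    rw [e1, e2, hBB]
    simp only [sub_mul, mul_sub, Matrix.smul_mul, Matrix.mul_smul, one_mul, mul_one]
    abel
  obtain ⟨τ, hτ⟩ := scalar_of_comm habs hgen (M := t) (by
    rintro s (rfl | hs)
    · exact htA
    · rw [Set.mem_singleton_iff] at hs; subst hs; exact htB)
  have hBA : B * A = τ • 1 - A * B + c₁ • B + c₂ • A := by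
    rw [← hτ, ht]; abel
  -- the space
  let S : Submodule F (Matrix ι ι F) := Submodule.span F (Set.range ![1, A, B, A * B])
  have m0 : (1 : Matrix ι ι F) ∈ S := Submodule.subset_span ⟨0, rfl⟩
  have m1 : A ∈ S := Submodule.subset_span ⟨1, rfl⟩
  have m2 : B ∈ S := Submodule.subset_span ⟨2, rfl⟩
  have m3 : A * B ∈ S := Submodule.subset_span ⟨3, rfl⟩
  have mA : ∀ x ∈ S, A * x ∈ S := by
    intro x hx
    refine Submodule.span_induction (p := fun x _ => A * x ∈ S) ?_ ?_ ?_ ?_ hx
    · rintro _ ⟨i, rfl⟩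
      fin_cases i
      · change A * 1 ∈ S; rw [mul_one]; exact m1
      · change A * A ∈ S; rw [hAA]; exact S.sub_mem (S.smul_mem _ m1) m0
      · exact m3
      · change A * (A * B) ∈ S
        rw [← mul_assoc, hAA, sub_mul, Matrix.smul_mul, one_mul]
        exact S.sub_mem (S.smul_mem _ m3) m2
    · rw [mul_zero]; exact S.zero_mem
    · intro x y _ _ hx hy; rw [mul_add]; exact S.add_mem hx hy
    · intro a x _ hx; rw [Matrix.mul_smul]; exact S.smul_mem _ hx
  have mB : ∀ x ∈ S, B * x ∈ S := by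
    intro x hx
    refine Submodule.span_induction (p := fun x _ => B * x ∈ S) ?_ ?_ ?_ ?_ hx
    · rintro _ ⟨i, rfl⟩
      fin_cases i
      · change B * 1 ∈ S; rw [mul_one]; exact m2
      · change B * A ∈ S; rw [hBA]
        exact S.add_mem (S.add_mem (S.sub_mem (S.smul_mem _ m0) m3) (S.smul_mem _ m2))
          (S.smul_mem _ m1)
      · change B * B ∈ S; rw [hBB]; exact S.sub_mem (S.smul_mem _ m2) m0
      · change B * (A * B) ∈ S
        have e : B * (A * B) = τ • B + A + c₁ • (c₂ • B) - c₁ • 1 := by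
          rw [← mul_assoc, hBA]
          simp only [sub_mul, add_mul, Matrix.smul_mul, one_mul, mul_assoc]
          rw [hBB]
          simp only [mul_sub, smul_sub, Matrix.mul_smul, mul_one]
          abel
        rw [e]
        exact S.sub_mem (S.add_mem (S.add_mem (S.smul_mem _ m2) m1)
          (S.smul_mem _ (S.smul_mem _ m2))) (S.smul_mem _ m0)
    · rw [mul_zero]; exact S.zero_mem
    · intro x y _ _ hx hy; rw [mul_add]; exact S.add_mem hx hy
    · intro a x _ hx; rw [Matrix.mul_smul]; exact S.smul_mem _ hx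
  -- the stabiliser of `S`
  let T : Subgroup (GL ι F) :=
    { carrier := {g | (∀ x ∈ S, (g : Matrix ι ι F) * x ∈ S) ∧
        ∀ x ∈ S, ((g⁻¹ : GL ι F) : Matrix ι ι F) * x ∈ S}
      one_mem' := by
        constructor <;> intro x hx
        · rw [Units.val_one, one_mul]; exact hx
        · rw [inv_one, Units.val_one, one_mul]; exact hx
      mul_mem' := by
        rintro a b ⟨ha, ha'⟩ ⟨hb, hb'⟩
        constructor <;> intro x hx
        · rw [Units.val_mul, mul_assoc]; exact ha _ (hb _ hx)
        · rw [_root_.mul_inv_rev, Units.val_mul, mul_assoc]; exact hb' _ (ha' _ hx)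
      inv_mem' := by
        rintro a ⟨ha, ha'⟩
        exact ⟨ha', by rw [inv_inv]; exact ha⟩ }
  have hPT : P ≤ T := by
    refine hgen.trans (sup_le ((Subgroup.closure_le _).2 ?_) ?_)
    · rintro s (rfl | hs)
      · refine ⟨mA, fun x hx => ?_⟩
        rw [hA', sub_mul, Matrix.smul_mul, one_mul]
        exact S.sub_mem (S.smul_mem _ hx) (mA x hx)
      · rw [Set.mem_singleton_iff] at hs; subst hs
        refine ⟨mB, fun x hx => ?_⟩
        rw [hB', sub_mul, Matrix.smul_mul, one_mul]
        exact S.sub_mem (S.smul_mem _ hx) (mB x hx)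
    · intro g hg
      have hg' := inv_mem hg
      obtain ⟨c, hc⟩ := (mem_scalars_iff g).1 hg
      obtain ⟨d, hd⟩ := (mem_scalars_iff g⁻¹).1 hg'
      refine ⟨fun x hx => ?_, fun x hx => ?_⟩
      · rw [hc, Matrix.smul_mul, one_mul]; exact S.smul_mem _ hx
      · rw [hd, Matrix.smul_mul, one_mul]; exact S.smul_mem _ hx
  have hspan := Cfsg.Agent.H920.span_eq_top habs
  have hle : Submodule.span F (matrixSet P) ≤ S := by
    rw [Submodule.span_le]
    rintro _ ⟨g, hg, rfl⟩
    have := (hPT hg).1 1 m0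
    rw [mul_one] at this
    exact this
  rw [hspan, top_le_iff] at hle
  have hfr : finrank F S ≤ 4 := by
    have := finrank_range_le_card (R := F) ![1, A, B, A * B]
    simpa [Set.finrank] using this
  rw [hle, finrank_top, Module.finrank_matrix, Module.finrank_self, mul_one] at hfr
  have : 3 * 3 ≤ Fintype.card ι * Fintype.card ι := Nat.mul_le_mul hι hι
  omega

end Cfsg.Agent.H909.QuadPair
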