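import Mathlib
import Cfsg.Prelude.Def_GeometricClasses
import Cfsg.Agent.ClassicalGeometry.SympBasic
import Cfsg.Agent.ClassicalGeometry.TwoFamilies
import Cfsg.Agent.H909.SpBasic
import Cfsg.Agent.H909.Inv

/-!
# Self-adjoint idempotents and commuting involutions in `Sp_4` (helper909)

* `rank_even`: a self-adjoint idempotent has even rank.
* `idem_mul`: two commuting self-adjoint idempotents of a 4-dimensional symplectic space.
* `invol_commute`: an involution of `Sp_4` commuting with `a ≠ ±1` is `±1` or `±a`.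
-/

set_option autoImplicit false

namespace Cfsg.Agent.H909

open Cfsg Cfsg.Geo Matrix Module
open Cfsg.Agent.ClassicalGeometry.SympBasic

variable {F : Type*} [Field F] {m : ℕ}

/-- `A` is self-adjoint for the standard symplectic form. -/
def SA (A : Matrix (Fin m ⊕ Fin m) (Fin m ⊕ Fin m) F) : Prop :=
  ∀ u v, sympForm m F (A *ᵥ u) v = sympForm m F u (A *ᵥ v)

theorem SA.one : SA (1 : Matrix (Fin m ⊕ Fin m) (Fin m ⊕ Fin m) F) := fun u v => by
  rw [Matrix.one_mulVec, Matrix.one_mulVec]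

theorem SA.zero : SA (0 : Matrix (Fin m ⊕ Fin m) (Fin m ⊕ Fin m) F) := fun u v => by
  rw [Matrix.zero_mulVec, Matrix.zero_mulVec]
  have h1 := sympForm_smul_left (0 : F) (0 : Fin m ⊕ Fin m → F) v
  have h2 := sympForm_smul_right (0 : F) u (0 : Fin m ⊕ Fin m → F)
  rw [zero_smul, zero_mul] at h1 h2
  rw [h1, h2]

theorem SA.add {A B : Matrix (Fin m ⊕ Fin m) (Fin m ⊕ Fin m) F} (hA : SA A) (hB : SA B) :
    SA (A + B) := fun u v => by
  rw [Matrix.add_mulVec, Matrix.add_mulVec, sympForm_add_left, sympForm_add_right, hA, hB]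

theorem SA.smul {A : Matrix (Fin m ⊕ Fin m) (Fin m ⊕ Fin m) F} (hA : SA A) (c : F) :
    SA (c • A) := fun u v => by
  rw [Matrix.smul_mulVec, Matrix.smul_mulVec, sympForm_smul_left, sympForm_smul_right, hA]

theorem SA.neg {A : Matrix (Fin m ⊕ Fin m) (Fin m ⊕ Fin m) F} (hA : SA A) : SA (-A) := by
  have := hA.smul (-1)
  rwa [neg_smul, one_smul] at this

theorem SA.sub {A B : Matrix (Fin m ⊕ Fin m) (Fin m ⊕ Fin m) F} (hA : SA A) (hB : SA B) :
    SA (A - B) := by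
  rw [sub_eq_add_neg]; exact hA.add hB.neg

theorem SA.mul_comm {A B : Matrix (Fin m ⊕ Fin m) (Fin m ⊕ Fin m) F} (hA : SA A) (hB : SA B)
    (h : A * B = B * A) : SA (A * B) := fun u v => by
  rw [← Matrix.mulVec_mulVec, hA, hB, Matrix.mulVec_mulVec, h]

theorem range_nondegenerate {E : Matrix (Fin m ⊕ Fin m) (Fin m ⊕ Fin m) F} (hE : SA E)
    (hid : E * E = E) : IsNondegenerateOn (sympForm m F) (LinearMap.range E.mulVecLin) := by
  have key : ∀ w ∈ LinearMap.range E.mulVecLin, w ≠ 0 →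
      ∃ x ∈ LinearMap.range E.mulVecLin, sympForm m F x w ≠ 0 := by
    rintro w ⟨y, rfl⟩ hne
    by_contra hcon
    push Not at hcon
    apply hne
    apply eq_zero_of_forall_sympForm_left
    intro x
    have h1 := hcon (E.mulVecLin x) ⟨x, rfl⟩
    rw [Matrix.mulVecLin_apply, Matrix.mulVecLin_apply, hE, Matrix.mulVec_mulVec, hid] at h1
    exact h1
  intro w hw hne
  obtain ⟨x, hx, hf⟩ := key w hw hne
  exact ⟨⟨x, hx, hf⟩, x, hx, by rwa [sympForm_swap, neg_ne_zero]⟩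

/-- A self-adjoint idempotent has even rank. -/
theorem rank_even {E : Matrix (Fin m ⊕ Fin m) (Fin m ⊕ Fin m) F} (hE : SA E)
    (hid : E * E = E) : ∃ k, E.rank = k + k :=
  finrank_even_of_nondegenerateOn (range_nondegenerate hE hid)

theorem eq_zero_of_rank {E : Matrix (Fin m ⊕ Fin m) (Fin m ⊕ Fin m) F} (h : E.rank = 0) :
    E = 0 := by
  have h1 : LinearMap.range E.mulVecLin = ⊥ := Submodule.finrank_eq_zero.1 h
  rw [LinearMap.range_eq_bot] at h1
  apply Matrix.toLin'.injective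
  rw [map_zero]
  exact h1

theorem eq_one_of_rank {E : Matrix (Fin m ⊕ Fin m) (Fin m ⊕ Fin m) F} (hid : E * E = E)
    (h : E.rank = m + m) : E = 1 := by
  have h1 : LinearMap.range E.mulVecLin = ⊤ := by
    apply Submodule.eq_top_of_finrank_eq
    rw [Module.finrank_fintype_fun_eq_card, Fintype.card_sum, Fintype.card_fin]
    exact h
  have key : ∀ v, E *ᵥ v = v := by
    intro v
    have hv : v ∈ LinearMap.range E.mulVecLin := by rw [h1]; trivial
    obtain ⟨y, rfl⟩ := hv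
    rw [Matrix.mulVecLin_apply, Matrix.mulVec_mulVec, hid]
  apply Matrix.toLin'.injective
  refine LinearMap.ext fun v => ?_
  rw [Matrix.toLin'_apply, Matrix.toLin'_apply, key, Matrix.one_mulVec]

theorem idem_mul {E E₁ : Matrix (Fin 2 ⊕ Fin 2) (Fin 2 ⊕ Fin 2) F} (hE : SA E) (hid : E * E = E)
    (hE₁ : SA E₁) (hid₁ : E₁ * E₁ = E₁) (h0 : E₁ ≠ 0) (h1 : E₁ ≠ 1) (hc : E₁ * E = E * E₁) :
    E₁ * E = 0 ∨ E₁ * E = E₁ := by
  have hSA := hE₁.mul_comm hE hc
  have hidm : E₁ * E * (E₁ * E) = E₁ * E := by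
    calc E₁ * E * (E₁ * E) = E₁ * (E * E₁) * E := by noncomm_ring
      _ = E₁ * E₁ * (E * E) := by rw [← hc]; noncomm_ring
      _ = _ := by rw [hid, hid₁]
  obtain ⟨k, hk⟩ := rank_even hE₁ hid₁
  obtain ⟨l, hl⟩ := rank_even hSA hidm
  have hle4 : E₁.rank ≤ 4 := by
    have := E₁.rank_le_card_width
    simpa using this
  have hk2 : E₁.rank = 2 := by
    have hk0 : E₁.rank ≠ 0 := fun h => h0 (eq_zero_of_rank h)
    have hk4 : E₁.rank ≠ 2 + 2 := fun h => h1 (eq_one_of_rank hid₁ h)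
    omega
  have hle : LinearMap.range (E₁ * E).mulVecLin ≤ LinearMap.range E₁.mulVecLin := by
    rintro _ ⟨y, rfl⟩
    exact ⟨E *ᵥ y, by rw [Matrix.mulVecLin_apply, Matrix.mulVecLin_apply, Matrix.mulVec_mulVec]⟩
  have hle' : (E₁ * E).rank ≤ E₁.rank := Submodule.finrank_mono hle
  rcases (by omega : l = 0 ∨ l = 1) with rfl | rfl
  · exact Or.inl (eq_zero_of_rank hl)
  · right
    have heq : LinearMap.range (E₁ * E).mulVecLin = LinearMap.range E₁.mulVecLin :=
      Submodule.eq_of_le_of_finrank_eq hle (by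
        change (E₁ * E).rank = E₁.rank
        omega)
    have key : ∀ v, (E₁ * E) *ᵥ (E₁ *ᵥ v) = E₁ *ᵥ v := by
      intro v
      have hv : E₁.mulVecLin v ∈ LinearMap.range (E₁ * E).mulVecLin := by
        rw [heq]; exact ⟨v, rfl⟩
      obtain ⟨y, hy⟩ := hv
      rw [Matrix.mulVecLin_apply, Matrix.mulVecLin_apply] at hy
      rw [← hy, Matrix.mulVec_mulVec, hidm]
    have h2 : E₁ * E * E₁ = E₁ := by
      apply Matrix.toLin'.injective
      refine LinearMap.ext fun v => ?_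
      rw [Matrix.toLin'_apply, Matrix.toLin'_apply, ← Matrix.mulVec_mulVec, key]
    have h3 : E₁ * E * E₁ = E₁ * E := by
      rw [mul_assoc, ← hc, ← mul_assoc, hid₁]
    rw [← h3, h2]

/-- An involution of `Sp_4` commuting with an involution `a ≠ ±1` is `±1` or `±a`. -/
theorem invol_commute (h2 : (2 : F) ≠ 0) {a b : Matrix (Fin 2 ⊕ Fin 2) (Fin 2 ⊕ Fin 2) F}
    (ha : SA a) (hb : SA b) (ha2 : a * a = 1) (hb2 : b * b = 1) (hab : a * b = b * a)
    (h1 : a ≠ 1) (h1' : a ≠ -1) : b = 1 ∨ b = -1 ∨ b = a ∨ b = -a := by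
  have hh : (2 : F)⁻¹ + (2 : F)⁻¹ = 1 := by rw [← two_mul, mul_inv_cancel₀ h2]
  have h4 : (2 : F)⁻¹ * (2 : F)⁻¹ * 2 = (2 : F)⁻¹ := by
    rw [mul_assoc, inv_mul_cancel₀ h2, mul_one]
  -- idempotents
  have key : ∀ c : Matrix (Fin 2 ⊕ Fin 2) (Fin 2 ⊕ Fin 2) F, c * c = 1 →
      ((2 : F)⁻¹ • (1 + c)) * ((2 : F)⁻¹ • (1 + c)) = (2 : F)⁻¹ • (1 + c) := by
    intro c hc
    rw [smul_mul_smul_comm]
    have h5 : (1 + c) * (1 + c) = (2 : F) • (1 + c) := by
      rw [two_smul]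
      calc (1 + c) * (1 + c) = 1 + c + (c + c * c) := by noncomm_ring
        _ = _ := by rw [hc]; abel
    rw [h5, smul_smul, h4]
  have hrec : ∀ c : Matrix (Fin 2 ⊕ Fin 2) (Fin 2 ⊕ Fin 2) F,
      c = (2 : F) • ((2 : F)⁻¹ • (1 + c)) - 1 := by
    intro c
    rw [smul_smul, mul_inv_cancel₀ h2, one_smul]; abel
  set E := (2 : F)⁻¹ • (1 + b) with hE
  set E₁ := (2 : F)⁻¹ • (1 + a) with hE₁
  set E₂ := (2 : F)⁻¹ • (1 + -a) with hE₂
  have ha2' : (-a) * (-a) = 1 := by rw [neg_mul_neg, ha2]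
  have hsum : E₁ + E₂ = 1 := by
    rw [hE₁, hE₂, ← smul_add]
    have : (1 : Matrix (Fin 2 ⊕ Fin 2) (Fin 2 ⊕ Fin 2) F) + a + (1 + -a) = (2 : F) • 1 := by
      rw [two_smul]; abel
    rw [this, smul_smul, inv_mul_cancel₀ h2, one_smul]
  have hn0 : ∀ c : Matrix (Fin 2 ⊕ Fin 2) (Fin 2 ⊕ Fin 2) F, c ≠ -1 →
      (2 : F)⁻¹ • (1 + c) ≠ 0 := by
    intro c hc h
    apply hc
    have := hrec c
    rw [h, smul_zero, zero_sub] at this
    exact this
  have hn1 : ∀ c : Matrix (Fin 2 ⊕ Fin 2) (Fin 2 ⊕ Fin 2) F, c ≠ 1 →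
      (2 : F)⁻¹ • (1 + c) ≠ 1 := by
    intro c hc h
    apply hc
    have := hrec c
    rw [h, two_smul, add_sub_cancel_right] at this
    exact this
  have hc1 : E₁ * E = E * E₁ := by
    rw [hE, hE₁, smul_mul_smul_comm, smul_mul_smul_comm]
    congr 1
    calc (1 + a) * (1 + b) = 1 + a + b + a * b := by noncomm_ring
      _ = (1 + b) * (1 + a) := by rw [hab]; noncomm_ring
  have hc2 : E₂ * E = E * E₂ := by
    have : E₂ = 1 - E₁ := by rw [← hsum]; abel
    rw [this, sub_mul, mul_sub, one_mul, mul_one, hc1]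
  have r1 := idem_mul (SA.smul (SA.one.add hb) _) (key b hb2) (SA.smul (SA.one.add ha) _)
    (key a ha2) (hn0 a h1') (hn1 a h1) hc1
  have r2 := idem_mul (SA.smul (SA.one.add hb) _) (key b hb2) (SA.smul (SA.one.add ha.neg) _)
    (key (-a) ha2') (hn0 (-a) (fun h => h1 (by rw [← neg_neg a, h, neg_neg])))
    (hn1 (-a) (fun h => h1' (by rw [← neg_neg a, h]))) hc2
  have hEE : E = E₁ * E + E₂ * E := by rw [← add_mul, hsum, one_mul]
  rcases r1 with r1 | r1 <;> rcases r2 with r2 | r2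
  · -- E = 0
    right; left
    have h6 : E = 0 := by rw [hEE, r1, r2, add_zero]
    rw [hrec b, ← hE, h6, smul_zero, zero_sub]
  · right; right; right
    have h6 : E = E₂ := by rw [hEE, r1, r2, zero_add]
    rw [hrec b, ← hE, h6, ← hrec (-a)]
  · right; right; left
    have h6 : E = E₁ := by rw [hEE, r1, r2, add_zero]
    rw [hrec b, ← hE, h6, ← hrec a]
  · left
    have h6 : E = 1 := by rw [hEE, r1, r2, hsum]
    rw [hrec b, ← hE, h6, two_smul, add_sub_cancel_right]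

/-- A symplectic involution is self-adjoint. -/
theorem SA.of_invol {g : GL (Fin m ⊕ Fin m) F} (hg : g ∈ spGL m F) (h : g * g = 1) :
    SA (g : Matrix (Fin m ⊕ Fin m) (Fin m ⊕ Fin m) F) := fun u v => by
  rw [sympForm_inv_right hg, inv_eq_of_mul_eq_one_left h]

/-- The group version of `invol_commute`. -/
theorem invol_commute_gl (h2 : (2 : F) ≠ 0) {a b : GL (Fin 2 ⊕ Fin 2) F}
    (ha : a ∈ spGL 2 F) (hb : b ∈ spGL 2 F) (ha2 : a * a = 1) (hb2 : b * b = 1)
    (hab : a * b = b * a) (h1 : a ≠ 1) (h1' : a ≠ -1) : b = 1 ∨ b = -1 ∨ b = a ∨ b = -a := by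
  have hv : ∀ x y : GL (Fin 2 ⊕ Fin 2) F, (x : Matrix (Fin 2 ⊕ Fin 2) (Fin 2 ⊕ Fin 2) F) = y →
      x = y := fun x y h => Units.ext h
  have := invol_commute h2 (SA.of_invol ha ha2) (SA.of_invol hb hb2)
    (by rw [← Units.val_mul, ha2, Units.val_one]) (by rw [← Units.val_mul, hb2, Units.val_one])
    (by rw [← Units.val_mul, hab, Units.val_mul])
    (fun h => h1 (hv _ _ (by rw [h, Units.val_one])))
    (fun h => h1' (hv _ _ (by rw [h, Units.val_neg, Units.val_one])))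
  rcases this with h | h | h | h
  · exact Or.inl (hv _ _ (by rw [h, Units.val_one]))
  · exact Or.inr (Or.inl (hv _ _ (by rw [h, Units.val_neg, Units.val_one])))
  · exact Or.inr (Or.inr (Or.inl (hv _ _ h)))
  · exact Or.inr (Or.inr (Or.inr (hv _ _ (by rw [h, Units.val_neg]))))

end Cfsg.Agent.H909
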