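import Mathlib
import Cfsg.Prelude.Def_GeometricClasses
import Cfsg.Agent.H909.SpInvol

/-!
# Six self-adjoint matrices permuted by `2.A₆ ≤ Sp₄(F)` (helper909)

`Six w α β`: six self-adjoint non-scalar matrices `w i` with `w i ^ 2 = α`, `w i * w j + w j * w i = 2 β`.
-/

set_option autoImplicit false

namespace Cfsg.Agent.H909

open Cfsg Cfsg.Geo Matrix Module
open Cfsg.Agent.ClassicalGeometry.SympBasic

variable {F : Type*} [Field F]

/-- conjugation -/
def cj (g : GL (Fin 2 ⊕ Fin 2) F) (M : Matrix (Fin 2 ⊕ Fin 2) (Fin 2 ⊕ Fin 2) F) :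
    Matrix (Fin 2 ⊕ Fin 2) (Fin 2 ⊕ Fin 2) F :=
  (g : Matrix (Fin 2 ⊕ Fin 2) (Fin 2 ⊕ Fin 2) F) * M *
    ((g⁻¹ : GL (Fin 2 ⊕ Fin 2) F) : Matrix (Fin 2 ⊕ Fin 2) (Fin 2 ⊕ Fin 2) F)

local notation "M4" => Matrix (Fin 2 ⊕ Fin 2) (Fin 2 ⊕ Fin 2)
local notation "G4" => GL (Fin 2 ⊕ Fin 2)

theorem inv_mul_coe (g : G4 F) : ((g⁻¹ : G4 F) : M4 F) * (g : M4 F) = 1 := by
  rw [← Units.val_mul, inv_mul_cancel, Units.val_one]

theorem mul_inv_coe (g : G4 F) : (g : M4 F) * ((g⁻¹ : G4 F) : M4 F) = 1 := by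
  rw [← Units.val_mul, mul_inv_cancel, Units.val_one]

theorem cj_one (M : M4 F) : cj 1 M = M := by simp [cj]

theorem cj_mul (g h : G4 F) (M : M4 F) : cj (g * h) M = cj g (cj h M) := by
  simp only [cj, Units.val_mul, _root_.mul_inv_rev, mul_assoc]

theorem cj_inv_cj (g : G4 F) (M : M4 F) : cj g⁻¹ (cj g M) = M := by
  rw [← cj_mul, inv_mul_cancel, cj_one]

theorem cj_smul (g : G4 F) (c : F) (M : M4 F) : cj g (c • M) = c • cj g M := by
  simp only [cj, Matrix.mul_smul, Matrix.smul_mul]

theorem cj_add (g : G4 F) (M N : M4 F) : cj g (M + N) = cj g M + cj g N := by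
  simp only [cj, mul_add, add_mul]

theorem cj_sub (g : G4 F) (M N : M4 F) : cj g (M - N) = cj g M - cj g N := by
  simp only [cj, mul_sub, sub_mul]

theorem cj_neg (g : G4 F) (M : M4 F) : cj g (-M) = - cj g M := by
  simp only [cj, mul_neg, neg_mul]

theorem cj_mul' (g : G4 F) (M N : M4 F) : cj g (M * N) = cj g M * cj g N := by
  simp only [cj]
  calc (g : M4 F) * (M * N) * ((g⁻¹ : G4 F) : M4 F)
      = (g : M4 F) * M * 1 * N * ((g⁻¹ : G4 F) : M4 F) := by noncomm_ring
    _ = _ := by rw [← inv_mul_coe g]; noncomm_ring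

theorem cj_scalar (g : G4 F) (c : F) : cj g (c • (1 : M4 F)) = c • 1 := by
  rw [cj_smul, cj, mul_one, mul_inv_coe]

theorem cj_eq_of_mul {g : G4 F} {M N : M4 F} (h : (g : M4 F) * M = N * g) : cj g M = N := by
  rw [cj, h, mul_assoc, mul_inv_coe, mul_one]

theorem mul_of_cj_eq {g : G4 F} {M N : M4 F} (h : cj g M = N) : (g : M4 F) * M = N * g := by
  rw [← h, cj, mul_assoc, inv_mul_coe, mul_one]

theorem cj_injective (g : G4 F) : Function.Injective (cj g) := fun M N h => by
  rw [← cj_inv_cj g M, h, cj_inv_cj]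

/-- six self-adjoint matrices -/
structure Six (w : Fin 6 → M4 F) (α β : F) : Prop where
  two : (2 : F) ≠ 0
  sa : ∀ i, SA (w i)
  sq : ∀ i, w i * w i = α • (1 : M4 F)
  mul : ∀ i j, i ≠ j → w i * w j + w j * w i = (2 * β) • (1 : M4 F)
  ne : α ≠ β
  ne' : α ≠ -β
  beta : β ≠ 0
  nonscalar : ∀ c : F, w 0 ≠ c • (1 : M4 F)

theorem smul_one_inj {a b : F} (h : a • (1 : M4 F) = b • 1) : a = b := by
  have := congrFun (congrFun h (Sum.inl 0)) (Sum.inl 0)
  simpa using this

theorem gg_inv {c : F} (hc : c ≠ 0) : c⁻¹ * c⁻¹ * c * c = 1 := by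
  field_simp

/-- the transvection-like map `x ↦ f(x, v) v` -/
def rk (v : Fin 2 ⊕ Fin 2 → F) : M4 F := Matrix.of fun i j => sympForm 2 F (Pi.single j 1) v * v i

theorem rk_mulVec (v x : Fin 2 ⊕ Fin 2 → F) : rk v *ᵥ x = sympForm 2 F x v • v := by
  have h1 : sympForm 2 F x v = ∑ j, x j * sympForm 2 F (Pi.single j 1) v := by
    conv_lhs => rw [← Finset.univ_sum_single x]
    have : ∀ s : Finset (Fin 2 ⊕ Fin 2), sympForm 2 F (∑ i ∈ s, Pi.single i (x i)) v =
        ∑ j ∈ s, x j * sympForm 2 F (Pi.single j 1) v := by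
      intro s
      induction s using Finset.induction_on with
      | empty =>
        rw [Finset.sum_empty, Finset.sum_empty]
        have := sympForm_smul_left (0 : F) (0 : Fin 2 ⊕ Fin 2 → F) v
        rwa [zero_smul, zero_mul] at this
      | insert a s ha ih =>
        rw [Finset.sum_insert ha, Finset.sum_insert ha, sympForm_add_left, ih]
        congr 1
        have e : (Pi.single a (x a) : Fin 2 ⊕ Fin 2 → F) = x a • Pi.single a 1 := by
          rw [← Pi.single_smul, smul_eq_mul, mul_one]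
        rw [e, sympForm_smul_left]
    exact this Finset.univ
  ext i
  rw [Matrix.mulVec, dotProduct, Pi.smul_apply, smul_eq_mul, h1, Finset.sum_mul]
  refine Finset.sum_congr rfl fun j _ => ?_
  rw [rk, Matrix.of_apply]; ring

/-- the symplectic transvection `x ↦ x + a f(x, v) v` -/
noncomputable def tv (v : Fin 2 ⊕ Fin 2 → F) (a : F) : G4 F where
  val := 1 + a • rk v
  inv := 1 + (-a) • rk v
  val_inv := by
    have e : rk v * rk v = 0 := by
      apply Matrix.toLin'.injective
      refine LinearMap.ext fun x => ?_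
      rw [Matrix.toLin'_apply, ← Matrix.mulVec_mulVec, rk_mulVec, rk_mulVec, sympForm_smul_left,
        sympForm_self, mul_zero, zero_smul, map_zero, LinearMap.zero_apply]
    have e2 : ∀ b c : F, (1 + b • rk v : M4 F) * (1 + c • rk v) =
        1 + (b + c) • rk v + (b * c) • (rk v * rk v) := by
      intro b c
      rw [mul_add, mul_one, add_mul, one_mul, smul_mul_smul_comm, add_smul]; abel
    rw [e2, e, smul_zero, add_zero, add_neg_cancel, zero_smul, add_zero]
  inv_val := by
    have e : rk v * rk v = 0 := by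
      apply Matrix.toLin'.injective
      refine LinearMap.ext fun x => ?_
      rw [Matrix.toLin'_apply, ← Matrix.mulVec_mulVec, rk_mulVec, rk_mulVec, sympForm_smul_left,
        sympForm_self, mul_zero, zero_smul, map_zero, LinearMap.zero_apply]
    have e2 : ∀ b c : F, (1 + b • rk v : M4 F) * (1 + c • rk v) =
        1 + (b + c) • rk v + (b * c) • (rk v * rk v) := by
      intro b c
      rw [mul_add, mul_one, add_mul, one_mul, smul_mul_smul_comm, add_smul]; abel
    rw [e2, e, smul_zero, add_zero, neg_add_cancel, zero_smul, add_zero]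

theorem tv_mem (v : Fin 2 ⊕ Fin 2 → F) (a : F) : tv v a ∈ spGL 2 F := by
  rw [mem_spGL_iff]
  intro x y
  change sympForm 2 F ((1 + a • rk v) *ᵥ x) ((1 + a • rk v) *ᵥ y) = _
  simp only [Matrix.add_mulVec, Matrix.one_mulVec, Matrix.smul_mulVec, rk_mulVec,
    sympForm_add_left, sympForm_add_right, sympForm_smul_left, sympForm_smul_right, sympForm_self]
  rw [sympForm_swap v y]
  ring

/-- For self-adjoint `A` the transvection `tv v a` moves `A` to `A + a D` with `D = [rk v, A]`. -/
theorem cj_tv {A : M4 F} (hA : SA A) (h2 : (2 : F) ≠ 0) (v : Fin 2 ⊕ Fin 2 → F) (a : F) :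
    cj (tv v a) A = A + a • (rk v * A - A * rk v) := by
  have e : rk v * A * rk v = 0 := by
    apply Matrix.toLin'.injective
    refine LinearMap.ext fun x => ?_
    have h0 : sympForm 2 F (A *ᵥ v) v = 0 := by
      have h1 := hA v v
      rw [sympForm_swap v (A *ᵥ v)] at h1
      have h3 : (2 : F) * sympForm 2 F (A *ᵥ v) v = 0 := by linear_combination h1
      exact (mul_eq_zero.1 h3).resolve_left h2
    rw [Matrix.toLin'_apply, ← Matrix.mulVec_mulVec, ← Matrix.mulVec_mulVec, rk_mulVec v x,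
      Matrix.mulVec_smul, rk_mulVec, sympForm_smul_left, h0, mul_zero, zero_smul, map_zero,
      LinearMap.zero_apply]
  change (1 + a • rk v) * A * (1 + (-a) • rk v) = _
  have e' : (1 + a • rk v) * A * (1 + (-a) • rk v) =
      A + a • (rk v * A - A * rk v) - (a * a) • (rk v * A * rk v) := by
    simp only [add_mul, mul_add, one_mul, mul_one, Matrix.smul_mul, Matrix.mul_smul, neg_smul,
      smul_sub, smul_smul, mul_neg]
    abel
  rw [e', e, smul_zero, sub_zero]

/-- The commutator is non-zero for some `v` if `A` is not scalar. -/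
theorem exists_comm_ne {A : M4 F} (hns : ∀ c : F, A ≠ c • (1 : M4 F)) :
    ∃ v : Fin 2 ⊕ Fin 2 → F, rk v * A - A * rk v ≠ 0 := by
  by_contra hcon
  push Not at hcon
  -- every vector is an eigenvector
  have key : ∀ v : Fin 2 ⊕ Fin 2 → F, ∃ c : F, A *ᵥ v = c • v := by
    intro v
    by_cases hv : v = 0
    · exact ⟨0, by rw [hv, Matrix.mulVec_zero, smul_zero]⟩
    · have h1 := hcon v
      obtain ⟨x, hx⟩ : ∃ x, sympForm 2 F x v ≠ 0 := by
        by_contra hc
        push Not at hc
        exact hv (eq_zero_of_forall_sympForm_left hc)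
      have h2 : (rk v * A - A * rk v) *ᵥ x = 0 := by rw [h1, Matrix.zero_mulVec]
      rw [Matrix.sub_mulVec, ← Matrix.mulVec_mulVec, ← Matrix.mulVec_mulVec, rk_mulVec, rk_mulVec,
        Matrix.mulVec_smul, sub_eq_zero] at h2
      refine ⟨(sympForm 2 F x v)⁻¹ * sympForm 2 F (A *ᵥ x) v, ?_⟩
      rw [mul_smul, h2, smul_smul, inv_mul_cancel₀ hx, one_smul]
  obtain ⟨c, hc⟩ := LinearMap.exists_eq_smul_id_of_forall_notLinearIndependent
    (f := Matrix.toLin' A) (fun v => by
      intro hli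
      obtain ⟨c, hc⟩ := key v
      rw [LinearIndependent.pair_iff] at hli
      have := hli c (-1) (by rw [Matrix.toLin'_apply, hc]; simp)
      simp at this)
  apply hns c
  apply Matrix.toLin'.injective
  rw [hc, map_smul, Matrix.toLin'_one]
  rfl

namespace Six

variable {w : Fin 6 → M4 F} {α β : F}

/-- `2α - 2β` -/
def gam (α β : F) : F := 2 * α - 2 * β

theorem gam_ne (h : Six w α β) : gam α β ≠ 0 := by
  rw [gam, ← mul_sub]
  exact mul_ne_zero h.two (sub_ne_zero.2 h.ne)

theorem inj (h : Six w α β) : Function.Injective w := by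
  intro i j hij
  by_contra hne
  have h1 := h.mul i j hne
  rw [← hij, h.sq, ← two_smul F (α • (1 : M4 F)), smul_smul] at h1
  exact h.ne (mul_left_cancel₀ h.two (smul_one_inj h1))

theorem diff_sq (h : Six w α β) {i j : Fin 6} (hij : i ≠ j) :
    (w i - w j) * (w i - w j) = gam α β • (1 : M4 F) := by
  have e : (w i - w j) * (w i - w j) = w i * w i + w j * w j - (w i * w j + w j * w i) := by
    noncomm_ring
  rw [e, h.sq, h.sq, h.mul i j hij, gam, sub_smul, ← two_smul F (α • (1 : M4 F)), smul_smul]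

theorem swap_rel (h : Six w α β) (i j m : Fin 6) (hij : i ≠ j) :
    (w i - w j) * w m = -(w (Equiv.swap i j m) * (w i - w j)) := by
  by_cases hmi : m = i
  · subst hmi
    rw [Equiv.swap_apply_left, sub_mul, mul_sub, h.sq, h.sq]; abel
  by_cases hmj : m = j
  · subst hmj
    rw [Equiv.swap_apply_right, sub_mul, mul_sub, h.sq, h.sq]; abel
  rw [Equiv.swap_apply_of_ne_of_ne hmi hmj, sub_mul, mul_sub]
  have h1 := h.mul i m (Ne.symm hmi)
  have h2 := h.mul j m (Ne.symm hmj)
  have e1 : w i * w m = (2 * β) • (1 : M4 F) - w m * w i := by rw [← h1]; abel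
  have e2 : w j * w m = (2 * β) • (1 : M4 F) - w m * w j := by rw [← h2]; abel
  rw [e1, e2]; abel

/-- the element of `Sp₄(F)` inducing `swap i j * swap k l` -/
noncomputable def el (h : Six w α β) {i j k l : Fin 6} (hij : i ≠ j) (hkl : k ≠ l) : G4 F where
  val := (gam α β)⁻¹ • ((w i - w j) * (w k - w l))
  inv := (gam α β)⁻¹ • ((w k - w l) * (w i - w j))
  val_inv := by
    rw [smul_mul_smul_comm]
    have e : (w i - w j) * (w k - w l) * ((w k - w l) * (w i - w j)) =
        (w i - w j) * ((w k - w l) * (w k - w l)) * (w i - w j) := by noncomm_ring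
    rw [e, h.diff_sq hkl, Matrix.mul_smul, mul_one, Matrix.smul_mul, h.diff_sq hij, smul_smul,
      smul_smul, gg_inv h.gam_ne, one_smul]
  inv_val := by
    rw [smul_mul_smul_comm]
    have e : (w k - w l) * (w i - w j) * ((w i - w j) * (w k - w l)) =
        (w k - w l) * ((w i - w j) * (w i - w j)) * (w k - w l) := by noncomm_ring
    rw [e, h.diff_sq hij, Matrix.mul_smul, mul_one, Matrix.smul_mul, h.diff_sq hkl, smul_smul,
      smul_smul, gg_inv h.gam_ne, one_smul]

theorem el_mem (h : Six w α β) {i j k l : Fin 6} (hij : i ≠ j) (hkl : k ≠ l) :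
    h.el hij hkl ∈ spGL 2 F := by
  rw [mem_spGL_iff]
  intro u v
  change sympForm 2 F (((gam α β)⁻¹ • ((w i - w j) * (w k - w l))) *ᵥ u)
    (((gam α β)⁻¹ • ((w i - w j) * (w k - w l))) *ᵥ v) = _
  have s1 : SA (w i - w j) := (h.sa i).sub (h.sa j)
  have s2 : SA (w k - w l) := (h.sa k).sub (h.sa l)
  rw [Matrix.smul_mulVec, Matrix.smul_mulVec, sympForm_smul_left, sympForm_smul_right,
    ← Matrix.mulVec_mulVec, ← Matrix.mulVec_mulVec, s1, s2, Matrix.mulVec_mulVec,
    Matrix.mulVec_mulVec, Matrix.mulVec_mulVec]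
  have e : (w k - w l) * ((w i - w j) * ((w i - w j) * (w k - w l))) =
      (w k - w l) * ((w i - w j) * (w i - w j)) * (w k - w l) := by noncomm_ring
  have e' : (w k - w l) * (w i - w j) * (w i - w j) * (w k - w l) =
      (w k - w l) * ((w i - w j) * (w i - w j)) * (w k - w l) := by noncomm_ring
  simp only [← mul_assoc]
  rw [e', h.diff_sq hij, Matrix.mul_smul, mul_one, Matrix.smul_mul, h.diff_sq hkl, smul_smul,
    Matrix.smul_mulVec, Matrix.one_mulVec, sympForm_smul_right]
  field_simp [h.gam_ne]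

theorem cj_el (h : Six w α β) {i j k l : Fin 6} (hij : i ≠ j) (hkl : k ≠ l) (m : Fin 6) :
    cj (h.el hij hkl) (w m) = w ((Equiv.swap i j * Equiv.swap k l) m) := by
  apply cj_eq_of_mul
  change ((gam α β)⁻¹ • ((w i - w j) * (w k - w l))) * w m =
    w _ * ((gam α β)⁻¹ • ((w i - w j) * (w k - w l)))
  rw [Matrix.smul_mul, Matrix.mul_smul, mul_assoc, h.swap_rel k l m hkl, mul_neg, ← mul_assoc,
    h.swap_rel i j _ hij, neg_mul, neg_neg, mul_assoc, Equiv.Perm.mul_apply]

end Six

end Cfsg.Agent.H909
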