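import Mathlib
import Cfsg.Prelude.Def_GeometricClasses
import Cfsg.Agent.H909.SpInvol
import Cfsg.Agent.H909.SixSys

/-!
# Self-adjoint matrices of degree 4 satisfy quadratic equations (helper909)

`SA.quad`: `A * A = t • A - n • 1` with `2 t = tr A`.  `SA.trace_zero_of_sq`, the polar form.
-/

set_option autoImplicit false

namespace Cfsg.Agent.H909

open Cfsg Cfsg.Geo Matrix Module
open Cfsg.Agent.ClassicalGeometry.SympBasic

variable {F : Type*} [Field F]

local notation "M4" => Matrix (Fin 2 ⊕ Fin 2) (Fin 2 ⊕ Fin 2)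
local notation "G4" => GL (Fin 2 ⊕ Fin 2)

/-- the entries of a self-adjoint matrix -/
theorem SA.entries {A : M4 F} (hA : SA A) (i j : Fin 2) :
    A (Sum.inr i) (Sum.inr j) = A (Sum.inl j) (Sum.inl i) ∧
    A (Sum.inl i) (Sum.inr j) = - A (Sum.inl j) (Sum.inr i) ∧
    A (Sum.inr i) (Sum.inl j) = - A (Sum.inr j) (Sum.inl i) := by
  have h := (adjoint_iff A A).1 hA
  have h1 := congrFun (congrFun h (Sum.inr j)) (Sum.inl i)
  have h2 := congrFun (congrFun h (Sum.inr i)) (Sum.inr j)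
  have h3 := congrFun (congrFun h (Sum.inl i)) (Sum.inl j)
  simp only [Matrix.mul_apply, Matrix.transpose_apply, Fintype.sum_sum_type, Matrix.J,
    Matrix.fromBlocks_apply₁₁, Matrix.fromBlocks_apply₁₂, Matrix.fromBlocks_apply₂₁,
    Matrix.fromBlocks_apply₂₂, Matrix.zero_apply, Matrix.neg_apply, Matrix.one_apply, mul_zero,
    zero_mul, Finset.sum_const_zero, zero_add, add_zero, mul_neg, neg_mul, mul_ite, mul_one,
    ite_mul, one_mul, Finset.sum_neg_distrib, Finset.sum_ite_eq, Finset.sum_ite_eq',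
    Finset.mem_univ, if_true] at h1 h2 h3
  refine ⟨?_, ?_, ?_⟩
  · fin_cases i <;> fin_cases j <;> simpa using h1
  · fin_cases i <;> fin_cases j <;> simpa using h2.symm
  · have h4 : A (Sum.inr j) (Sum.inl i) = - A (Sum.inr i) (Sum.inl j) := by
      fin_cases i <;> fin_cases j <;> simpa using h3
    rw [h4, neg_neg]

theorem add_self_zero {a : F} (h2 : (2 : F) ≠ 0) (h : a = -a) : a = 0 := by
  have h1 : (2 : F) * a = 0 := by linear_combination h
  exact (mul_eq_zero.1 h1).resolve_left h2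

/-- The quadratic equation. -/
theorem SA.quad (h2 : (2 : F) ≠ 0) {A : M4 F} (hA : SA A) :
    ∃ t n : F, A * A = t • A - n • (1 : M4 F) ∧ A.trace = 2 * t := by
  have r := fun i j => (hA.entries i j).1
  have u := fun i j => (hA.entries i j).2.1
  have v := fun i j => (hA.entries i j).2.2
  have u0 := add_self_zero h2 (u 0 0)
  have u1 := add_self_zero h2 (u 1 1)
  have v0 := add_self_zero h2 (v 0 0)
  have v1 := add_self_zero h2 (v 1 1)
  have u10 := u 1 0
  have v10 := v 1 0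
  have r00 := r 0 0
  have r01 := r 0 1
  have r10 := r 1 0
  have r11 := r 1 1
  refine ⟨A (Sum.inl 0) (Sum.inl 0) + A (Sum.inl 1) (Sum.inl 1),
    A (Sum.inl 0) (Sum.inl 0) * A (Sum.inl 1) (Sum.inl 1) -
      A (Sum.inl 0) (Sum.inl 1) * A (Sum.inl 1) (Sum.inl 0) +
      A (Sum.inl 0) (Sum.inr 1) * A (Sum.inr 0) (Sum.inl 1), ?_, ?_⟩
  · ext i j
    rw [Matrix.mul_apply, Matrix.sub_apply, Matrix.smul_apply, Matrix.smul_apply]
    simp only [Fintype.sum_sum_type, Fin.sum_univ_two]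
    rcases i with i | i <;> rcases j with j | j <;> fin_cases i <;> fin_cases j <;>
      simp [r00, r01, r10, r11, u0, u1, v0, v1, u10, v10, Matrix.one_apply] <;> ring
  · rw [Matrix.trace]
    simp only [Fintype.sum_sum_type, Fin.sum_univ_two, Matrix.diag_apply, r00, r11]
    ring

theorem four_ne (h2 : (2 : F) ≠ 0) : (4 : F) ≠ 0 := by
  have : (4 : F) = 2 * 2 := by norm_num
  rw [this]; exact mul_ne_zero h2 h2

theorem trace_smul_one (c : F) : (c • (1 : M4 F)).trace = 4 * c := by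
  rw [Matrix.trace_smul, Matrix.trace_one]
  simp; ring

/-- A self-adjoint matrix of trace zero has a scalar square. -/
theorem SA.sq_scalar (h2 : (2 : F) ≠ 0) {A : M4 F} (hA : SA A) (ht : A.trace = 0) :
    ∃ c : F, A * A = c • (1 : M4 F) := by
  obtain ⟨t, n, h1, h3⟩ := hA.quad h2
  rw [ht] at h3
  have h4 : t = 0 := (mul_eq_zero.1 h3.symm).resolve_left h2
  rw [h4, zero_smul, zero_sub, ← neg_smul] at h1
  exact ⟨_, h1⟩

/-- A non-scalar self-adjoint matrix with a scalar square has trace zero. -/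
theorem SA.trace_zero (h2 : (2 : F) ≠ 0) {A : M4 F} (hA : SA A) {c : F}
    (hs : A * A = c • (1 : M4 F)) (hns : ∀ c : F, A ≠ c • (1 : M4 F)) : A.trace = 0 := by
  obtain ⟨t, n, h1, h3⟩ := hA.quad h2
  rw [hs] at h1
  by_cases ht : t = 0
  · rw [h3, ht, mul_zero]
  · exfalso
    apply hns (t⁻¹ * (c + n))
    have h4 : t • A = (c + n) • (1 : M4 F) := by rw [add_smul, h1]; abel
    rw [mul_smul, ← h4, smul_smul, inv_mul_cancel₀ ht, one_smul]

/-- the polar form: the anticommutator is scalar -/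
theorem SA.anti_scalar (h2 : (2 : F) ≠ 0) {A B : M4 F} (hA : SA A) (hB : SA B)
    (hta : A.trace = 0) (htb : B.trace = 0) :
    ∃ c : F, A * B + B * A = (2 * c) • (1 : M4 F) := by
  obtain ⟨a, ha⟩ := hA.sq_scalar h2 hta
  obtain ⟨b, hb⟩ := hB.sq_scalar h2 htb
  obtain ⟨d, hd⟩ := (hA.add hB).sq_scalar h2 (by rw [Matrix.trace_add, hta, htb, add_zero])
  refine ⟨2⁻¹ * (d - a - b), ?_⟩
  rw [← mul_assoc, mul_inv_cancel₀ h2, one_mul, sub_smul, sub_smul, ← hd, ← ha, ← hb]
  noncomm_ring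

theorem cj_trace (g : G4 F) (A : M4 F) : (cj g A).trace = A.trace := by
  rw [cj, Matrix.trace_mul_cycle, inv_mul_coe, one_mul]

/-- Conjugation by symplectic matrices preserves self-adjointness. -/
theorem SA.cj {g : G4 F} (hg : g ∈ spGL 2 F) {A : M4 F} (hA : SA A) : SA (cj g A) := by
  intro u v
  have h1 := hA (((g⁻¹ : G4 F) : M4 F) *ᵥ u) (((g⁻¹ : G4 F) : M4 F) *ᵥ v)
  rw [← sympForm_inv_right hg, ] at h1
  have h3 := mem_spGL_iff.1 hg (((g⁻¹ : G4 F) : M4 F) *ᵥ u) (A *ᵥ (((g⁻¹ : G4 F) : M4 F) *ᵥ v))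
  rw [Cfsg.Agent.H909.cj, ← Matrix.mulVec_mulVec, ← Matrix.mulVec_mulVec, ← Matrix.mulVec_mulVec,
    ← Matrix.mulVec_mulVec, h1, ← h3, Matrix.mulVec_mulVec (M := (g : M4 F))
      (N := ((g⁻¹ : G4 F) : M4 F)), mul_inv_coe, Matrix.one_mulVec]

/-- `y + y⁻¹` is self-adjoint. -/
theorem SA.add_inv {y : G4 F} (hy : y ∈ spGL 2 F) :
    SA ((y : M4 F) + ((y⁻¹ : G4 F) : M4 F)) := by
  intro u v
  have h1 := sympForm_inv_right hy u v
  have h2 := sympForm_inv_right ((spGL 2 F).inv_mem hy) u v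
  rw [inv_inv] at h2
  rw [Matrix.add_mulVec, Matrix.add_mulVec, sympForm_add_left, sympForm_add_right, h1, h2]
  ring

end Cfsg.Agent.H909
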