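import Mathlib
import Cfsg.Prelude.Def_GeometricClasses
import Cfsg.Agent.H909.SAQuad
import Cfsg.Agent.H909.QuadPair

/-!
# An orbit of six self-adjoint matrices is a `Six` system (helper909)
-/

set_option autoImplicit false

namespace Cfsg.Agent.H909

open Cfsg Cfsg.Geo Matrix Module
open Cfsg.Agent.ClassicalGeometry.SympBasic

variable {F : Type*} [Field F]

local notation "M4" => Matrix (Fin 2 ⊕ Fin 2) (Fin 2 ⊕ Fin 2)
local notation "G4" => GL (Fin 2 ⊕ Fin 2)

/-- six self-adjoint matrices of trace zero permuted by `P` -/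
structure Orb (P : Subgroup (G4 F)) (w : Fin 6 → M4 F) (α : F) : Prop where
  two : (2 : F) ≠ 0
  three : (3 : F) ≠ 0
  habs : ActsAbsolutelyIrreducibly (matrixSet P)
  sa : ∀ i, SA (w i)
  tr : ∀ i, (w i).trace = 0
  sq : ∀ i, w i * w i = α • (1 : M4 F)
  ns : ∀ c : F, w 0 ≠ c • (1 : M4 F)
  perm : ∀ g ∈ P, ∃ π : Equiv.Perm (Fin 6), ∀ i, cj g (w i) = w (π i)
  pair : ∀ i j, i ≠ j → ∃ g ∈ P, cj g (w 0) = w i ∧ cj g (w 1) = w j

/-- A matrix fixed under conjugation by an absolutely irreducible `P` is scalar. -/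
theorem scalar_of_cj {P : Subgroup (G4 F)} (habs : ActsAbsolutelyIrreducibly (matrixSet P))
    {M : M4 F} (h : ∀ g ∈ P, cj g M = M) : ∃ c : F, M = c • (1 : M4 F) := by
  apply habs.2
  rintro _ ⟨g, hg, rfl⟩
  exact (mul_of_cj_eq (h g hg)).symm

theorem cj_sum {ι : Type*} (g : G4 F) (s : Finset ι) (f : ι → M4 F) :
    cj g (∑ i ∈ s, f i) = ∑ i ∈ s, cj g (f i) := by
  simp only [cj, Finset.mul_sum, Finset.sum_mul]

/-- pairwise anticommuting matrices of square zero have a common kernel vector -/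
theorem common_kernel {ι : Type*} (w : ι → M4 F) (s : Finset ι)
    (hsq : ∀ i ∈ s, w i * w i = 0) (hanti : ∀ i ∈ s, ∀ j ∈ s, i ≠ j → w i * w j = -(w j * w i)) :
    ∃ v : Fin 2 ⊕ Fin 2 → F, v ≠ 0 ∧ ∀ i ∈ s, w i *ᵥ v = 0 := by
  classical
  induction s using Finset.induction_on with
  | empty => exact ⟨Pi.single (Sum.inl 0) 1, by simp, by simp⟩
  | insert a s ha ih =>
    obtain ⟨v, hv, hvi⟩ := ih (fun i hi => hsq i (Finset.mem_insert_of_mem hi))
      (fun i hi j hj => hanti i (Finset.mem_insert_of_mem hi) j (Finset.mem_insert_of_mem hj))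
    by_cases h0 : w a *ᵥ v = 0
    · refine ⟨v, hv, fun i hi => ?_⟩
      rcases Finset.mem_insert.1 hi with rfl | hi
      · exact h0
      · exact hvi i hi
    · refine ⟨w a *ᵥ v, h0, fun i hi => ?_⟩
      rcases Finset.mem_insert.1 hi with rfl | hi
      · rw [Matrix.mulVec_mulVec, hsq _ (Finset.mem_insert_self _ _), Matrix.zero_mulVec]
      · have hne : i ≠ a := fun h => ha (h ▸ hi)
        rw [Matrix.mulVec_mulVec, hanti i (Finset.mem_insert_of_mem hi) a
          (Finset.mem_insert_self _ _) hne, Matrix.neg_mulVec, ← Matrix.mulVec_mulVec, hvi i hi,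
          Matrix.mulVec_zero, neg_zero]

namespace Orb

variable {P : Subgroup (G4 F)} {w : Fin 6 → M4 F} {α : F}

theorem sum_eq (h : Orb P w α) : ∑ i, w i = 0 := by
  obtain ⟨c, hc⟩ := scalar_of_cj h.habs (M := ∑ i, w i) (by
    intro g hg
    obtain ⟨π, hπ⟩ := h.perm g hg
    rw [cj_sum, Finset.sum_congr rfl fun i _ => hπ i, Equiv.sum_comp π w])
  have h1 := congrArg Matrix.trace hc
  rw [Matrix.trace_sum, Finset.sum_eq_zero fun i _ => h.tr i, trace_smul_one] at h1
  have h2 : c = 0 := (mul_eq_zero.1 h1.symm).resolve_left (four_ne h.two)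
  rw [hc, h2, zero_smul]

theorem exists_beta (h : Orb P w α) :
    ∃ β : F, (∀ i j, i ≠ j → w i * w j + w j * w i = (2 * β) • (1 : M4 F)) ∧ α + 5 * β = 0 := by
  obtain ⟨β, hβ⟩ := (h.sa 0).anti_scalar h.two (h.sa 1) (h.tr 0) (h.tr 1)
  have hall : ∀ i j, i ≠ j → w i * w j + w j * w i = (2 * β) • (1 : M4 F) := by
    intro i j hij
    obtain ⟨g, -, h1, h2⟩ := h.pair i j hij
    rw [← h1, ← h2, ← cj_mul', ← cj_mul', ← cj_add, hβ, cj_scalar]
  refine ⟨β, hall, ?_⟩
  have h1 : w 0 * (∑ i, w i) + (∑ i, w i) * w 0 = 0 := by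
    rw [h.sum_eq, mul_zero, zero_mul, add_zero]
  rw [Finset.mul_sum, Finset.sum_mul, ← Finset.sum_add_distrib] at h1
  simp only [Fin.sum_univ_six] at h1
  rw [hall 0 1 (by decide), hall 0 2 (by decide), hall 0 3 (by decide), hall 0 4 (by decide),
    hall 0 5 (by decide), h.sq] at h1
  have h2 : (2 * (α + 5 * β)) • (1 : M4 F) = (0 : F) • 1 := by
    rw [zero_smul, ← h1]
    simp only [← add_smul]
    congr 1; ring
  exact (mul_eq_zero.1 (smul_one_inj h2)).resolve_left h.two

theorem six (h : Orb P w α) : ∃ β : F, Six w α β ∧ α + 5 * β = 0 := by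
  obtain ⟨β, hβ, h5⟩ := h.exists_beta
  have hβ0 : β ≠ 0 := by
    intro h0
    have hα : α = 0 := by rw [h0, mul_zero, add_zero] at h5; exact h5
    have hsq : ∀ i, w i * w i = 0 := fun i => by rw [h.sq, hα, zero_smul]
    have hanti : ∀ i j, i ≠ j → w i * w j = -(w j * w i) := by
      intro i j hij
      have := hβ i j hij
      rw [h0, mul_zero, zero_smul] at this
      exact eq_neg_of_add_eq_zero_left this
    obtain ⟨v, hv, hvi⟩ := common_kernel w Finset.univ (fun i _ => hsq i)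
      (fun i _ j _ => hanti i j)
    let U : Submodule F (Fin 2 ⊕ Fin 2 → F) := ⨅ i, LinearMap.ker (w i).mulVecLin
    have hU : U = ⊥ ∨ U = ⊤ := by
      apply h.habs.1
      rintro _ ⟨g, hg, rfl⟩ x ⟨y, hy, rfl⟩
      rw [SetLike.mem_coe, Submodule.mem_iInf] at hy
      rw [Submodule.mem_iInf]
      intro i
      obtain ⟨π, hπ⟩ := h.perm g hg
      have h1 := mul_of_cj_eq (hπ (π.symm i))
      rw [Equiv.apply_symm_apply] at h1
      have h2 := hy (π.symm i)
      rw [LinearMap.mem_ker, Matrix.mulVecLin_apply] at h2 ⊢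
      rw [Matrix.toLin'_apply, Matrix.mulVec_mulVec, ← h1, ← Matrix.mulVec_mulVec, h2,
        Matrix.mulVec_zero]
    rcases hU with hU | hU
    · apply hv
      have : v ∈ U := by
        rw [Submodule.mem_iInf]
        intro i
        rw [LinearMap.mem_ker, Matrix.mulVecLin_apply]
        exact hvi i (Finset.mem_univ i)
      rw [hU] at this
      exact (Submodule.mem_bot F).1 this
    · apply h.ns 0
      rw [zero_smul]
      apply Matrix.toLin'.injective
      refine LinearMap.ext fun x => ?_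
      have : x ∈ U := hU ▸ Submodule.mem_top
      rw [Submodule.mem_iInf] at this
      have h2 := this 0
      rw [LinearMap.mem_ker, Matrix.mulVecLin_apply] at h2
      rw [Matrix.toLin'_apply, h2, map_zero, LinearMap.zero_apply]
  have h6 : (6 : F) ≠ 0 := by
    have : (6 : F) = 2 * 3 := by norm_num
    rw [this]; exact mul_ne_zero h.two h.three
  refine ⟨β, ⟨h.two, h.sa, h.sq, hβ, ?_, ?_, hβ0, h.ns⟩, h5⟩
  · intro hab
    have : (6 : F) * β = 0 := by rw [hab] at h5; linear_combination h5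
    exact hβ0 ((mul_eq_zero.1 this).resolve_left h6)
  · intro hab
    have : (4 : F) * β = 0 := by rw [hab] at h5; linear_combination h5
    exact hβ0 ((mul_eq_zero.1 this).resolve_left (four_ne h.two))

end Orb

end Cfsg.Agent.H909
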