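import Mathlib
import Cfsg.Prelude.Def_GeometricClasses
import Cfsg.Agent.H909.SixOrb

/-!
# A maximal subgroup of `Sp₄(F)` preserving a `Six` system up to signs contains `2.A₆` (helper909)
-/

set_option autoImplicit false

namespace Cfsg.Agent.H909

open Cfsg Cfsg.Geo Matrix Module
open Cfsg.Agent.ClassicalGeometry.SympBasic

variable {F : Type*} [Field F]

local notation "M4" => Matrix (Fin 2 ⊕ Fin 2) (Fin 2 ⊕ Fin 2)
local notation "G4" => GL (Fin 2 ⊕ Fin 2)

/-- the stabiliser in `Sp₄` of a set of matrices under conjugation -/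
def stabS (S : Set (M4 F)) : Subgroup (G4 F) where
  carrier := {g | g ∈ spGL 2 F ∧ ∀ M, M ∈ S ↔ cj g M ∈ S}
  one_mem' := ⟨one_mem _, fun M => by rw [cj_one]⟩
  mul_mem' {a b} ha hb := ⟨mul_mem ha.1 hb.1, fun M => by rw [cj_mul, ← ha.2, ← hb.2]⟩
  inv_mem' {a} ha := ⟨inv_mem ha.1, fun M => by
    rw [ha.2 (cj a⁻¹ M), ← cj_mul, mul_inv_cancel, cj_one]⟩

theorem stabS_le (S : Set (M4 F)) : stabS S ≤ spGL 2 F := fun _ h => h.1

theorem mem_stabS_of {S : Set (M4 F)} (hS : S.Finite) {g : G4 F} (hg : g ∈ spGL 2 F)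
    (h : ∀ M ∈ S, cj g M ∈ S) : g ∈ stabS S := by
  refine ⟨hg, fun M => ⟨h M, fun hM => ?_⟩⟩
  have h1 : cj g '' S = S := by
    apply Set.eq_of_subset_of_ncard_le _ _ hS
    · rintro _ ⟨N, hN, rfl⟩; exact h N hN
    · rw [Set.ncard_image_of_injective S (cj_injective g)]
  rw [← h1] at hM
  obtain ⟨N, hN, hNM⟩ := hM
  rwa [← cj_injective g hNM]

/-- A maximal subgroup inside a proper stabiliser equals it. -/
theorem eq_stabS {H : Subgroup (G4 F)} (hmax : IsMaximalIn (spGL 2 F) H) {S : Set (M4 F)}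
    (hS : S.Finite) (hHS : ∀ g ∈ H, ∀ M ∈ S, cj g M ∈ S)
    {v : Fin 2 ⊕ Fin 2 → F} {a : F} {M : M4 F} (hM : M ∈ S) (hv : cj (tv v a) M ∉ S)
    {g : G4 F} (hg : g ∈ spGL 2 F) (hgS : ∀ M ∈ S, cj g M ∈ S) : g ∈ H := by
  have h1 : H ≤ stabS S := fun x hx => mem_stabS_of hS (hmax.1.le hx) (hHS x hx)
  rcases hmax.2 (stabS S) h1 (stabS_le S) with h2 | h2
  · rw [← h2]; exact mem_stabS_of hS hg hgS
  · exfalso
    apply hv
    have h3 : tv v a ∈ stabS S := h2 ▸ tv_mem v a
    exact (h3.2 M).1 hM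

theorem alt_le_of_swaps {n : ℕ} (K : Subgroup (Equiv.Perm (Fin n)))
    (h : ∀ i j k l, i ≠ j → k ≠ l → Equiv.swap i j * Equiv.swap k l ∈ K) :
    alternatingGroup (Fin n) ≤ K := by
  have key : ∀ f : Equiv.Perm (Fin n), (Equiv.Perm.sign f = 1 → f ∈ K) ∧
      (Equiv.Perm.sign f = -1 → ∀ i j, i ≠ j → Equiv.swap i j * f ∈ K) := by
    intro f
    induction f using Equiv.Perm.swap_induction_on with
    | one => exact ⟨fun _ => one_mem K, fun h1 => by simp at h1⟩
    | swap_mul f x y hxy ih =>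
      rw [Equiv.Perm.sign_mul, Equiv.Perm.sign_swap hxy]
      refine ⟨fun h1 => ?_, fun h1 i j hij => ?_⟩
      · apply ih.2 _ x y hxy
        rw [neg_one_mul] at h1
        rw [← h1, neg_neg]
      · rw [← mul_assoc]
        apply K.mul_mem (h i j x y hij hxy) (ih.1 _)
        rw [neg_one_mul, neg_inj] at h1
        exact h1
  intro f hf
  exact (key f).1 hf

namespace Six

variable {w : Fin 6 → M4 F} {α β : F}

/-- the group permuting the six matrices -/
def Perms (_ : Six w α β) : Subgroup (G4 F) where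
  carrier := {g | ∃ π : Equiv.Perm (Fin 6), ∀ i, cj g (w i) = w (π i)}
  one_mem' := ⟨1, fun i => by rw [cj_one]; rfl⟩
  mul_mem' {a b} := by
    rintro ⟨π, hπ⟩ ⟨ρ, hρ⟩
    exact ⟨π * ρ, fun i => by rw [cj_mul, hρ, hπ]; rfl⟩
  inv_mem' {a} := by
    rintro ⟨π, hπ⟩
    exact ⟨π⁻¹, fun i => by
      have h1 := hπ (π⁻¹ i)
      have h2 : π (π⁻¹ i) = i := Equiv.apply_symm_apply π i
      rw [h2] at h1
      rw [← h1, cj_inv_cj]⟩

/-- the permutation of an element -/
noncomputable def rho (h : Six w α β) : h.Perms →* Equiv.Perm (Fin 6) where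
  toFun g := g.2.choose
  map_one' := by
    apply Equiv.ext
    intro i
    apply h.inj
    have h1 := (1 : h.Perms).2.choose_spec i
    rw [← h1]
    exact cj_one _
  map_mul' a b := by
    apply Equiv.ext
    intro i
    apply h.inj
    have h1 := (a * b).2.choose_spec i
    have h2 := b.2.choose_spec i
    have h3 := a.2.choose_spec (b.2.choose i)
    rw [← h1, Equiv.Perm.mul_apply, ← h3, ← h2, ← cj_mul]
    rfl

theorem rho_spec (h : Six w α β) (g : h.Perms) (i : Fin 6) :
    cj (g : G4 F) (w i) = w (h.rho g i) := g.2.choose_spec i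

theorem rho_eq (h : Six w α β) (g : h.Perms) {π : Equiv.Perm (Fin 6)}
    (hπ : ∀ i, cj (g : G4 F) (w i) = w (π i)) : h.rho g = π := by
  apply Equiv.ext
  intro i
  apply h.inj
  rw [← h.rho_spec, hπ]

/-- the values of the polar form with `w 0` -/
theorem pol (h : Six w α β) (i : Fin 6) :
    w 0 * w i + w i * w 0 = (2 * (if i = 0 then α else β)) • (1 : M4 F) := by
  split_ifs with hi
  · rw [hi, h.sq, ← two_smul F (α • (1 : M4 F)), smul_smul]
  · exact h.mul 0 i (Ne.symm hi)

/-- The set `{± w i}` is not preserved by all transvections. -/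
theorem exists_tv (h : Six w α β) : ∃ (v : Fin 2 ⊕ Fin 2 → F) (a : F),
    ¬ ∃ j, cj (tv v a) (w 0) = w j ∨ cj (tv v a) (w 0) = - w j := by
  obtain ⟨v, hv⟩ := exists_comm_ne h.nonscalar
  set D := rk v * w 0 - w 0 * rk v with hD
  by_contra hcon
  push Not at hcon
  have hc := fun a => hcon v a
  simp only [cj_tv (h.sa 0) h.two, ← hD] at hc
  -- `D` is orthogonal to `w 0`
  have hsq : ∀ a : F, (w 0 + a • D) * (w 0 + a • D) = α • (1 : M4 F) := by
    intro a
    rcases hc a with ⟨j, hj | hj⟩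
    · rw [hj, h.sq]
    · rw [hj, neg_mul_neg, h.sq]
  have e : ∀ a : F, (w 0 + a • D) * (w 0 + a • D) =
      w 0 * w 0 + a • (w 0 * D + D * w 0) + (a * a) • (D * D) := by
    intro a
    rw [add_mul, mul_add, mul_add, Matrix.mul_smul, Matrix.smul_mul, smul_mul_smul_comm, smul_add]
    abel
  have h1 := hsq 1
  have h2 := hsq (-1)
  rw [e, h.sq] at h1 h2
  rw [one_smul, mul_one, one_smul] at h1
  rw [neg_smul, one_smul, neg_mul_neg, mul_one, one_smul] at h2
  have hor : w 0 * D + D * w 0 = 0 := by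
    have h3 : (2 : F) • (w 0 * D + D * w 0) = 0 := by
      rw [two_smul]
      have := congrArg₂ (· - ·) h1 h2
      simp only [sub_self] at this
      rw [← this]; abel
    exact (smul_eq_zero.1 h3).resolve_left h.two
  -- the values
  have hval : ∀ a : F, w 0 * (w 0 + a • D) + (w 0 + a • D) * w 0 = (2 * α) • (1 : M4 F) := by
    intro a
    have : w 0 * (w 0 + a • D) + (w 0 + a • D) * w 0 =
        w 0 * w 0 + w 0 * w 0 + a • (w 0 * D + D * w 0) := by
      rw [mul_add, add_mul, Matrix.mul_smul, Matrix.smul_mul, smul_add]; abel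
    rw [this, hor, smul_zero, add_zero, h.sq, ← two_smul F (α • (1 : M4 F)), smul_smul]
  have key : ∀ a : F, a • D = 0 ∨ a • D = -(2 : F) • w 0 := by
    intro a
    have hv1 := hval a
    rcases hc a with ⟨j, hj | hj⟩
    · rw [hj, h.pol] at hv1
      by_cases hj0 : j = 0
      · left
        rw [hj0] at hj
        simpa using hj
      · exfalso
        rw [if_neg hj0] at hv1
        exact h.ne (mul_left_cancel₀ h.two (smul_one_inj hv1)).symm
    · rw [hj, mul_neg, neg_mul, ← neg_add, h.pol, ← neg_smul] at hv1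
      by_cases hj0 : j = 0
      · right
        rw [hj0] at hj
        have : a • D = - w 0 - w 0 := by rw [← hj]; abel
        rw [this, neg_smul, two_smul]; abel
      · exfalso
        rw [if_neg hj0] at hv1
        have h3 := smul_one_inj hv1
        apply h.ne'
        apply mul_left_cancel₀ h.two
        rw [← h3]; ring
  have k1 := key 1
  have k2 := key (-1)
  rw [one_smul] at k1
  rw [neg_smul, one_smul] at k2
  have hDne : D ≠ 0 := hv
  rcases k1 with k1 | k1
  · exact hDne k1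
  rcases k2 with k2 | k2
  · exact hDne (neg_eq_zero.1 k2)
  · have h3 : (4 : F) • w 0 = 0 := by
      have h4 : D + D = 0 := by
        have : D = - -D := (neg_neg D).symm
        nth_rewrite 2 [this]
        rw [k2, ← k1]; abel
      have h5 : (2 : F) • D = 0 := by rw [two_smul, h4]
      exact absurd ((smul_eq_zero.1 h5).resolve_left h.two) hDne
    apply h.nonscalar 0
    rw [zero_smul]
    exact (smul_eq_zero.1 h3).resolve_left (four_ne h.two)

theorem finite_set (w : Fin 6 → M4 F) : {M : M4 F | ∃ j, M = w j ∨ M = - w j}.Finite := by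
  have : {M : M4 F | ∃ j, M = w j ∨ M = - w j} = Set.range w ∪ Set.range (fun j => - w j) := by
    ext M
    simp only [Set.mem_ofPred_eq, Set.mem_union, Set.mem_range]
    constructor
    · rintro ⟨j, h | h⟩
      · exact Or.inl ⟨j, h.symm⟩
      · exact Or.inr ⟨j, h.symm⟩
    · rintro (⟨j, h⟩ | ⟨j, h⟩)
      · exact ⟨j, Or.inl h.symm⟩
      · exact ⟨j, Or.inr h.symm⟩
  rw [this]
  exact (Set.finite_range w).union (Set.finite_range _)

/-- the elements `el` lie in `H` -/
theorem el_mem_max (h : Six w α β) {H : Subgroup (G4 F)} (hmax : IsMaximalIn (spGL 2 F) H)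
    (hpm : ∀ g ∈ H, ∀ i, ∃ j, cj g (w i) = w j ∨ cj g (w i) = - w j)
    {i j k l : Fin 6} (hij : i ≠ j) (hkl : k ≠ l) : h.el hij hkl ∈ H := by
  obtain ⟨v, a, hva⟩ := h.exists_tv
  refine eq_stabS hmax (finite_set w) (M := w 0) ?_ ⟨0, Or.inl rfl⟩ hva (h.el_mem hij hkl) ?_
  · rintro g hg M ⟨m, rfl | rfl⟩
    · exact hpm g hg m
    · obtain ⟨n, hn | hn⟩ := hpm g hg m
      · exact ⟨n, Or.inr (by rw [cj_neg, hn])⟩
      · exact ⟨n, Or.inl (by rw [cj_neg, hn, neg_neg])⟩
  · rintro M ⟨m, rfl | rfl⟩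
    · exact ⟨_, Or.inl (h.cj_el hij hkl m)⟩
    · exact ⟨_, Or.inr (by rw [cj_neg, h.cj_el hij hkl m])⟩

/-- The main result: `P` induces the full alternating group on the six matrices. -/
theorem main (h : Six w α β) {H P : Subgroup (G4 F)} (hmax : IsMaximalIn (spGL 2 F) H)
    (hn : ∀ g ∈ H, ∀ x ∈ P, g * x * g⁻¹ ∈ P) (hperf : ⁅P, P⁆ = P)
    (habs : ActsAbsolutelyIrreducibly (matrixSet P))
    (hpm : ∀ g ∈ H, ∀ i, ∃ j, cj g (w i) = w j ∨ cj g (w i) = - w j)
    (hP : P ≤ h.Perms) :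
    ∀ σ ∈ alternatingGroup (Fin 6), ∃ g ∈ P, ∀ i, cj g (w i) = w (σ i) := by
  classical
  let f : P →* Equiv.Perm (Fin 6) := h.rho.comp (Subgroup.inclusion hP)
  have hf : ∀ (g : P) i, cj (g : G4 F) (w i) = w (f g i) := fun g i =>
    h.rho_spec (Subgroup.inclusion hP g) i
  have hf' : ∀ (g : P) {π : Equiv.Perm (Fin 6)}, (∀ i, cj (g : G4 F) (w i) = w (π i)) →
      f g = π := fun g π hπ => h.rho_eq (Subgroup.inclusion hP g) hπ
  set N : Subgroup (Equiv.Perm (Fin 6)) := f.range with hN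
  have hnorm : alternatingGroup (Fin 6) ≤ Subgroup.normalizer (N : Set (Equiv.Perm (Fin 6))) := by
    apply alt_le_of_swaps
    intro i j k l hij hkl
    rw [Subgroup.mem_normalizer_iff]
    have key : ∀ (i j k l : Fin 6) (hij : i ≠ j) (hkl : k ≠ l), ∀ n ∈ N,
        Equiv.swap i j * Equiv.swap k l * n * (Equiv.swap i j * Equiv.swap k l)⁻¹ ∈ N := by
      rintro i j k l hij hkl _ ⟨x, rfl⟩
      refine ⟨⟨h.el hij hkl * (x : G4 F) * (h.el hij hkl)⁻¹,
        hn _ (h.el_mem_max hmax hpm hij hkl) _ x.2⟩, ?_⟩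
      apply hf'
      intro m
      change cj (h.el hij hkl * (x : G4 F) * (h.el hij hkl)⁻¹) (w m) = _
      have h1 : cj (h.el hij hkl)⁻¹ (w m) =
          w ((Equiv.swap i j * Equiv.swap k l)⁻¹ m) := by
        have h2 := h.cj_el hij hkl ((Equiv.swap i j * Equiv.swap k l)⁻¹ m)
        have h3 : (Equiv.swap i j * Equiv.swap k l : Equiv.Perm (Fin 6))
            ((Equiv.swap i j * Equiv.swap k l)⁻¹ m) = m := Equiv.apply_symm_apply _ m
        rw [h3] at h2
        rw [← h2, cj_inv_cj]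
      rw [cj_mul, cj_mul, h1, hf, h.cj_el]
      rfl
    intro n
    refine ⟨key i j k l hij hkl n, fun hc => ?_⟩
    have h1 := key k l i j hkl hij _ hc
    have e : (Equiv.swap k l * Equiv.swap i j : Equiv.Perm (Fin 6)) =
        (Equiv.swap i j * Equiv.swap k l)⁻¹ := by
      rw [_root_.mul_inv_rev, Equiv.swap_inv, Equiv.swap_inv]
    rw [e] at h1
    have e2 : (Equiv.swap i j * Equiv.swap k l)⁻¹ *
        (Equiv.swap i j * Equiv.swap k l * n * (Equiv.swap i j * Equiv.swap k l)⁻¹) *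
        ((Equiv.swap i j * Equiv.swap k l)⁻¹)⁻¹ = n := by group
    rwa [e2] at h1
  -- `N` is perfect, so even
  have hperfP : commutator P = ⊤ := by
    rw [commutator_def]
    apply Subgroup.map_injective P.subtype_injective
    rw [Subgroup.map_commutator, ← MonoidHom.range_eq_map, Subgroup.range_subtype]
    exact hperf
  have hNA : N ≤ alternatingGroup (Fin 6) := by
    rintro _ ⟨x, rfl⟩
    have h1 : commutator P ≤ (Equiv.Perm.sign.comp f).ker := Abelianization.commutator_subset_ker _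
    rw [hperfP] at h1
    exact h1 (Subgroup.mem_top x)
  have hnor : (N.subgroupOf (alternatingGroup (Fin 6))).Normal :=
    Subgroup.normal_subgroupOf_of_le_normalizer hnorm
  have hsim : IsSimpleGroup (alternatingGroup (Fin 6)) :=
    alternatingGroup.isSimpleGroup (by simp)
  rcases hnor.eq_bot_or_eq_top with hb | ht
  · exfalso
    have h1 : N = ⊥ := by
      rw [eq_bot_iff]
      intro x hx
      have h2 : (⟨x, hNA hx⟩ : alternatingGroup (Fin 6)) ∈
          N.subgroupOf (alternatingGroup (Fin 6)) := Subgroup.mem_subgroupOf.2 hx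
      rw [hb, Subgroup.mem_bot] at h2
      exact congrArg Subtype.val h2
    obtain ⟨c, hc⟩ := scalar_of_cj habs (M := w 0) (by
      intro g hg
      have h2 : f ⟨g, hg⟩ ∈ N := ⟨_, rfl⟩
      rw [h1, Subgroup.mem_bot] at h2
      have h3 := hf ⟨g, hg⟩ 0
      rw [h2] at h3
      exact h3)
    exact h.nonscalar c hc
  · intro σ hσ
    have h2 : (⟨σ, hσ⟩ : alternatingGroup (Fin 6)) ∈ N.subgroupOf (alternatingGroup (Fin 6)) :=
      ht ▸ Subgroup.mem_top _
    obtain ⟨x, hx⟩ := Subgroup.mem_subgroupOf.1 h2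
    refine ⟨x, x.2, fun i => ?_⟩
    rw [hf, hx]

end Six

end Cfsg.Agent.H909
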