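import Cfsg.Agent.GH.FinalMain
import Cfsg.Agent.GH.FinalStmts
import Cfsg.Agent.GH.BranchC2
import Cfsg.Agent.GH.Cov.Cut
import Cfsg.Agent.LFour.ExtAll

/-!
# Simple groups of sectional 2-rank at most 4 with a double cover of sectional 2-rank at most 4 (helper909)
-/

set_option autoImplicit false

namespace Cfsg.Agent.H909.KFour

open Cfsg Cfsg.Agent.GH.Defs Cfsg.Agent

universe u

/-- All finite simple groups of sectional 2-rank at most 4 (isomorphism list). -/
theorem k4 (G : Type u) [Group G] [Finite G] [IsSimpleGroup G] (hna : ¬ IsMulCommutative G)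
    (h4 : SectionalPRankLE 2 4 G) : K4 G :=
  GH.FinalInputs.k4
    (GH.FinalStmts.stmts fun _ _ _ _ _ _ _ hF S P e => LFour.ExtAll.conclR hF S P e)
    (GH.FinalMain.gh_of GH.BranchC2.branchC2) G hna h4

/-- The simple groups with a double cover of sectional 2-rank at most 4. -/
theorem surv {Y X : Type u} [Group Y] [Finite Y] [Group X] [Finite X] [IsSimpleGroup X]
    (hna : ¬ IsMulCommutative X) (hperf : commutator Y = ⊤) (f : Y →* X)
    (hf : Function.Surjective f) (hk : Nat.card f.ker = 2) (hr : SectionalPRankLE 2 4 Y) :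
    GH.Cov.Cut.Surv X :=
  GH.Cov.Cut.cut hperf f hf hk hr (k4 X hna (GH.Rank.of_surjective hr f hf))

end Cfsg.Agent.H909.KFour
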