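import Mathlib

/-!
# Double covers without commuting non-central involutions (helper909)

`TwoCov f c`: `f : Y → X` is onto with kernel `{1, c}`, `c` a central involution, and two commuting involutions
`a, b` of `Y` with `a ∉ {1, c}` satisfy `b ∈ {1, c, a, ca}` (as in `Sp_4(q)`, `q` odd).

* `TwoCov.klein`: a Klein four-subgroup of `X` contains an involution which does not lift to an involution.
* `TwoCov.eight`: no elementary abelian subgroup of order 8 of `X` with all involutions conjugate.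
* `TwoCov.quat_four`: no involution of `X` is both in a quaternion group and in a Klein four-group permuted by an
  element of order 3.
* `TwoCov.alt_four`: lifts of `A_4 ≤ X`.
-/

set_option autoImplicit false

namespace Cfsg.Agent.H909

universe u v

/-- double cover with few commuting involutions -/
structure TwoCov {Y : Type u} {X : Type v} [Group Y] [Group X] (f : Y →* X) (c : Y) : Prop where
  ne : c ≠ 1
  sq : c * c = 1
  cen : ∀ x : Y, c * x = x * c
  surj : Function.Surjective f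
  ker : ∀ x, f x = 1 ↔ x = 1 ∨ x = c
  two : ∀ a b : Y, a * a = 1 → b * b = 1 → a * b = b * a → a ≠ 1 → a ≠ c →
    b = 1 ∨ b = c ∨ b = a ∨ b = c * a

namespace TwoCov

variable {Y : Type u} {X : Type v} [Group Y] [Group X] {f : Y →* X} {c : Y}

theorem map_c (h : TwoCov f c) : f c = 1 := (h.ker c).2 (Or.inr rfl)

theorem eq_or (h : TwoCov f c) {x y : Y} (hxy : f x = f y) : x = y ∨ x = c * y := by
  have h1 : f (x * y⁻¹) = 1 := by rw [map_mul, map_inv, hxy, mul_inv_cancel]
  rcases (h.ker _).1 h1 with h2 | h2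
  · left; exact mul_inv_eq_one.1 h2
  · right; exact mul_inv_eq_iff_eq_mul.1 h2

theorem c_mul_c_mul (h : TwoCov f c) (x : Y) : c * (c * x) = x := by
  rw [← mul_assoc, h.sq, one_mul]

theorem sq_c_mul (h : TwoCov f c) (x : Y) : c * x * (c * x) = x * x := by
  calc c * x * (c * x) = x * c * (c * x) := by rw [h.cen x]
    _ = x * (c * (c * x)) := by rw [mul_assoc]
    _ = x * x := by rw [h.c_mul_c_mul]

/-- `x` lifts to involutions (or to `1`, `c`). -/
def LI (f : Y →* X) (x : X) : Prop := ∀ y : Y, f y = x → y * y = 1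

theorem LI.of_lift (h : TwoCov f c) {y : Y} (hy : y * y = 1) : LI f (f y) := by
  intro z hz
  rcases h.eq_or hz with rfl | rfl
  · exact hy
  · rw [h.sq_c_mul, hy]

theorem LI.conj (h : TwoCov f c) {x : X} (hx : LI f x) (g : X) : LI f (g * x * g⁻¹) := by
  obtain ⟨y, rfl⟩ := h.surj x
  obtain ⟨k, rfl⟩ := h.surj g
  rw [← map_inv, ← map_mul, ← map_mul]
  apply LI.of_lift h
  have := hx y rfl
  calc k * y * k⁻¹ * (k * y * k⁻¹) = k * (y * y) * k⁻¹ := by group
    _ = 1 := by rw [this]; group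

theorem LI.isConj (h : TwoCov f c) {x y : X} (hx : LI f x) (hxy : IsConj x y) : LI f y := by
  obtain ⟨g, hg⟩ := isConj_iff.1 hxy
  rw [← hg]; exact hx.conj h g

/-- squares of lifts of an involution -/
theorem sq_lift (h : TwoCov f c) {y : Y} (hy : f y * f y = 1) : y * y = 1 ∨ y * y = c :=
  (h.ker _).1 (by rw [map_mul, hy])

theorem sq_lift_of_not (h : TwoCov f c) {y : Y} (hy : f y * f y = 1) (hn : ¬ LI f (f y)) :
    y * y = c := by
  rcases h.sq_lift hy with h1 | h1
  · exact absurd (LI.of_lift h h1) hn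
  · exact h1

theorem klein (h : TwoCov f c) {x y : X} (hx : LI f x) (hy : LI f y) (hxy : LI f (x * y))
    (hx1 : x ≠ 1) (hy1 : y ≠ 1) (hne : x ≠ y) : False := by
  obtain ⟨a, rfl⟩ := h.surj x
  obtain ⟨b, rfl⟩ := h.surj y
  have ha := hx a rfl
  have hb := hy b rfl
  have hab := hxy (a * b) (map_mul f a b)
  have hcomm : a * b = b * a := by
    have ha' : a⁻¹ = a := inv_eq_of_mul_eq_one_left ha
    have hb' : b⁻¹ = b := inv_eq_of_mul_eq_one_left hb
    have hab' : (a * b)⁻¹ = a * b := inv_eq_of_mul_eq_one_left hab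
    rw [← hab', mul_inv_rev, ha', hb']
  rcases h.two a b ha hb hcomm (fun h1 => hx1 (by rw [h1, map_one]))
    (fun h1 => hx1 (by rw [h1, h.map_c])) with h1 | h1 | h1 | h1
  · exact hy1 (by rw [h1, map_one])
  · exact hy1 (by rw [h1, h.map_c])
  · exact hne (by rw [h1])
  · exact hne (by rw [h1, map_mul, h.map_c, one_mul])

theorem inv_of_sq (h : TwoCov f c) {a : Y} (ha : a * a = c) : a⁻¹ = c * a := by
  rw [inv_eq_iff_mul_eq_one, ← mul_assoc, ← h.cen, mul_assoc, ha, h.sq]

/-- two elements of order 4 with a product of order 4 anticommute -/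
theorem anti (h : TwoCov f c) {a b : Y} (ha : a * a = c) (hb : b * b = c)
    (hab : a * b * (a * b) = c) : a * b = c * (b * a) := by
  have h1 : (a * b)⁻¹ = c * (a * b) := h.inv_of_sq hab
  rw [mul_inv_rev, h.inv_of_sq ha, h.inv_of_sq hb] at h1
  have h2 : c * b * (c * a) = b * a := by
    rw [h.cen b, mul_assoc, h.c_mul_c_mul]
  rw [h2] at h1
  rw [h1, h.c_mul_c_mul]

theorem eight (h : TwoCov f c) {a b d : X} (ha : a * a = 1) (hab : a * b = b * a)
    (had : a * d = d * a) (hbd : b * d = d * b) (ha1 : a ≠ 1) (hne : a ≠ b)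
    (cb : IsConj a b) (cd : IsConj a d) (cab : IsConj a (a * b)) (cad : IsConj a (a * d))
    (cbd : IsConj a (b * d)) (cabd : IsConj a (a * (b * d))) : False := by
  have hsq : ∀ x : X, IsConj a x → x * x = 1 := by
    intro x hx
    obtain ⟨g, rfl⟩ := isConj_iff.1 hx
    calc g * a * g⁻¹ * (g * a * g⁻¹) = g * (a * a) * g⁻¹ := by group
      _ = 1 := by rw [ha]; group
  have hb1 : b ≠ 1 := by
    rintro rfl
    exact ha1 (isConj_one_left.1 cb)
  by_cases hli : LI f a
  · exact h.klein hli (hli.isConj h cb) (hli.isConj h cab) ha1 hb1 hne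
  · have hnot : ∀ x : X, IsConj a x → ¬ LI f x := fun x hx hl => hli (hl.isConj h hx.symm)
    obtain ⟨a', rfl⟩ := h.surj a
    obtain ⟨b', rfl⟩ := h.surj b
    obtain ⟨d', rfl⟩ := h.surj d
    have e1 := h.sq_lift_of_not ha hli
    have e2 := h.sq_lift_of_not (hsq _ cb) (hnot _ cb)
    have e3 := h.sq_lift_of_not (hsq _ cd) (hnot _ cd)
    have e4 : a' * b' * (a' * b') = c := h.sq_lift_of_not (by rw [map_mul]; exact hsq _ cab)
      (by rw [map_mul]; exact hnot _ cab)
    have e5 : a' * d' * (a' * d') = c := h.sq_lift_of_not (by rw [map_mul]; exact hsq _ cad)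
      (by rw [map_mul]; exact hnot _ cad)
    have e6 : b' * d' * (b' * d') = c := h.sq_lift_of_not (by rw [map_mul]; exact hsq _ cbd)
      (by rw [map_mul]; exact hnot _ cbd)
    have e7 : a' * (b' * d') * (a' * (b' * d')) = c :=
      h.sq_lift_of_not (by rw [map_mul, map_mul]; exact hsq _ cabd)
      (by rw [map_mul, map_mul]; exact hnot _ cabd)
    have h1 := h.anti e1 e2 e4
    have h2 := h.anti e1 e3 e5
    have h3 := h.anti e1 e6 e7
    have h4 : a' * (b' * d') = b' * d' * a' := by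
      calc a' * (b' * d') = a' * b' * d' := by rw [mul_assoc]
        _ = c * (b' * a') * d' := by rw [h1]
        _ = c * b' * (a' * d') := by simp only [mul_assoc]
        _ = c * b' * (c * (d' * a')) := by rw [h2]
        _ = b' * (c * c) * (d' * a') := by rw [h.cen b']; simp only [mul_assoc]
        _ = _ := by rw [h.sq, mul_one, mul_assoc]
    rw [h4] at h3
    exact h.ne (mul_eq_right.1 h3.symm)

theorem li_of_quat (h : TwoCov f c) {i j z : X} (hi : i * i = z) (hj : j * j = z)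
    (hji : j * i * j⁻¹ = i⁻¹) : LI f z := by
  obtain ⟨i', rfl⟩ := h.surj i
  obtain ⟨j', rfl⟩ := h.surj j
  have h1 : f (i' * i') = z := by rw [map_mul, hi]
  have h2 : f (j' * j') = f (i' * i') := by rw [h1, map_mul, hj]
  have h3 : f (j' * i' * j'⁻¹) = f i'⁻¹ := by rw [map_mul, map_mul, map_inv, hji, map_inv]
  have h4 : j' * (i' * i') = i' * i' * j' := by
    rcases h.eq_or h2 with h5 | h5
    · rw [← h5, mul_assoc]
    · have h6 : i' * i' = c * (j' * j') := by rw [h5, h.c_mul_c_mul]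
      rw [h6, ← mul_assoc, ← h.cen j']
      simp only [mul_assoc]
  have h5 : j' * (i' * i') * j'⁻¹ = i'⁻¹ * i'⁻¹ := by
    have e : j' * (i' * i') * j'⁻¹ = j' * i' * j'⁻¹ * (j' * i' * j'⁻¹) := by group
    rw [e]
    rcases h.eq_or h3 with h6 | h6
    · rw [h6]
    · rw [h6, h.sq_c_mul]
  rw [← h1]
  apply LI.of_lift h
  have h6 : i' * i' = i'⁻¹ * i'⁻¹ := by rw [← h5, h4, mul_inv_cancel_right]
  calc i' * i' * (i' * i') = i' * i' * (i'⁻¹ * i'⁻¹) := by rw [← h6]
    _ = 1 := by group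

theorem quat_four (h : TwoCov f c) {i j z y : X} (hi : i * i = z) (hj : j * j = z)
    (hji : j * i * j⁻¹ = i⁻¹) (hz : z ≠ 1) (hb : y * z * y⁻¹ ≠ z)
    (hyb : y * (y * z * y⁻¹) * y⁻¹ = z * (y * z * y⁻¹)) : False := by
  have hl := h.li_of_quat hi hj hji
  have hl2 := hl.conj h y
  have hl3 := hl2.conj h y
  rw [hyb] at hl3
  refine h.klein hl hl2 hl3 hz (fun h1 => hz ?_) (fun h1 => hb h1.symm)
  calc z = y⁻¹ * (y * z * y⁻¹) * y := by group
    _ = 1 := by rw [h1]; group

/-- An involution conjugate to `a` in a Klein four-group whose three involutions are conjugate does not lift to an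
involution. -/
theorem not_li_of_klein (h : TwoCov f c) {a b : X} (ha1 : a ≠ 1) (hb1 : b ≠ 1) (hab : a ≠ b)
    (cb : IsConj a b) (cab : IsConj a (a * b)) : ¬ LI f a := fun hl =>
  h.klein hl (hl.isConj h cb) (hl.isConj h cab) ha1 hb1 hab

/-- Lifts of `A_4`. -/
theorem alt_four (h : TwoCov f c) {a b x : X} (ha : a * a = 1) (hab : a * b = b * a)
    (ha1 : a ≠ 1) (hne : a ≠ b) (hxa : x * a * x⁻¹ = b) (hxb : x * b * x⁻¹ = a * b)
    (hx : x ^ 3 = 1) :
    ∃ i j x' : Y, i * i = c ∧ j * j = c ∧ j * i = c * (i * j) ∧ x' ^ 3 = 1 ∧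
      x' * i * x'⁻¹ = j ∧ x' * j * x'⁻¹ = i * j ∧ (f x' = x ∨ f x' = x⁻¹) := by
  have cb : IsConj a b := isConj_iff.2 ⟨x, hxa⟩
  have cab : IsConj a (a * b) := cb.trans (isConj_iff.2 ⟨x, hxb⟩)
  have hb1 : b ≠ 1 := by
    rintro rfl
    exact ha1 (isConj_one_left.1 cb)
  have hli := h.not_li_of_klein ha1 hb1 hne cb cab
  have hnot : ∀ y : X, IsConj a y → ¬ LI f y := fun y hy hl => hli (hl.isConj h hy.symm)
  have hsq : ∀ y : X, IsConj a y → y * y = 1 := by
    intro y hy
    obtain ⟨g, rfl⟩ := isConj_iff.1 hy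
    calc g * a * g⁻¹ * (g * a * g⁻¹) = g * (a * a) * g⁻¹ := by group
      _ = 1 := by rw [ha]; group
  -- a lift of order dividing 3 of x
  obtain ⟨x₀, hx₀, hx₀3⟩ : ∃ x₀ : Y, f x₀ = x ∧ x₀ ^ 3 = 1 := by
    obtain ⟨y, hy⟩ := h.surj x
    have h1 : f (y ^ 3) = 1 := by rw [map_pow, hy, hx]
    rcases (h.ker _).1 h1 with h2 | h2
    · exact ⟨y, hy, h2⟩
    · refine ⟨c * y, by rw [map_mul, h.map_c, one_mul, hy], ?_⟩
      have hc : Commute c y := h.cen y
      rw [hc.mul_pow, h2, pow_succ, pow_two, h.sq, one_mul, h.sq]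
  obtain ⟨i, hi⟩ := h.surj a
  have e1 : i * i = c := h.sq_lift_of_not (by rw [hi]; exact ha) (by rw [hi]; exact hli)
  set j := x₀ * i * x₀⁻¹ with hj
  have hfj : f j = b := by rw [hj, map_mul, map_mul, map_inv, hx₀, hi, hxa]
  set k := x₀ * j * x₀⁻¹ with hk
  have hfk : f k = a * b := by rw [hk, map_mul, map_mul, map_inv, hx₀, hfj, hxb]
  have e2 : j * j = c := h.sq_lift_of_not (by rw [hfj]; exact hsq _ cb) (by rw [hfj]; exact hnot _ cb)
  have e3 : i * j * (i * j) = c := h.sq_lift_of_not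
    (by rw [map_mul, hi, hfj]; exact hsq _ cab) (by rw [map_mul, hi, hfj]; exact hnot _ cab)
  have hanti := h.anti e1 e2 e3
  have hanti' : j * i = c * (i * j) := by rw [hanti, h.c_mul_c_mul]
  have hki : x₀ * k * x₀⁻¹ = i := by
    have : x₀ * k * x₀⁻¹ = x₀ ^ 3 * i * (x₀ ^ 3)⁻¹ := by
      rw [hk, hj, pow_succ, pow_two, mul_inv_rev, mul_inv_rev]; simp only [mul_assoc]
    rw [this, hx₀3, one_mul, inv_one, mul_one]
  rcases h.eq_or (show f k = f (i * j) by rw [hfk, map_mul, hi, hfj]) with h4 | h4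
  · exact ⟨i, j, x₀, e1, e2, hanti', hx₀3, rfl, h4, Or.inl hx₀⟩
  · -- use the inverse: i → k → j → i
    refine ⟨i, k, x₀⁻¹, e1, ?_, ?_, ?_, ?_, ?_, Or.inr (by rw [map_inv, hx₀])⟩
    · rw [h4, h.sq_c_mul, e3]
    · rw [h4]
      calc c * (i * j) * i = c * i * (j * i) := by simp only [mul_assoc]
        _ = c * i * (c * (i * j)) := by rw [hanti']
        _ = c * (i * (c * (i * j))) := by simp only [mul_assoc]
    · rw [inv_pow, hx₀3, inv_one]
    · rw [inv_inv]
      calc x₀⁻¹ * i * x₀ = x₀⁻¹ * (x₀ * k * x₀⁻¹) * x₀ := by rw [hki]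
        _ = k := by group
    · rw [inv_inv]
      have h5 : x₀⁻¹ * k * x₀ = j := by rw [hk]; group
      rw [h5, h4]
      calc j = c * (c * j) := (h.c_mul_c_mul j).symm
        _ = c * (i * i * j) := by rw [e1]
        _ = i * (c * (i * j)) := by rw [← mul_assoc i c, ← h.cen i]; simp only [mul_assoc]

end TwoCov

end Cfsg.Agent.H909
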