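import Mathlib
import Cfsg.Prelude.Def_CaseTheorems
import Cfsg.Agent.S0501
import Cfsg.Agent.TwoFusion.SectionalRank
import Cfsg.Agent.H909.TwoCov

/-!
# `TwoCov`: sectional 2-rank at most 4 (helper909)
-/

set_option autoImplicit false

namespace Cfsg.Agent.H909.TwoCov

universe u v

variable {Y : Type u} {X : Type v} [Group Y] [Group X] {f : Y →* X} {c : Y}

theorem card_le_four [Finite Y] (h : TwoCov f c) (A : Subgroup Y) (hA : IsMulCommutative A)
    (hA2 : ∀ a ∈ A, a ^ 2 = 1) : Nat.card A ≤ 4 := by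
  classical
  have hcomm : ∀ a ∈ A, ∀ b ∈ A, a * b = b * a := fun a ha b hb =>
    congrArg Subtype.val (hA.is_comm.comm (⟨a, ha⟩ : A) ⟨b, hb⟩)
  have key : ∃ a : Y, ∀ b ∈ A, b ∈ ({1, c, a, c * a} : Finset Y) := by
    by_cases hex : ∃ a ∈ A, a ≠ 1 ∧ a ≠ c
    · obtain ⟨a, ha, h1, h2⟩ := hex
      refine ⟨a, fun b hb => ?_⟩
      have := h.two a b (by rw [← pow_two]; exact hA2 a ha) (by rw [← pow_two]; exact hA2 b hb)
        (hcomm a ha b hb) h1 h2
      simpa using this
    · push Not at hex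
      refine ⟨1, fun b hb => ?_⟩
      by_cases hb1 : b = 1
      · simp [hb1]
      · simp [hex b hb hb1]
  obtain ⟨a, ha⟩ := key
  have h1 : (A : Set Y) ⊆ (({1, c, a, c * a} : Finset Y) : Set Y) := fun b hb => by
    exact_mod_cast ha b hb
  calc Nat.card A = (A : Set Y).ncard := rfl
    _ ≤ (({1, c, a, c * a} : Finset Y) : Set Y).ncard := Set.ncard_le_ncard h1 (Set.toFinite _)
    _ = ({1, c, a, c * a} : Finset Y).card := Set.ncard_coe_finset _
    _ ≤ 4 := by
      refine (Finset.card_insert_le _ _).trans ?_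
      refine (Nat.succ_le_succ (Finset.card_insert_le _ _)).trans ?_
      refine (Nat.succ_le_succ (Nat.succ_le_succ (Finset.card_insert_le _ _))).trans ?_
      simp

theorem sectional [Finite Y] (h : TwoCov f c) : Cfsg.SectionalPRankLE 2 4 Y := by
  haveI : Fact (Nat.Prime 2) := ⟨Nat.prime_two⟩
  obtain ⟨S⟩ : Nonempty (Sylow 2 Y) := inferInstance
  refine Cfsg.Agent.TwoFusion.SectionalRank.sectionalPRankLE_of_sylow S ?_
  refine Cfsg.Agent.S0501.result S.isPGroup' fun A _ hA hA2 => ?_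
  have hmap : Nat.card (A.map (S : Subgroup Y).subtype) = Nat.card A :=
    Nat.card_congr (A.equivMapOfInjective _ (Subgroup.subtype_injective _)).toEquiv.symm
  rw [← hmap]
  refine h.card_le_four _ ?_ ?_
  · refine ⟨⟨?_⟩⟩
    rintro ⟨_, a, ha, rfl⟩ ⟨_, b, hb, rfl⟩
    apply Subtype.ext
    have := congrArg (fun z : A => ((z : (S : Subgroup Y)) : Y))
      (hA.is_comm.comm (⟨a, ha⟩ : A) ⟨b, hb⟩)
    exact this
  · rintro _ ⟨a, ha, rfl⟩
    have := congrArg (fun z : (S : Subgroup Y) => (z : Y)) (hA2 a ha)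
    exact this

end Cfsg.Agent.H909.TwoCov
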