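import Mathlib
import Cfsg.Prelude.Def_GeometricClasses
import Cfsg.Agent.S0205
import Cfsg.Agent.S0225
import Cfsg.Agent.H909.SpInvol
import Cfsg.Agent.H909.TwoCov
import Cfsg.Agent.H909.TwoCovRank
import Cfsg.Agent.H909.KFour

/-!
# Perfect subgroups of `Sp_4(q)`, `q` odd, simple modulo scalars, are double covers (helper909)
-/

set_option autoImplicit false
set_option linter.style.haveILetI false

namespace Cfsg.Agent.H909.SpDouble

open Cfsg Cfsg.Geo Matrix Module
open Cfsg.Agent.ClassicalGeometry.SympBasic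

universe u

/-- the 4-dimensional index type -/
abbrev I4 : Type := Fin 2 ⊕ Fin 2

variable {F : Type u} [Field F]

/-- the scalars in `P` -/
abbrev Zs (P : Subgroup (GL I4 F)) : Subgroup P := (scalars I4 F).subgroupOf P

/-- the setting -/
structure Ctx (P : Subgroup (GL I4 F)) : Prop where
  two : (2 : F) ≠ 0
  le : P ≤ spGL 2 F
  perfect : ⁅P, P⁆ = P
  simple : IsSimpleGroup (P ⧸ Zs P)
  nonabelian : ¬ IsMulCommutative (P ⧸ Zs P)

theorem neg_one_scalar : (-1 : GL I4 F) ∈ scalars I4 F := by
  rw [mem_scalars_iff]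
  exact ⟨-1, by simp⟩

theorem scalar_cases {g : GL I4 F} (hg : g ∈ spGL 2 F) (hs : g ∈ scalars I4 F) :
    g = 1 ∨ g = -1 := by
  obtain ⟨c, hc⟩ := (mem_scalars_iff g).1 hs
  have h1 := mem_spGL_iff.1 hg (Pi.single (Sum.inl 0) 1) (Pi.single (Sum.inr 0) 1)
  rw [hc] at h1
  simp only [Matrix.smul_mulVec, Matrix.one_mulVec, sympForm_smul_left, sympForm_smul_right] at h1
  have h2 : sympForm 2 F (Pi.single (Sum.inl 0) 1) (Pi.single (Sum.inr 0) 1) ≠ 0 := by
    simp [sympForm_def, Matrix.J, Matrix.fromBlocks]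
  have h3 : (c : F) * c = 1 := by
    apply mul_right_cancel₀ h2
    rw [one_mul, mul_assoc, h1]
  rcases mul_self_eq_one_iff.1 h3 with h4 | h4
  · left; apply Units.ext; rw [hc, h4]; simp
  · right; apply Units.ext; rw [hc, h4]; simp

theorem one_ne_neg_one (h2 : (2 : F) ≠ 0) : (1 : GL I4 F) ≠ -1 := by
  intro h
  have h1 := congrArg (fun g : GL I4 F => (g : Matrix I4 I4 F) (Sum.inl 0) (Sum.inl 0)) h
  simp at h1
  apply h2
  have h3 : (1 : F) + 1 = 0 := by nth_rewrite 2 [h1]; exact add_neg_cancel 1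
  rw [← h3]; norm_num

namespace Ctx

variable {P : Subgroup (GL I4 F)}

theorem commutator_top (h : Ctx P) : commutator P = ⊤ := by
  rw [commutator_def]
  apply Subgroup.map_injective P.subtype_injective
  rw [Subgroup.map_commutator, ← MonoidHom.range_eq_map, Subgroup.range_subtype]
  exact h.perfect

theorem neg_one_mem [Finite F] (h : Ctx P) : (-1 : GL I4 F) ∈ P := by
  classical
  by_contra hn
  have hZ : Zs P = ⊥ := by
    rw [Subgroup.eq_bot_iff_forall]
    rintro ⟨g, hg⟩ hs
    rw [Subgroup.mem_subgroupOf] at hs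
    rcases scalar_cases (h.le hg) hs with h1 | h1
    · exact Subtype.ext h1
    · exact absurd (h1 ▸ hg) hn
  -- `P` is simple
  let e : P ≃* P ⧸ Zs P :=
    (QuotientGroup.quotientBot (G := P)).symm.trans (QuotientGroup.quotientMulEquivOfEq hZ.symm)
  haveI hsimple : IsSimpleGroup P := by
    haveI := h.simple
    exact e.isSimpleGroup
  have hne : ∃ a b : P, a * b ≠ b * a := by
    by_contra hcon
    push Not at hcon
    apply h.nonabelian
    refine ⟨⟨fun x y => ?_⟩⟩
    obtain ⟨a, rfl⟩ := QuotientGroup.mk_surjective x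
    obtain ⟨b, rfl⟩ := QuotientGroup.mk_surjective y
    rw [← QuotientGroup.mk_mul, ← QuotientGroup.mk_mul, hcon]
  have heven : Even (Nat.card P) := by
    by_contra hodd
    rw [Nat.not_even_iff_odd] at hodd
    have hsol := Cfsg.Agent.S0205.result hodd
    obtain ⟨a, b, hab⟩ := hne
    exact hab (IsSimpleGroup.comm_iff_isSolvable.2 hsol a b)
  have hklein : ∀ E : Subgroup P, ¬ IsKleinFour E := by
    intro E hE
    have hc4 : Nat.card E = 4 := hE.card_four
    obtain ⟨a, ha1⟩ : ∃ a : E, a ≠ 1 := by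
      haveI : Nontrivial E := Finite.one_lt_card_iff_nontrivial.1 (by omega)
      exact exists_ne 1
    obtain ⟨b, hb⟩ : ∃ b : E, b ∉ ({1, a} : Finset E) := by
      by_contra hcon
      push Not at hcon
      haveI := Fintype.ofFinite E
      have h1 : (Finset.univ : Finset E) ⊆ {1, a} := fun b _ => hcon b
      have h2 := Finset.card_le_card h1
      rw [Finset.card_univ, ← Nat.card_eq_fintype_card, hc4] at h2
      have h3 : ({1, a} : Finset E).card ≤ 2 := Finset.card_le_two
      omega
    rw [Finset.mem_insert, Finset.mem_singleton, not_or] at hb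
    have hsq : ∀ x : E, x * x = 1 := fun x => by
      have h1 := Monoid.pow_exponent_eq_one x
      rw [hE.exponent_two] at h1
      rw [← pow_two]; exact h1
    have hab : a * b = b * a := by
      have hx : ∀ x : E, x⁻¹ = x := fun x => inv_eq_of_mul_eq_one_left (hsq x)
      rw [← hx (a * b), _root_.mul_inv_rev, hx, hx]
    have cast : ∀ x y : E, ((x : P) : GL I4 F) = ((y : P) : GL I4 F) → x = y := fun x y hxy =>
      Subtype.ext (Subtype.ext hxy)
    have castm : ∀ x y : E, (((x * y : E) : P) : GL I4 F) = ((x : P) : GL I4 F) * ((y : P) : GL I4 F) :=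
      fun x y => rfl
    rcases invol_commute_gl h.two (h.le (a : P).2) (h.le (b : P).2)
      (by rw [← castm, hsq]; rfl) (by rw [← castm, hsq]; rfl) (by rw [← castm, hab]; rfl)
      (fun h1 => ha1 (cast _ _ h1)) (fun h1 => hn (h1 ▸ (a : P).2)) with h1 | h1 | h1 | h1
    · exact hb.1 (cast _ _ h1)
    · exact hn (h1 ▸ (b : P).2)
    · exact hb.2 (cast _ _ h1)
    · apply hn
      have h2 : ((a : P) : GL I4 F) * ((b : P) : GL I4 F) = -1 := by
        rw [h1, mul_neg, ← castm, hsq]; rfl
      rw [← h2]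
      exact (a * b : P).2
  obtain ⟨z, hz, N, hN, hNodd, hcomm⟩ := Cfsg.Agent.S0225.result heven hklein
  rcases hN.eq_bot_or_eq_top with h1 | h1
  · -- `z` is central
    have hz1 : ∀ g : P, z * g = g * z := by
      intro g
      have h2 := hcomm g
      rw [h1, Subgroup.mem_bot] at h2
      have h3 : z * g * z⁻¹ = g := mul_inv_eq_one.1 h2
      exact mul_inv_eq_iff_eq_mul.1 h3
    have hzc : z ∈ Subgroup.center P := Subgroup.mem_center_iff.2 fun g => (hz1 g).symm
    rcases (inferInstance : (Subgroup.center P).Normal).eq_bot_or_eq_top with h2 | h2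
    · rw [h2, Subgroup.mem_bot] at hzc
      rw [hzc, orderOf_one] at hz
      omega
    · obtain ⟨a, b, hab⟩ := hne
      exact hab ((Subgroup.mem_center_iff.1 (h2 ▸ Subgroup.mem_top a) b).symm)
  · rw [h1] at hNodd
    have h2 : Nat.card (⊤ : Subgroup P) = Nat.card P := Subgroup.card_top
    rw [h2] at hNodd
    exact (Nat.not_even_iff_odd.2 hNodd) heven

/-- the central involution -/
def neg (h : (-1 : GL I4 F) ∈ P) : P := ⟨-1, h⟩

theorem twoCov [Finite F] (h : Ctx P) : TwoCov (QuotientGroup.mk' (Zs P)) (neg h.neg_one_mem) where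
  ne := fun h1 => one_ne_neg_one h.two (congrArg Subtype.val h1).symm
  sq := Subtype.ext (by change (-1 : GL I4 F) * -1 = 1; rw [neg_mul_neg, one_mul])
  cen := fun x => Subtype.ext (by
    change (-1 : GL I4 F) * x = x * -1
    rw [neg_mul, one_mul, mul_neg, mul_one])
  surj := QuotientGroup.mk'_surjective _
  ker := fun x => by
    rw [QuotientGroup.mk'_apply, QuotientGroup.eq_one_iff, Subgroup.mem_subgroupOf]
    constructor
    · intro h1
      rcases scalar_cases (h.le x.2) h1 with h2 | h2
      · exact Or.inl (Subtype.ext h2)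
      · exact Or.inr (Subtype.ext h2)
    · rintro (rfl | rfl)
      · exact one_mem _
      · exact neg_one_scalar
  two := fun a b ha hb hab ha1 hac => by
    rcases invol_commute_gl h.two (h.le a.2) (h.le b.2) (congrArg Subtype.val ha)
      (congrArg Subtype.val hb) (congrArg Subtype.val hab) (fun h1 => ha1 (Subtype.ext h1))
      (fun h1 => hac (Subtype.ext h1)) with h1 | h1 | h1 | h1
    · exact Or.inl (Subtype.ext h1)
    · exact Or.inr (Or.inl (Subtype.ext h1))
    · exact Or.inr (Or.inr (Or.inl (Subtype.ext h1)))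
    · refine Or.inr (Or.inr (Or.inr (Subtype.ext ?_)))
      rw [h1]
      change _ = (-1 : GL I4 F) * a
      rw [neg_mul, one_mul]

theorem card_ker [Finite F] (h : Ctx P) : Nat.card (QuotientGroup.mk' (Zs P)).ker = 2 := by
  classical
  have h1 : ((QuotientGroup.mk' (Zs P)).ker : Set P) = {1, neg h.neg_one_mem} := by
    ext x
    rw [SetLike.mem_coe, MonoidHom.mem_ker]
    exact h.twoCov.ker x
  calc Nat.card (QuotientGroup.mk' (Zs P)).ker = ((QuotientGroup.mk' (Zs P)).ker : Set P).ncard := rfl
    _ = 2 := by rw [h1, Set.ncard_pair h.twoCov.ne.symm]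

/-- The list. -/
theorem surv [Finite F] (h : Ctx P) : Cfsg.Agent.GH.Cov.Cut.Surv (P ⧸ Zs P) := by
  haveI := h.simple
  exact KFour.surv h.nonabelian h.commutator_top (QuotientGroup.mk' (Zs P))
    (QuotientGroup.mk'_surjective _) h.card_ker h.twoCov.sectional

end Ctx

end Cfsg.Agent.H909.SpDouble
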