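import Mathlib
import Cfsg.Agent.H909.TwoCov

/-!
# Lifting elements of odd order through a double cover (helper909)
-/

set_option autoImplicit false

namespace Cfsg.Agent.H909

universe u v w

namespace TwoCov

variable {Y : Type u} {X : Type v} [Group Y] [Group X] {f : Y →* X} {c : Y}

/-- composition with an isomorphism -/
theorem comp {X' : Type w} [Group X'] (h : TwoCov f c) (e : X ≃* X') :
    TwoCov (e.toMonoidHom.comp f) c where
  ne := h.ne
  sq := h.sq
  cen := h.cen
  surj := e.surjective.comp h.surj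
  ker := fun x => by
    rw [← h.ker]
    change e (f x) = 1 ↔ f x = 1
    rw [map_eq_one_iff e e.injective]
  two := h.two

theorem pow_c (h : TwoCov f c) {n : ℕ} (hn : Odd n) : c ^ n = c := by
  obtain ⟨k, rfl⟩ := hn
  rw [pow_add, pow_mul, pow_two, h.sq, one_pow, one_mul, pow_one]

theorem c_mul_pow (h : TwoCov f c) {n : ℕ} (hn : Odd n) (x : Y) : (c * x) ^ n = c * x ^ n := by
  have : Commute c x := h.cen x
  rw [this.mul_pow, h.pow_c hn]

/-- existence of a lift of the same odd exponent -/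
theorem lift_odd (h : TwoCov f c) {x : X} {n : ℕ} (hn : Odd n) (hx : x ^ n = 1) :
    ∃ y : Y, f y = x ∧ y ^ n = 1 := by
  obtain ⟨y, rfl⟩ := h.surj x
  rw [← map_pow] at hx
  rcases (h.ker _).1 hx with h1 | h1
  · exact ⟨y, rfl, h1⟩
  · refine ⟨c * y, ?_, ?_⟩
    · rw [map_mul, h.map_c, one_mul]
    · rw [h.c_mul_pow hn, h1, h.sq]

/-- uniqueness of the lift -/
theorem lift_unique (h : TwoCov f c) {n : ℕ} (hn : Odd n) {a b : Y} (hab : f a = f b)
    (ha : a ^ n = 1) (hb : b ^ n = 1) : a = b := by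
  rcases h.eq_or hab with h1 | h1
  · exact h1
  · exfalso
    rw [h1, h.c_mul_pow hn, hb, mul_one] at ha
    exact h.ne ha

/-- generation lifts modulo the kernel -/
theorem closure_lift (h : TwoCov f c) (S : Set Y) (hS : Subgroup.closure (f '' S) = ⊤) (y : Y) :
    y ∈ Subgroup.closure S ∨ c * y ∈ Subgroup.closure S := by
  have h1 : f y ∈ (Subgroup.closure S).map f := by
    rw [MonoidHom.map_closure, hS]; trivial
  obtain ⟨z, hz, hzy⟩ := h1
  rcases h.eq_or hzy with h2 | h2
  · left; rw [← h2]; exact hz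
  · right; rw [← h2]; exact hz

end TwoCov

/-- In a finite group whose order is `ℓ k` with `ℓ` prime not dividing `k`, elements of order `ℓ` are conjugate
up to powers. -/
theorem sylow_conj {G : Type u} [Group G] [Finite G] {ℓ : ℕ} (hℓ : ℓ.Prime) {k : ℕ}
    (hk : Nat.card G = ℓ * k) (hc : ¬ ℓ ∣ k) {x y : G} (hx : x ^ ℓ = 1) (hx1 : x ≠ 1)
    (hy : y ^ ℓ = 1) (hy1 : y ≠ 1) : ∃ (g : G) (m : ℕ), g * x * g⁻¹ = y ^ m := by
  classical
  haveI : Fact ℓ.Prime := ⟨hℓ⟩
  have hk0 : k ≠ 0 := by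
    rintro rfl
    rw [mul_zero] at hk
    exact Nat.card_pos.ne' hk
  have hfac : (Nat.card G).factorization ℓ = 1 := by
    rw [hk, Nat.factorization_mul hℓ.ne_zero hk0, Finsupp.add_apply, hℓ.factorization_self,
      Nat.factorization_eq_zero_of_not_dvd hc]
  have hcard : ∀ z : G, z ^ ℓ = 1 → z ≠ 1 → Nat.card (Subgroup.zpowers z) =
      ℓ ^ (Nat.card G).factorization ℓ := by
    intro z hz hz1
    rw [Nat.card_zpowers, hfac, pow_one]
    exact orderOf_eq_prime hz hz1
  let P : Sylow ℓ G := Sylow.ofCard _ (hcard x hx hx1)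
  let Q : Sylow ℓ G := Sylow.ofCard _ (hcard y hy hy1)
  obtain ⟨g, hg⟩ := MulAction.exists_smul_eq G P Q
  have h1 : g * x * g⁻¹ ∈ (Q : Subgroup G) := by
    rw [← hg, Sylow.coe_subgroup_smul]
    exact Subgroup.smul_mem_pointwise_smul x (MulAut.conj g) _ (Subgroup.mem_zpowers x)
  have h2 : g * x * g⁻¹ ∈ Subgroup.zpowers y := h1
  rw [mem_zpowers_iff_mem_range_orderOf] at h2
  obtain ⟨m, -, hm⟩ := Finset.mem_image.1 h2
  exact ⟨g, m, hm.symm⟩

end Cfsg.Agent.H909
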