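import Mathlib
import Cfsg.Prelude.Def_GeometricClasses
import Cfsg.Agent.H909.SixMain
import Cfsg.Agent.H909.SpDouble
import Cfsg.Agent.H909.TwoLift
import Cfsg.Agent.H909.AltFiveGen

/-!
# `2.A₅` is never the core of a maximal subgroup of `Sp₄(q)`, `q` odd (helper909)
-/

set_option autoImplicit false

namespace Cfsg.Agent.H909.AFive

open Cfsg Cfsg.Geo Matrix Module
open Cfsg.Agent.ClassicalGeometry.SympBasic
open SpDouble

universe u

variable {F : Type u} [Field F]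

local notation "M4" => Matrix (Fin 2 ⊕ Fin 2) (Fin 2 ⊕ Fin 2)
local notation "G4" => GL (Fin 2 ⊕ Fin 2)

theorem cj_coe (g y : G4 F) : cj g (y : M4 F) = ((g * y * g⁻¹ : G4 F) : M4 F) := by
  rw [cj, Units.val_mul, Units.val_mul]

theorem cj_id (g : G4 F) : cj g (1 : M4 F) = 1 := by rw [cj, mul_one, mul_inv_coe]

/-- `y + y⁻¹ + 1/2` -/
noncomputable def W1 (y : G4 F) : M4 F :=
  (y : M4 F) + ((y⁻¹ : G4 F) : M4 F) + (2⁻¹ : F) • (1 : M4 F)

/-- `1 + y + y² + y³ + y⁴` -/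
def D (y : G4 F) : M4 F :=
  1 + (y : M4 F) + ((y ^ 2 : G4 F) : M4 F) + ((y ^ 3 : G4 F) : M4 F) + ((y ^ 4 : G4 F) : M4 F)

/-- the symmetry about the middle of the idempotent -/
noncomputable def W2 (y : G4 F) : M4 F := (5⁻¹ : F) • D y - (2⁻¹ : F) • (1 : M4 F)

theorem W1_conj (g y : G4 F) : W1 (g * y * g⁻¹) = cj g (W1 y) := by
  have : (g * y * g⁻¹)⁻¹ = g * y⁻¹ * g⁻¹ := by group
  rw [W1, W1, this, cj_add, cj_add, cj_coe, cj_coe, cj_smul, cj_id]

theorem D_conj (g y : G4 F) : D (g * y * g⁻¹) = cj g (D y) := by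
  have h : ∀ n : ℕ, (g * y * g⁻¹) ^ n = g * y ^ n * g⁻¹ := fun n => conj_pow
  rw [D, D, h, h, h, cj_add, cj_add, cj_add, cj_add, cj_coe, cj_coe, cj_coe, cj_coe, cj_id]

theorem W2_conj (g y : G4 F) : W2 (g * y * g⁻¹) = cj g (W2 y) := by
  rw [W2, W2, D_conj, cj_sub, cj_smul, cj_smul, cj_id]

section

variable {y : G4 F}

theorem inv_eq (hy : y ^ 5 = 1) : y⁻¹ = y ^ 4 := by
  rw [inv_eq_iff_mul_eq_one, ← pow_succ', hy]

theorem pow_eq (hy : y ^ 5 = 1) (a b : ℕ) (h : a = b + 5) : y ^ a = y ^ b := by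
  rw [h, pow_add, hy, mul_one]

theorem D_inv (hy : y ^ 5 = 1) : D y⁻¹ = D y := by
  have e2 : (y⁻¹) ^ 2 = y ^ 3 := by
    rw [inv_eq hy, ← pow_mul, pow_eq hy (4 * 2) 3 (by norm_num)]
  have e3 : (y⁻¹) ^ 3 = y ^ 2 := by
    rw [inv_eq hy, ← pow_mul, pow_eq hy (4 * 3) 7 (by norm_num), pow_eq hy 7 2 (by norm_num)]
  have e4 : (y⁻¹) ^ 4 = y := by
    rw [inv_eq hy, ← pow_mul, pow_eq hy (4 * 4) 11 (by norm_num), pow_eq hy 11 6 (by norm_num),
      pow_eq hy 6 1 (by norm_num), pow_one]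
  rw [D, D, e2, e3, e4, inv_eq hy]; abel

theorem D_sq (hy : y ^ 5 = 1) : D (y ^ 2) = D y := by
  have e2 : (y ^ 2) ^ 2 = y ^ 4 := by rw [← pow_mul]
  have e3 : (y ^ 2) ^ 3 = y := by
    rw [← pow_mul, pow_eq hy (2 * 3) 1 (by norm_num), pow_one]
  have e4 : (y ^ 2) ^ 4 = y ^ 3 := by
    rw [← pow_mul, pow_eq hy (2 * 4) 3 (by norm_num)]
  rw [D, D, e2, e3, e4]; abel

theorem mul_D (hy : y ^ 5 = 1) : (y : M4 F) * D y = D y := by
  have h : ∀ n : ℕ, (y : M4 F) * ((y ^ n : G4 F) : M4 F) = ((y ^ (n + 1) : G4 F) : M4 F) := by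
    intro n; rw [← Units.val_mul, ← pow_succ']
  have h1 : (y : M4 F) * (y : M4 F) = ((y ^ 2 : G4 F) : M4 F) := by
    rw [← Units.val_mul, ← pow_two]
  rw [D, mul_add, mul_add, mul_add, mul_add, h, h, h, h1, mul_one, hy, Units.val_one]
  abel

theorem pow_mul_D (hy : y ^ 5 = 1) (n : ℕ) : ((y ^ n : G4 F) : M4 F) * D y = D y := by
  induction n with
  | zero => rw [pow_zero, Units.val_one, one_mul]
  | succ n ih => rw [pow_succ, Units.val_mul, mul_assoc, mul_D hy, ih]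

theorem D_mul_D (hy : y ^ 5 = 1) : D y * D y = (5 : F) • D y := by
  have h : D y * D y = D y + (y : M4 F) * D y + ((y ^ 2 : G4 F) : M4 F) * D y +
      ((y ^ 3 : G4 F) : M4 F) * D y + ((y ^ 4 : G4 F) : M4 F) * D y := by
    nth_rewrite 1 [D]
    simp only [add_mul, one_mul]
  rw [h, mul_D hy, pow_mul_D hy, pow_mul_D hy, pow_mul_D hy]
  have : (5 : F) = 1 + 1 + 1 + 1 + 1 := by norm_num
  rw [this]
  simp only [add_smul, one_smul]

theorem D_eq (hy : y ^ 5 = 1) : D y = 1 + ((y : M4 F) + ((y⁻¹ : G4 F) : M4 F)) +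
    (((y ^ 2 : G4 F) : M4 F) + (((y ^ 2)⁻¹ : G4 F) : M4 F)) := by
  have e : (y ^ 2)⁻¹ = y ^ 3 := by
    rw [inv_eq_iff_mul_eq_one, ← pow_add, hy]
  rw [D, inv_eq hy, e]; abel

theorem D_SA (hm : y ∈ spGL 2 F) (hy : y ^ 5 = 1) : SA (D y) := by
  rw [D_eq hy]
  exact (SA.one.add (SA.add_inv hm)).add (SA.add_inv (pow_mem hm 2))

theorem W1_inv (y : G4 F) : W1 y⁻¹ = W1 y := by
  rw [W1, W1, inv_inv]; abel

theorem W2_inv (hy : y ^ 5 = 1) : W2 y⁻¹ = W2 y := by rw [W2, W2, D_inv hy]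

theorem W2_sq (hy : y ^ 5 = 1) : W2 (y ^ 2) = W2 y := by rw [W2, W2, D_sq hy]

theorem half_add (h2 : (2 : F) ≠ 0) :
    (2⁻¹ : F) • (1 : M4 F) + (2⁻¹ : F) • (1 : M4 F) = 1 := by
  rw [← add_smul, ← two_mul, mul_inv_cancel₀ h2, one_smul]

theorem W1_sq (h2 : (2 : F) ≠ 0) (hy : y ^ 5 = 1) (hD : D y = 0) : W1 (y ^ 2) = - W1 y := by
  rw [eq_neg_iff_add_eq_zero, ← hD, D_eq hy, W1, W1]
  nth_rewrite 3 [← half_add h2]
  abel

theorem W1_mul (h2 : (2 : F) ≠ 0) (hy : y ^ 5 = 1) (hD : D y = 0) :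
    W1 y * W1 y = ((5 : F) * 4⁻¹) • (1 : M4 F) := by
  have hA : (y : M4 F) * ((y⁻¹ : G4 F) : M4 F) = 1 := mul_inv_coe y
  have hB : ((y⁻¹ : G4 F) : M4 F) * (y : M4 F) = 1 := inv_mul_coe y
  have e2 : (y : M4 F) * (y : M4 F) = ((y ^ 2 : G4 F) : M4 F) := by
    rw [← Units.val_mul, ← pow_two]
  have e2' : ((y⁻¹ : G4 F) : M4 F) * ((y⁻¹ : G4 F) : M4 F) = (((y ^ 2)⁻¹ : G4 F) : M4 F) := by
    rw [← Units.val_mul]; congr 1; rw [pow_two, _root_.mul_inv_rev]
  have h4 := four_ne h2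
  set A : M4 F := (y : M4 F) with hAd
  set B : M4 F := ((y⁻¹ : G4 F) : M4 F) with hBd
  have e : W1 y * W1 y = A * A + B * B + A * B + B * A + ((2⁻¹ : F) • (1 : M4 F) +
      (2⁻¹ : F) • (1 : M4 F)) * A + ((2⁻¹ : F) • (1 : M4 F) + (2⁻¹ : F) • (1 : M4 F)) * B +
      ((2⁻¹ : F) * 2⁻¹) • (1 : M4 F) := by
    rw [W1, ← hAd, ← hBd]
    simp only [add_mul, mul_add, Matrix.smul_mul, Matrix.mul_smul, one_mul, mul_one, smul_smul]
    abel
  rw [e, half_add h2, one_mul, one_mul, hA, hB, e2, e2']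
  have hD' := hD
  rw [D_eq hy, ← hAd, ← hBd] at hD'
  have h5 : ((y ^ 2 : G4 F) : M4 F) + (((y ^ 2)⁻¹ : G4 F) : M4 F) = -(1 + (A + B)) :=
    (neg_eq_of_add_eq_zero_right hD').symm
  rw [h5]
  have h6 : (5 : F) * 4⁻¹ = 1 + 2⁻¹ * 2⁻¹ := by
    field_simp; norm_num
  rw [h6, add_smul, one_smul]
  abel

theorem W2_mul (h2 : (2 : F) ≠ 0) (h5 : (5 : F) ≠ 0) (hy : y ^ 5 = 1) :
    W2 y * W2 y = ((2⁻¹ : F) * 2⁻¹) • (1 : M4 F) := by
  rw [W2, sub_mul, mul_sub, mul_sub, smul_mul_smul_comm, D_mul_D hy, Matrix.mul_smul, mul_one,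
    Matrix.smul_mul, one_mul, smul_mul_smul_comm, mul_one, smul_smul, smul_smul]
  have e : (5⁻¹ : F) * 5⁻¹ * 5 = 2⁻¹ * 5⁻¹ + 2⁻¹ * 5⁻¹ := by field_simp; norm_num
  rw [e, add_smul]
  abel

end

/-- the setting: `P` covers `A₅` -/
structure Set5 (P : Subgroup (G4 F)) (φ : P →* alternatingGroup (Fin 5)) (c : P)
    (Y : Fin 6 → P) : Prop where
  cov : TwoCov φ c
  val : ∀ i, ((φ (Y i) : alternatingGroup (Fin 5)) : Equiv.Perm (Fin 5)) = AltFive.y i
  pow : ∀ i, Y i ^ 5 = 1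

theorem exists_set5 {P : Subgroup (G4 F)} {φ : P →* alternatingGroup (Fin 5)} {c : P}
    (h : TwoCov φ c) : ∃ Y : Fin 6 → P, Set5 P φ c Y := by
  have h1 : ∀ i, ∃ z : P, φ z = ⟨AltFive.y i, (AltFive.y_pow i).2.2⟩ ∧ z ^ 5 = 1 := fun i =>
    h.lift_odd (by decide) (Subtype.ext (AltFive.y_pow i).1)
  choose Y hY using h1
  exact ⟨Y, h, fun i => by rw [(hY i).1], fun i => (hY i).2⟩

namespace Set5

variable {P : Subgroup (G4 F)} {φ : P →* alternatingGroup (Fin 5)} {c : P} {Y : Fin 6 → P}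

theorem ne_one (h : Set5 P φ c Y) (i : Fin 6) : Y i ≠ 1 := by
  intro h1
  have h2 := h.val i
  rw [h1, map_one] at h2
  exact (AltFive.y_pow i).2.1 h2.symm

/-- elements of order five -/
theorem cover (h : Set5 P φ c Y) {u : P} (hu : u ^ 5 = 1) (hu1 : u ≠ 1) :
    ∃ i, u = Y i ∨ u = (Y i)⁻¹ ∨ u = Y i ^ 2 ∨ u = (Y i ^ 2)⁻¹ := by
  have h1 : ((φ u : alternatingGroup (Fin 5)) : Equiv.Perm (Fin 5)) ^ 5 = 1 := by
    have := congrArg φ hu
    rw [map_pow, map_one] at this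
    exact congrArg Subtype.val this
  have h2 : ((φ u : alternatingGroup (Fin 5)) : Equiv.Perm (Fin 5)) ≠ 1 := by
    intro h3
    have h4 : φ u = 1 := Subtype.ext h3
    apply hu1
    apply h.cov.lift_unique (n := 5) (by decide) _ hu (one_pow 5)
    rw [h4, map_one]
  obtain ⟨i, hi⟩ := AltFive.cover _ h1 h2
  have hYi := h.pow i
  have hYinv : (Y i)⁻¹ ^ 5 = 1 := by rw [inv_pow, hYi, inv_one]
  have hY2 : (Y i ^ 2) ^ 5 = 1 := by rw [← pow_mul, mul_comm, pow_mul, hYi, one_pow]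
  have hY2' : ((Y i ^ 2)⁻¹) ^ 5 = 1 := by rw [inv_pow, hY2, inv_one]
  refine ⟨i, ?_⟩
  rcases hi with hi | hi | hi | hi
  · left
    exact h.cov.lift_unique (n := 5) (by decide) (Subtype.ext (hi.trans (h.val i).symm)) hu hYi
  · right; left
    refine h.cov.lift_unique (n := 5) (by decide) (Subtype.ext ?_) hu hYinv
    rw [map_inv, Subgroup.coe_inv, h.val i]; exact hi
  · right; right; left
    refine h.cov.lift_unique (n := 5) (by decide) (Subtype.ext ?_) hu hY2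
    rw [map_pow, Subgroup.coe_pow, h.val i]; exact hi
  · right; right; right
    refine h.cov.lift_unique (n := 5) (by decide) (Subtype.ext ?_) hu hY2'
    rw [map_inv, map_pow, Subgroup.coe_inv, Subgroup.coe_pow, h.val i]; exact hi

/-- conjugation of the six representatives -/
theorem lift_conj (h : Set5 P φ c Y) (g : P) (i j : Fin 6)
    (hj : ((φ g : alternatingGroup (Fin 5)) : Equiv.Perm (Fin 5)) * AltFive.y i *
      ((φ g : alternatingGroup (Fin 5)) : Equiv.Perm (Fin 5))⁻¹ = AltFive.y j ∨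
      ((φ g : alternatingGroup (Fin 5)) : Equiv.Perm (Fin 5)) * AltFive.y i *
      ((φ g : alternatingGroup (Fin 5)) : Equiv.Perm (Fin 5))⁻¹ = (AltFive.y j)⁻¹) :
    g * Y i * g⁻¹ = Y j ∨ g * Y i * g⁻¹ = (Y j)⁻¹ := by
  have h1 : (g * Y i * g⁻¹) ^ 5 = 1 := by
    rw [conj_pow, h.pow, mul_one, mul_inv_cancel]
  have h2 : ((φ (g * Y i * g⁻¹) : alternatingGroup (Fin 5)) : Equiv.Perm (Fin 5)) =
      ((φ g : alternatingGroup (Fin 5)) : Equiv.Perm (Fin 5)) * AltFive.y i *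
      ((φ g : alternatingGroup (Fin 5)) : Equiv.Perm (Fin 5))⁻¹ := by
    rw [map_mul, map_mul, map_inv, Subgroup.coe_mul, Subgroup.coe_mul, Subgroup.coe_inv, h.val]
  rcases hj with hj | hj
  · left
    refine h.cov.lift_unique (n := 5) (by decide) (Subtype.ext ?_) h1 (h.pow j)
    rw [h2, hj, h.val]
  · right
    refine h.cov.lift_unique (n := 5) (by decide) (Subtype.ext ?_) h1
      (by rw [inv_pow, h.pow, inv_one])
    rw [h2, hj, map_inv, Subgroup.coe_inv, h.val]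

/-- The main contradiction. -/
theorem orb_false [Finite F] (h : Set5 P φ c Y) {H : Subgroup (G4 F)} (ctx : Ctx P)
    (core : IsResidualCore H P) (hmax : IsMaximalIn (spGL 2 F) H) (h3 : (3 : F) ≠ 0)
    (hcard : Nat.card P < 360)
    {W : G4 F → M4 F} {α : F} (hconj : ∀ g y : G4 F, W (g * y * g⁻¹) = cj g (W y))
    (hinv : ∀ y : P, y ^ 5 = 1 → W ((y : G4 F)⁻¹) = W y)
    (hsq : ∀ y : P, y ^ 5 = 1 → y ≠ 1 → W ((y : G4 F) ^ 2) = W y ∨ W ((y : G4 F) ^ 2) = - W y)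
    (hsa : ∀ y : P, y ^ 5 = 1 → SA (W y))
    (hsqa : ∀ y : P, y ^ 5 = 1 → y ≠ 1 → W y * W y = α • (1 : M4 F))
    (hns : ∀ a : F, W (Y 0) ≠ a • (1 : M4 F)) : False := by
  classical
  -- traces
  have hpair : ∀ i j, i ≠ j → ∃ g ∈ P, cj g (W (Y 0)) = W (Y i) ∧ cj g (W (Y 1)) = W (Y j) := by
    intro i j hij
    obtain ⟨τ, hτ, h1, h2⟩ := AltFive.pair i j hij
    obtain ⟨g, hg⟩ := h.cov.surj ⟨τ, hτ⟩
    have hg' : ((φ g : alternatingGroup (Fin 5)) : Equiv.Perm (Fin 5)) = τ := by rw [hg]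
    rw [← hg'] at h1 h2
    refine ⟨g, g.2, ?_, ?_⟩
    · rw [← hconj]
      have h4 := h.lift_conj g 0 i h1
      rcases h4 with h4 | h4
      · have := congrArg (fun z : P => W (z : G4 F)) h4
        exact this
      · have := congrArg (fun z : P => W (z : G4 F)) h4
        exact this.trans (hinv _ (h.pow i))
    · rw [← hconj]
      have h4 := h.lift_conj g 1 j h2
      rcases h4 with h4 | h4
      · have := congrArg (fun z : P => W (z : G4 F)) h4
        exact this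
      · have := congrArg (fun z : P => W (z : G4 F)) h4
        exact this.trans (hinv _ (h.pow j))
  have htr0 : (W (Y 0)).trace = 0 :=
    (hsa _ (h.pow 0)).trace_zero ctx.two (hsqa _ (h.pow 0) (h.ne_one 0)) hns
  have htr : ∀ i, (W (Y i)).trace = 0 := by
    intro i
    have : ∃ j, i ≠ j := by
      by_cases hi : i = 0
      · exact ⟨1, by rw [hi]; decide⟩
      · exact ⟨0, hi⟩
    obtain ⟨j, hj⟩ := this
    obtain ⟨g, -, hg, -⟩ := hpair i j hj
    rw [← hg, cj_trace, htr0]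
  -- the orbit
  have horb : Orb P (fun i => W (Y i)) α := by
    refine ⟨ctx.two, h3, core.absIrred, fun i => hsa _ (h.pow i), htr,
      fun i => hsqa _ (h.pow i) (h.ne_one i), hns, ?_, hpair⟩
    intro g hg
    have h1 : ∀ i, ∃ j, (⟨g, hg⟩ : P) * Y i * (⟨g, hg⟩ : P)⁻¹ = Y j ∨
        (⟨g, hg⟩ : P) * Y i * (⟨g, hg⟩ : P)⁻¹ = (Y j)⁻¹ := by
      intro i
      obtain ⟨j, hj⟩ := AltFive.conj ((φ ⟨g, hg⟩ : alternatingGroup (Fin 5)) : Equiv.Perm (Fin 5))
        (φ ⟨g, hg⟩).2 i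
      exact ⟨j, h.lift_conj _ i j hj⟩
    choose π hπ using h1
    have hYinj : ∀ i j, (Y i = Y j ∨ Y i = (Y j)⁻¹) → i = j := by
      intro i j hij
      apply AltFive.inj
      rcases hij with h5 | h5
      · left; rw [← h.val, ← h.val, h5]
      · right; rw [← h.val i, h5, map_inv, Subgroup.coe_inv, h.val]
    have hinj : Function.Injective π := by
      intro i j hij
      have hi := hπ i
      have hj := hπ j
      rw [hij] at hi
      apply hYinj
      have key : ∀ a b : P, (⟨g, hg⟩ : P) * a * (⟨g, hg⟩ : P)⁻¹ = (⟨g, hg⟩ : P) * b * (⟨g, hg⟩ : P)⁻¹ →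
          a = b := fun a b hab => by simpa using hab
      have kinv : (⟨g, hg⟩ : P) * (Y j)⁻¹ * (⟨g, hg⟩ : P)⁻¹ =
          ((⟨g, hg⟩ : P) * Y j * (⟨g, hg⟩ : P)⁻¹)⁻¹ := by group
      rcases hi with hi | hi <;> rcases hj with hj | hj
      · left; exact key _ _ (hi.trans hj.symm)
      · right; apply key; rw [kinv, hi, hj, inv_inv]
      · right; apply key; rw [kinv, hi, hj]
      · left; exact key _ _ (hi.trans hj.symm)
    refine ⟨Equiv.ofBijective π (Finite.injective_iff_bijective.1 hinj), fun i => ?_⟩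
    rw [← hconj]
    rcases hπ i with h5 | h5
    · exact congrArg (fun z : P => W (z : G4 F)) h5
    · exact (congrArg (fun z : P => W (z : G4 F)) h5).trans (hinv _ (h.pow _))
  obtain ⟨β, hsix, -⟩ := horb.six
  have hmain := hsix.main hmax core.normal core.perfect core.absIrred (by
    intro g hg i
    have h1 : g * (Y i : G4 F) * g⁻¹ ∈ P := core.normal g hg _ (Y i).2
    have h2 : (⟨g * (Y i : G4 F) * g⁻¹, h1⟩ : P) ^ 5 = 1 := by
      apply Subtype.ext
      change (g * (Y i : G4 F) * g⁻¹) ^ 5 = 1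
      have h3 : (Y i : G4 F) ^ 5 = 1 := congrArg Subtype.val (h.pow i)
      rw [conj_pow, h3, mul_one, mul_inv_cancel]
    have h4 : (⟨g * (Y i : G4 F) * g⁻¹, h1⟩ : P) ≠ 1 := by
      intro h5
      have h6 : g * (Y i : G4 F) * g⁻¹ = 1 := congrArg Subtype.val h5
      apply h.ne_one i
      apply Subtype.ext
      rw [mul_inv_eq_one] at h6
      exact mul_eq_left.1 h6
    obtain ⟨j, hj⟩ := h.cover h2 h4
    refine ⟨j, ?_⟩
    rw [← hconj]
    have cast : ∀ z : P, (⟨g * (Y i : G4 F) * g⁻¹, h1⟩ : P) = z →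
        W (g * (Y i : G4 F) * g⁻¹) = W z := fun z hz => congrArg (fun z : P => W (z : G4 F)) hz
    have hY2 : (Y j ^ 2) ^ 5 = 1 := by rw [← pow_mul, mul_comm, pow_mul, h.pow, one_pow]
    rcases hj with hj | hj | hj | hj
    · left; exact cast _ hj
    · left; exact (cast _ hj).trans (hinv _ (h.pow j))
    · rcases hsq (Y j) (h.pow j) (h.ne_one j) with h7 | h7
      · left; exact (cast _ hj).trans h7
      · right; exact (cast _ hj).trans h7
    · rcases hsq (Y j) (h.pow j) (h.ne_one j) with h7 | h7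
      · left; exact ((cast _ hj).trans (hinv _ hY2)).trans h7
      · right; exact ((cast _ hj).trans (hinv _ hY2)).trans h7) (fun g hg => horb.perm g hg)
  -- counting
  choose! γ hγ using hmain
  have hle : Nat.card (alternatingGroup (Fin 6)) ≤ Nat.card P := by
    apply Nat.card_le_card_of_injective
      (fun σ : alternatingGroup (Fin 6) => (⟨γ σ, (hγ σ σ.2).1⟩ : P))
    intro σ τ hστ
    have h1 : γ σ = γ τ := congrArg Subtype.val hστ
    apply Subtype.ext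
    apply Equiv.ext
    intro i
    apply hsix.inj
    have h2 := (hγ σ σ.2).2 i
    have h3 := (hγ τ τ.2).2 i
    rw [h1, h3] at h2
    exact h2.symm
  have h360 : Nat.card (alternatingGroup (Fin 6)) = 360 := by
    rw [nat_card_alternatingGroup]
    simp [Nat.factorial]
  omega

/-- values at the representatives are conjugate -/
theorem exists_conj (h : Set5 P φ c Y) {W : G4 F → M4 F}
    (hconj : ∀ g y : G4 F, W (g * y * g⁻¹) = cj g (W y))
    (hinv : ∀ y : P, y ^ 5 = 1 → W ((y : G4 F)⁻¹) = W y) (i : Fin 6) :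
    ∃ g ∈ P, cj g (W (Y 0)) = W (Y i) := by
  have : ∃ j, i ≠ j := by
    by_cases hi : i = 0
    · exact ⟨1, by rw [hi]; decide⟩
    · exact ⟨0, hi⟩
  obtain ⟨j, hj⟩ := this
  obtain ⟨τ, hτ, h1, -⟩ := AltFive.pair i j hj
  obtain ⟨g, hg⟩ := h.cov.surj ⟨τ, hτ⟩
  have hg' : ((φ g : alternatingGroup (Fin 5)) : Equiv.Perm (Fin 5)) = τ := by rw [hg]
  rw [← hg'] at h1
  refine ⟨g, g.2, ?_⟩
  rw [← hconj]
  rcases h.lift_conj g 0 i h1 with h4 | h4
  · exact congrArg (fun z : P => W (z : G4 F)) h4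
  · exact (congrArg (fun z : P => W (z : G4 F)) h4).trans (hinv _ (h.pow i))

/-- `D` vanishes at all elements of order five if it does at one representative. -/
theorem D_zero (h : Set5 P φ c Y) (h0 : D (Y 0 : G4 F) = 0) {u : P} (hu : u ^ 5 = 1)
    (hu1 : u ≠ 1) : D (u : G4 F) = 0 := by
  have hpow : ∀ z : P, z ^ 5 = 1 → (z : G4 F) ^ 5 = 1 := fun z hz => congrArg Subtype.val hz
  obtain ⟨i, hi⟩ := h.cover hu hu1
  obtain ⟨g, -, hg⟩ := h.exists_conj (W := D) D_conj (fun y hy => D_inv (hpow y hy)) i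
  rw [h0] at hg
  have hYi : D (Y i : G4 F) = 0 := by rw [← hg, cj, mul_zero, zero_mul]
  have h5 := hpow _ (h.pow i)
  have h52 : ((Y i : G4 F) ^ 2) ^ 5 = 1 := by rw [← pow_mul, mul_comm, pow_mul, h5, one_pow]
  rcases hi with rfl | rfl | rfl | rfl
  · exact hYi
  · rw [Subgroup.coe_inv, D_inv h5, hYi]
  · rw [Subgroup.coe_pow, D_sq h5, hYi]
  · rw [Subgroup.coe_inv, Subgroup.coe_pow, D_inv h52, D_sq h5, hYi]

end Set5

/-- generation modulo scalars -/
theorem gen_mod_scalars {P : Subgroup (G4 F)} {X : Type*} [Group X] {φ : P →* X} {c : P}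
    (h : TwoCov φ c) (hc : (c : G4 F) ∈ scalars (Fin 2 ⊕ Fin 2) F) (S : Set P)
    (hS : Subgroup.closure (φ '' S) = ⊤) :
    P ≤ Subgroup.closure ((fun z : P => (z : G4 F)) '' S) ⊔ scalars (Fin 2 ⊕ Fin 2) F := by
  intro g hg
  have h1 : ∀ z : P, z ∈ Subgroup.closure S →
      (z : G4 F) ∈ Subgroup.closure ((fun z : P => (z : G4 F)) '' S) := by
    intro z hz
    have : (z : G4 F) ∈ (Subgroup.closure S).map P.subtype := ⟨z, hz, rfl⟩
    rw [MonoidHom.map_closure] at this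
    exact this
  rcases h.closure_lift S hS ⟨g, hg⟩ with h2 | h2
  · exact Subgroup.mem_sup_left (h1 _ h2)
  · have h3 := h1 _ h2
    have h4 : g = (c : G4 F)⁻¹ * ((c * ⟨g, hg⟩ : P) : G4 F) := by
      rw [Subgroup.coe_mul, inv_mul_cancel_left]
    rw [h4]
    exact mul_mem (Subgroup.mem_sup_right (inv_mem hc)) (Subgroup.mem_sup_left h3)

theorem gen_five : Subgroup.closure
    ({⟨AltFive.y 0, (AltFive.y_pow 0).2.2⟩, ⟨AltFive.y 1, (AltFive.y_pow 1).2.2⟩} :
      Set (alternatingGroup (Fin 5))) = ⊤ := by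
  apply AltGen.gen'
  rw [Set.image_pair]
  exact AltFive.gen_y

theorem card_P [Finite F] {P : Subgroup (G4 F)} (ctx : Ctx P) :
    Nat.card P = 2 * Nat.card (P ⧸ Zs P) := by
  have h1 := ctx.card_ker
  rw [QuotientGroup.ker_mk'] at h1
  rw [Subgroup.card_eq_card_quotient_mul_card_subgroup (Zs P), h1, mul_comm]

/-- `A₅` does not occur. -/
theorem five_false [Finite F] {P H : Subgroup (G4 F)} (ctx : Ctx P)
    (core : IsResidualCore H P) (hmax : IsMaximalIn (spGL 2 F) H) (h3 : (3 : F) ≠ 0)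
    (e : (P ⧸ Zs P) ≃* alternatingGroup (Fin 5)) : False := by
  classical
  have hcov := ctx.twoCov.comp e
  obtain ⟨Y, h⟩ := exists_set5 hcov
  have hpow : ∀ z : P, z ^ 5 = 1 → (z : G4 F) ^ 5 = 1 := fun z hz => congrArg Subtype.val hz
  have hcard : Nat.card P < 360 := by
    rw [card_P ctx, Nat.card_congr e.toEquiv, nat_card_alternatingGroup]
    simp [Nat.factorial]
  by_cases h0 : D (Y 0 : G4 F) = 0
  · refine h.orb_false ctx core hmax h3 hcard (W := W1) (α := (5 : F) * 4⁻¹) W1_conj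
      (fun y _ => W1_inv _) (fun y hy hy1 => Or.inr (W1_sq ctx.two (hpow y hy) (h.D_zero h0 hy hy1)))
      (fun y hy => (SA.add_inv (ctx.le y.2)).add (SA.one.smul _))
      (fun y hy hy1 => W1_mul ctx.two (hpow y hy) (h.D_zero h0 hy hy1)) ?_
    intro a ha
    have h1 : ∀ i, W1 (Y i : G4 F) = a • (1 : M4 F) := by
      intro i
      obtain ⟨g, -, hg⟩ := h.exists_conj (W := W1) W1_conj (fun y _ => W1_inv _) i
      rw [← hg, ha, cj_smul, cj_id]
    have h2 : ∀ i, ((Y i : G4 F) : M4 F) + (((Y i : G4 F)⁻¹ : G4 F) : M4 F) =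
        (a - 2⁻¹) • (1 : M4 F) := by
      intro i
      rw [sub_smul, ← h1 i, W1]; abel
    refine QuadPair.quad_pair (P := P) (by simp) core.absIrred (y₁ := (Y 0 : G4 F))
      (y₂ := (Y 1 : G4 F)) ?_ (h2 0) (h2 1)
    have h4 := gen_mod_scalars hcov (by
      change (-1 : G4 F) ∈ _; exact neg_one_scalar) ({Y 0, Y 1} : Set P) (by
        rw [Set.image_pair]
        have e0 : (e.toMonoidHom.comp (QuotientGroup.mk' (Zs P))) (Y 0) =
            ⟨AltFive.y 0, (AltFive.y_pow 0).2.2⟩ := Subtype.ext (h.val 0)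
        have e1 : (e.toMonoidHom.comp (QuotientGroup.mk' (Zs P))) (Y 1) =
            ⟨AltFive.y 1, (AltFive.y_pow 1).2.2⟩ := Subtype.ext (h.val 1)
        rw [e0, e1]
        exact gen_five)
    rwa [Set.image_pair] at h4
  · -- `5` is invertible
    have h5 : (5 : F) ≠ 0 := by
      intro h5
      apply h0
      have hy := hpow _ (h.pow 0)
      set y : M4 F := ((Y 0 : G4 F) : M4 F) with hyd
      have hy5 : y ^ 5 = 1 := by rw [hyd, ← Units.val_pow_eq_pow_val, hy, Units.val_one]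
      have hD : D (Y 0 : G4 F) = 1 + y + y ^ 2 + y ^ 3 + y ^ 4 := by
        rw [D, Units.val_pow_eq_pow_val, Units.val_pow_eq_pow_val, Units.val_pow_eq_pow_val]
      have h5M : (5 : M4 F) = 0 := by
        have : ((5 : F) • (1 : M4 F)) = 5 := by
          have h6 : (5 : F) = 1 + 1 + 1 + 1 + 1 := by norm_num
          rw [h6]; simp only [add_smul, one_smul]; norm_num
        rw [← this, h5, zero_smul]
      have hnil : IsNilpotent (y - 1) := by
        refine ⟨5, ?_⟩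
        have e1 : (y - 1) ^ 5 = y ^ 5 - 1 - 5 * (y ^ 4 - 2 * y ^ 3 + 2 * y ^ 2 - y) := by
          noncomm_ring
        rw [e1, hy5, h5M, zero_mul, sub_self, sub_zero]
      have h7 := AltGen.nilp_pow hnil
      have e2 : (y - 1) ^ 4 = 1 + y + y ^ 2 + y ^ 3 + y ^ 4 - 5 * (y ^ 3 - y ^ 2 + y) := by
        noncomm_ring
      have hc : Fintype.card (Fin 2 ⊕ Fin 2) = 4 := by simp
      rw [hc, e2, h5M, zero_mul, sub_zero] at h7
      rw [hD, h7]
    refine h.orb_false ctx core hmax h3 hcard (W := W2) (α := (2⁻¹ : F) * 2⁻¹) W2_conj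
      (fun y hy => W2_inv (hpow y hy)) (fun y hy _ => Or.inl (W2_sq (hpow y hy)))
      (fun y hy => ((D_SA (ctx.le y.2) (hpow y hy)).smul _).sub (SA.one.smul _))
      (fun y hy _ => W2_mul ctx.two h5 (hpow y hy)) ?_
    intro a ha
    have h6 : D (Y 0 : G4 F) = (5 * (a + 2⁻¹)) • (1 : M4 F) := by
      have h7 : (5⁻¹ : F) • D (Y 0 : G4 F) = (a + 2⁻¹) • (1 : M4 F) := by
        rw [add_smul, ← ha, W2]; abel
      rw [mul_smul, ← h7, smul_smul, mul_inv_cancel₀ h5, one_smul]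
    set b : F := 5 * (a + 2⁻¹) with hb
    have hb0 : b ≠ 0 := by
      intro hb0
      rw [hb0, zero_smul] at h6
      exact h0 h6
    have h8 := mul_D (hpow _ (h.pow 0))
    rw [h6, Matrix.mul_smul, mul_one] at h8
    have h9 : ((Y 0 : G4 F) : M4 F) = 1 := by
      have := congrArg (fun M : M4 F => b⁻¹ • M) h8
      simpa [smul_smul, inv_mul_cancel₀ hb0] using this
    apply h.ne_one 0
    apply Subtype.ext
    apply Units.ext
    exact h9

end Cfsg.Agent.H909.AFive
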