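import Mathlib

/-!
# Combinatorics of `A₇` (helper909)
-/

set_option autoImplicit false

namespace Cfsg.Agent.H909.AltSeven

open Equiv

/-- the cycle types in `A₇` -/
theorem cycleType_cases {σ : Perm (Fin 7)} (h : Perm.sign σ = 1) :
    σ.cycleType = 0 ∨ σ.cycleType = {3} ∨ σ.cycleType = {5} ∨ σ.cycleType = {7} ∨
      σ.cycleType = {2, 2} ∨ σ.cycleType = {2, 4} ∨ σ.cycleType = {3, 3} ∨
      σ.cycleType = {2, 2, 3} := by
  have h2 : ∀ n ∈ σ.cycleType, 2 ≤ n := fun n hn => Perm.two_le_of_mem_cycleType hn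
  have hsum : σ.cycleType.sum ≤ 7 := by
    rw [Perm.sum_cycleType]
    have := σ.support.card_le_univ
    simpa using this
  have hev : Even (σ.cycleType.sum + σ.cycleType.card) := by
    rw [Perm.sign_of_cycleType] at h
    rcases Nat.even_or_odd (σ.cycleType.sum + σ.cycleType.card) with h1 | h1
    · exact h1
    · rw [h1.neg_one_pow] at h
      exact absurd h (by decide)
  generalize σ.cycleType = s at *
  have hcard : 2 * s.card ≤ 7 := by
    have h3 : s.card • 2 ≤ s.sum := Multiset.card_nsmul_le_sum h2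
    rw [smul_eq_mul] at h3
    omega
  have hc : s.card = 0 ∨ s.card = 1 ∨ s.card = 2 ∨ s.card = 3 := by omega
  rcases hc with hc | hc | hc | hc
  · left; exact Multiset.card_eq_zero.1 hc
  · obtain ⟨a, rfl⟩ := Multiset.card_eq_one.1 hc
    have ha := h2 a (by simp)
    rw [Multiset.sum_singleton] at hsum
    rw [Multiset.sum_singleton, Multiset.card_singleton, Nat.even_iff] at hev
    have : a = 3 ∨ a = 5 ∨ a = 7 := by omega
    rcases this with rfl | rfl | rfl <;> simp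
  · obtain ⟨a, b, rfl⟩ := Multiset.card_eq_two.1 hc
    have ha := h2 a (by simp)
    have hb := h2 b (by simp)
    simp only [Multiset.insert_eq_cons, Multiset.sum_cons, Multiset.sum_singleton,
      Multiset.card_cons, Multiset.card_singleton, Nat.even_iff] at hsum hev
    have : (a = 2 ∧ b = 2) ∨ (a = 2 ∧ b = 4) ∨ (a = 4 ∧ b = 2) ∨ (a = 3 ∧ b = 3) := by omega
    rcases this with ⟨rfl, rfl⟩ | ⟨rfl, rfl⟩ | ⟨rfl, rfl⟩ | ⟨rfl, rfl⟩ <;> decide
  · obtain ⟨a, b, c, rfl⟩ := Multiset.card_eq_three.1 hc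
    have ha := h2 a (by simp)
    have hb := h2 b (by simp)
    have hc' := h2 c (by simp)
    simp only [Multiset.insert_eq_cons, Multiset.sum_cons, Multiset.sum_singleton,
      Multiset.card_cons, Multiset.card_singleton, Nat.even_iff] at hsum hev
    have : (a = 3 ∧ b = 2 ∧ c = 2) ∨ (a = 2 ∧ b = 3 ∧ c = 2) ∨ (a = 2 ∧ b = 2 ∧ c = 3) := by omega
    rcases this with ⟨rfl, rfl, rfl⟩ | ⟨rfl, rfl, rfl⟩ | ⟨rfl, rfl, rfl⟩ <;> decide

theorem pow_of_lcm {σ : Perm (Fin 7)} {s : Multiset ℕ} {n : ℕ} (h : σ.cycleType = s)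
    (hn : s.lcm = n) : σ ^ n = 1 := by
  rw [← hn, ← h, Perm.lcm_cycleType, pow_orderOf_eq_one]

/-- a 5-cycle -/
def f₅ : Perm (Fin 7) := List.formPerm [0, 1, 2, 3, 4]
/-- a 7-cycle -/
def f₇ : Perm (Fin 7) := List.formPerm [0, 1, 2, 3, 4, 5, 6]
/-- an element of order six -/
def f₆ : Perm (Fin 7) := List.formPerm [0, 1, 2] * List.formPerm [3, 4] * List.formPerm [5, 6]

theorem type_five {σ : Perm (Fin 7)} (h : σ.cycleType = {5}) : ∃ k, k * f₅ * k⁻¹ = σ := by
  have h1 : f₅.cycleType = {5} := by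
    have hc : f₅.IsCycle := List.isCycle_formPerm (by decide) (by decide)
    rw [hc.cycleType]; decide +kernel
  exact isConj_iff.1 ((Perm.isConj_iff_cycleType_eq).2 (h1.trans h.symm))

theorem type_six {σ : Perm (Fin 7)} (h : σ.cycleType = {2, 2, 3}) : ∃ k, k * f₆ * k⁻¹ = σ := by
  have h1 : f₆.cycleType = {2, 2, 3} := by
    have e1 : (List.formPerm [0, 1, 2] : Perm (Fin 7)).IsCycle :=
      List.isCycle_formPerm (by decide) (by decide)
    have e2 : (List.formPerm [3, 4] : Perm (Fin 7)).IsCycle :=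
      List.isCycle_formPerm (by decide) (by decide)
    have e3 : (List.formPerm [5, 6] : Perm (Fin 7)).IsCycle :=
      List.isCycle_formPerm (by decide) (by decide)
    have d1 : Perm.Disjoint (List.formPerm [0, 1, 2] * List.formPerm [3, 4] : Perm (Fin 7))
        (List.formPerm [5, 6]) := by
      intro x; revert x; decide +kernel
    have d2 : Perm.Disjoint (List.formPerm [0, 1, 2] : Perm (Fin 7)) (List.formPerm [3, 4]) := by
      intro x; revert x; decide +kernel
    rw [f₆, d1.cycleType_mul, d2.cycleType_mul, e1.cycleType, e2.cycleType, e3.cycleType]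
    decide +kernel
  exact isConj_iff.1 ((Perm.isConj_iff_cycleType_eq).2 (h1.trans h.symm))

theorem five_sq : ∃ m : Perm (Fin 7), Perm.sign m = 1 ∧ m * f₅ * m⁻¹ = f₅ ^ 2 := by
  refine ⟨List.formPerm [1, 2, 4, 3] * List.formPerm [5, 6], ?_⟩
  decide +kernel

theorem seven_sq : ∃ m : Perm (Fin 7), Perm.sign m = 1 ∧ m * f₇ * m⁻¹ = f₇ ^ 2 := by
  refine ⟨List.formPerm [1, 2, 4] * List.formPerm [3, 6, 5], ?_⟩
  decide +kernel

theorem f₇_pow : f₇ ^ 7 = 1 ∧ f₇ ≠ 1 ∧ Perm.sign f₇ = 1 := by decide +kernel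

/-- an involution which does not lift to an involution -/
def NL (σ : Perm (Fin 7)) : Prop := σ * σ = 1 ∧ σ ≠ 1 ∧ ∃ b d e : Perm (Fin 7), Perm.sign b = 1 ∧
  Perm.sign d = 1 ∧ Perm.sign e = 1 ∧ b ≠ 1 ∧ σ ≠ b ∧ d * σ * d⁻¹ = b ∧ e * σ * e⁻¹ = σ * b

theorem NL.conj {σ : Perm (Fin 7)} (h : NL σ) (k : Perm (Fin 7)) : NL (k * σ * k⁻¹) := by
  obtain ⟨h2, h1, b, d, e, sb, sd, se, hb, hσb, hd, he⟩ := h
  have sk : ∀ x : Perm (Fin 7), Perm.sign (k * x * k⁻¹) = Perm.sign x := fun x => by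
    rw [Perm.sign_mul, Perm.sign_mul, Perm.sign_inv, mul_comm, ← mul_assoc]
    simp
  refine ⟨?_, ?_, k * b * k⁻¹, k * d * k⁻¹, k * e * k⁻¹, by rw [sk, sb], by rw [sk, sd],
    by rw [sk, se], ?_, ?_, ?_, ?_⟩
  · calc k * σ * k⁻¹ * (k * σ * k⁻¹) = k * (σ * σ) * k⁻¹ := by group
      _ = 1 := by rw [h2]; group
  · intro h; apply h1
    have : k * σ * k⁻¹ = k * 1 * k⁻¹ := by rw [h]; group
    exact mul_left_cancel (mul_right_cancel this)
  · intro h; apply hb
    have : k * b * k⁻¹ = k * 1 * k⁻¹ := by rw [h]; group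
    exact mul_left_cancel (mul_right_cancel this)
  · intro h; exact hσb (mul_left_cancel (mul_right_cancel h))
  · calc k * d * k⁻¹ * (k * σ * k⁻¹) * (k * d * k⁻¹)⁻¹ = k * (d * σ * d⁻¹) * k⁻¹ := by group
      _ = _ := by rw [hd]
  · calc k * e * k⁻¹ * (k * σ * k⁻¹) * (k * e * k⁻¹)⁻¹ = k * (e * σ * e⁻¹) * k⁻¹ := by group
      _ = k * (σ * b) * k⁻¹ := by rw [he]
      _ = _ := by group

/-- the commuting involution for the element of order six -/
theorem six_data : ∃ j : Perm (Fin 7), Perm.sign j = 1 ∧ j * f₆ * j⁻¹ = f₆ ∧ NL (f₆ ^ 3) ∧ NL j ∧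
    NL (f₆ ^ 3 * j) := by
  refine ⟨List.formPerm [3, 5] * List.formPerm [4, 6], by decide +kernel, by decide +kernel,
    ⟨by decide +kernel, by decide +kernel, List.formPerm [3, 5] * List.formPerm [4, 6],
      List.formPerm [4, 5, 6], List.formPerm [4, 6, 5], by decide +kernel⟩,
    ⟨by decide +kernel, by decide +kernel, List.formPerm [3, 6] * List.formPerm [4, 5],
      List.formPerm [4, 5, 6], List.formPerm [4, 6, 5], by decide +kernel⟩,
    ⟨by decide +kernel, by decide +kernel, List.formPerm [3, 4] * List.formPerm [5, 6],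
      List.formPerm [4, 5, 6], List.formPerm [4, 6, 5], by decide +kernel⟩⟩

end Cfsg.Agent.H909.AltSeven
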