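import Mathlib
import Cfsg.Prelude.Def_GeometricClasses
import Cfsg.Agent.H909.AFive

/-!
# Elements of order three in `Sp₄(F)` (helper909)

`S3 x = 1 + x + x⁻¹`; `tr x ∈ {1, -2}`; the relation for two commuting elements of order three.
-/

set_option autoImplicit false

namespace Cfsg.Agent.H909.ThreeEl

open Cfsg Cfsg.Geo Matrix Module
open Cfsg.Agent.ClassicalGeometry.SympBasic
open SpDouble AFive

universe u

variable {F : Type u} [Field F]

local notation "M4" => Matrix (Fin 2 ⊕ Fin 2) (Fin 2 ⊕ Fin 2)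
local notation "G4" => GL (Fin 2 ⊕ Fin 2)

/-- adjoint matrices have the same trace -/
theorem trace_adjoint {m : ℕ} {A B : Matrix (Fin m ⊕ Fin m) (Fin m ⊕ Fin m) F}
    (h : Aᵀ * Matrix.J (Fin m) F = Matrix.J (Fin m) F * B) : A.trace = B.trace := by
  have hJ : Matrix.J (Fin m) F * Matrix.J (Fin m) F = -1 := Matrix.J_squared (Fin m) F
  have h1 : B = -(Matrix.J (Fin m) F * (Aᵀ * Matrix.J (Fin m) F)) := by
    rw [h, ← mul_assoc, hJ, neg_one_mul, neg_neg]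
  rw [h1, Matrix.trace_neg, Matrix.trace_mul_comm, mul_assoc, hJ, mul_neg, mul_one,
    Matrix.trace_neg, neg_neg, Matrix.trace_transpose]

theorem trace_inv {m : ℕ} {g : GL (Fin m ⊕ Fin m) F} (hg : g ∈ spGL m F) :
    ((g⁻¹ : GL (Fin m ⊕ Fin m) F) : Matrix (Fin m ⊕ Fin m) (Fin m ⊕ Fin m) F).trace =
      (g : Matrix (Fin m ⊕ Fin m) (Fin m ⊕ Fin m) F).trace :=
  (trace_adjoint ((adjoint_iff _ _).1 (sympForm_inv_right hg))).symm

/-- `1 + x + x⁻¹` -/
def S3 (x : G4 F) : M4 F := 1 + (x : M4 F) + ((x⁻¹ : G4 F) : M4 F)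

theorem S3_conj (g x : G4 F) : S3 (g * x * g⁻¹) = cj g (S3 x) := by
  have : (g * x * g⁻¹)⁻¹ = g * x⁻¹ * g⁻¹ := by group
  rw [S3, S3, this, cj_add, cj_add, cj_coe, cj_coe, cj_id]

theorem S3_inv (x : G4 F) : S3 x⁻¹ = S3 x := by rw [S3, S3, inv_inv]; abel

theorem S3_SA {x : G4 F} (hx : x ∈ spGL 2 F) : SA (S3 x) := by
  rw [S3, add_assoc]; exact SA.one.add (SA.add_inv hx)

theorem S3_trace {x : G4 F} (hx : x ∈ spGL 2 F) : (S3 x).trace = 4 + 2 * (x : M4 F).trace := by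
  rw [S3, Matrix.trace_add, Matrix.trace_add, trace_inv hx, Matrix.trace_one]
  simp; ring

theorem mul_S3 {x : G4 F} (hx : x ^ 3 = 1) : (x : M4 F) * S3 x = S3 x := by
  have e1 : (x : M4 F) * (x : M4 F) = ((x⁻¹ : G4 F) : M4 F) := by
    rw [← Units.val_mul]; congr 1
    rw [eq_inv_iff_mul_eq_one, ← pow_two, ← pow_succ, hx]
  rw [S3, mul_add, mul_add, mul_one, e1, mul_inv_coe]; abel

theorem inv_mul_S3 {x : G4 F} (hx : x ^ 3 = 1) : ((x⁻¹ : G4 F) : M4 F) * S3 x = S3 x := by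
  nth_rewrite 1 [← mul_S3 hx]
  rw [← mul_assoc, inv_mul_coe, one_mul]

theorem S3_mul_S3 {x : G4 F} (hx : x ^ 3 = 1) : S3 x * S3 x = (3 : F) • S3 x := by
  have h : S3 x * S3 x = S3 x + (x : M4 F) * S3 x + ((x⁻¹ : G4 F) : M4 F) * S3 x := by
    nth_rewrite 1 [S3]
    simp only [add_mul, one_mul]
  rw [h, mul_S3 hx, inv_mul_S3 hx]
  have : (3 : F) = 1 + 1 + 1 := by norm_num
  rw [this]
  simp only [add_smul, one_smul]

theorem S3_comm {x y : G4 F} (h : x * y = y * x) : S3 x * S3 y = S3 y * S3 x := by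
  have e : ∀ a b : G4 F, a * b = b * a → (a : M4 F) * (b : M4 F) = (b : M4 F) * (a : M4 F) :=
    fun a b hab => by rw [← Units.val_mul, hab, Units.val_mul]
  have c : Commute x y := h
  have h1 := e x y h
  have h2 := e x⁻¹ y c.inv_left
  have h3 := e x y⁻¹ c.inv_right
  have h4 := e x⁻¹ y⁻¹ c.inv_left.inv_right
  simp only [S3, mul_add, add_mul, mul_one, one_mul, h1, h2, h3, h4]
  abel

/-- A self-adjoint matrix `M` with `M² = m M` has trace `0`, `2 m` or `4 m`. -/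
theorem trace_proj (h2 : (2 : F) ≠ 0) {M : M4 F} (hM : SA M) {m : F} (hmm : M * M = m • M) :
    M.trace = 0 ∨ M.trace = 2 * m ∨ M.trace = 4 * m := by
  by_cases hs : ∃ c : F, M = c • (1 : M4 F)
  · obtain ⟨c, rfl⟩ := hs
    rw [smul_mul_smul_comm, one_mul, smul_smul] at hmm
    have h1 := smul_one_inj hmm
    rw [trace_smul_one]
    by_cases hc : c = 0
    · left; rw [hc, mul_zero]
    · right; right; rw [mul_right_cancel₀ hc h1]
  · right; left
    push Not at hs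
    have hW : SA (M - (m * 2⁻¹) • (1 : M4 F)) := hM.sub (SA.one.smul _)
    have hsq : (M - (m * 2⁻¹) • (1 : M4 F)) * (M - (m * 2⁻¹) • (1 : M4 F)) =
        ((m * 2⁻¹) * (m * 2⁻¹)) • (1 : M4 F) := by
      have e : (M - (m * 2⁻¹) • (1 : M4 F)) * (M - (m * 2⁻¹) • (1 : M4 F)) =
          M * M - (m * 2⁻¹ + m * 2⁻¹) • M + ((m * 2⁻¹) * (m * 2⁻¹)) • (1 : M4 F) := by
        rw [sub_mul, mul_sub, mul_sub, Matrix.mul_smul, mul_one, Matrix.smul_mul, one_mul,
          smul_mul_smul_comm, mul_one, add_smul]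
        abel
      rw [e, hmm]
      have : m * 2⁻¹ + m * 2⁻¹ = m := by field_simp; ring
      rw [this, sub_self, zero_add]
    have htr := hW.trace_zero h2 hsq (by
      intro c hc
      apply hs (c + m * 2⁻¹)
      rw [add_smul, ← hc]; abel)
    rw [Matrix.trace_sub, trace_smul_one, sub_eq_zero] at htr
    rw [htr]; field_simp; ring

/-- The trace of an element of order three. -/
theorem trace_three (h2 : (2 : F) ≠ 0) (h3 : (3 : F) ≠ 0) {x : G4 F} (hm : x ∈ spGL 2 F)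
    (hx : x ^ 3 = 1) (hx1 : x ≠ 1) (hS : S3 x ≠ 0) : (S3 x).trace = 6 := by
  have hsc : ∀ c : F, S3 x ≠ c • (1 : M4 F) := by
    intro c hc
    have hc0 : c ≠ 0 := by rintro rfl; rw [zero_smul] at hc; exact hS hc
    have h1 := mul_S3 hx
    rw [hc, Matrix.mul_smul, mul_one] at h1
    apply hx1
    apply Units.ext
    have := congrArg (fun M : M4 F => c⁻¹ • M) h1
    simpa [smul_smul, inv_mul_cancel₀ hc0] using this
  have hW : SA (S3 x - (3 * 2⁻¹ : F) • (1 : M4 F)) := (S3_SA hm).sub (SA.one.smul _)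
  have hsq : (S3 x - (3 * 2⁻¹ : F) • (1 : M4 F)) * (S3 x - (3 * 2⁻¹ : F) • (1 : M4 F)) =
      ((3 * 2⁻¹ : F) * (3 * 2⁻¹)) • (1 : M4 F) := by
    have e : (S3 x - (3 * 2⁻¹ : F) • (1 : M4 F)) * (S3 x - (3 * 2⁻¹ : F) • (1 : M4 F)) =
        S3 x * S3 x - (3 * 2⁻¹ + 3 * 2⁻¹ : F) • S3 x +
          ((3 * 2⁻¹ : F) * (3 * 2⁻¹)) • (1 : M4 F) := by
      rw [sub_mul, mul_sub, mul_sub, Matrix.mul_smul, mul_one, Matrix.smul_mul, one_mul,
        smul_mul_smul_comm, mul_one, add_smul]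
      abel
    rw [e, S3_mul_S3 hx]
    have : (3 * 2⁻¹ + 3 * 2⁻¹ : F) = 3 := by field_simp; ring
    rw [this, sub_self, zero_add]
  have htr := hW.trace_zero h2 hsq (by
    intro c hc
    apply hsc (c + 3 * 2⁻¹)
    rw [add_smul, ← hc]; abel)
  rw [Matrix.trace_sub, trace_smul_one, sub_eq_zero] at htr
  rw [htr]; field_simp; norm_num

/-- The relation for the four subgroups of an elementary abelian group of order nine. -/
theorem S3_sum {x y : G4 F} (h : x * y = y * x) (hx : x ^ 3 = 1) (hy : y ^ 3 = 1) :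
    S3 x + S3 y + S3 (x * y) + S3 (y * x⁻¹) = (3 : F) • (1 : M4 F) + S3 x * S3 y := by
  have c : Commute x y := h
  have e1 : (x * y)⁻¹ = x⁻¹ * y⁻¹ := by rw [_root_.mul_inv_rev]; exact (c.inv_left.inv_right.eq).symm
  have e2 : (y * x⁻¹)⁻¹ = x * y⁻¹ := by rw [_root_.mul_inv_rev, inv_inv]
  have e3 : y * x⁻¹ = x⁻¹ * y := c.inv_left.eq.symm
  have h3 : (3 : F) • (1 : M4 F) = 1 + 1 + 1 := by
    have : (3 : F) = 1 + 1 + 1 := by norm_num
    rw [this]; simp only [add_smul, one_smul]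
  rw [h3, S3, S3, S3, S3, e1, e2, e3]
  simp only [Units.val_mul, mul_add, add_mul, mul_one, one_mul]
  abel

/-- the product over the two "diagonal" subgroups is the same -/
theorem S3_prod {x y : G4 F} (h : x * y = y * x) (hx : x ^ 3 = 1) (hy : y ^ 3 = 1) :
    S3 (x * y) * S3 (y * x⁻¹) = S3 x * S3 y := by
  have c : Commute x y := h
  have ex : x⁻¹ = x * x := by
    rw [inv_eq_iff_mul_eq_one, ← mul_assoc]; simpa [pow_succ] using hx
  have ey : y⁻¹ = y * y := by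
    rw [inv_eq_iff_mul_eq_one, ← mul_assoc]; simpa [pow_succ] using hy
  have cc : ∀ i j k l : ℕ, x ^ i * y ^ j * (x ^ k * y ^ l) = x ^ (i + k) * y ^ (j + l) := by
    intro i j k l
    have : y ^ j * x ^ k = x ^ k * y ^ j := ((c.pow_pow k j).eq).symm
    calc x ^ i * y ^ j * (x ^ k * y ^ l) = x ^ i * (y ^ j * x ^ k) * y ^ l := by
          simp only [mul_assoc]
      _ = _ := by rw [this, pow_add, pow_add]; simp only [mul_assoc]
  have px : ∀ i, x ^ (i + 3) = x ^ i := fun i => by rw [pow_add, hx, mul_one]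
  have py : ∀ i, y ^ (i + 3) = y ^ i := fun i => by rw [pow_add, hy, mul_one]
  have a0 : x * y = x ^ 1 * y ^ 1 := by rw [pow_one, pow_one]
  have ixy : (x * y)⁻¹ = x ^ 2 * y ^ 2 := by
    rw [_root_.mul_inv_rev, ex, ey, ← pow_two, ← pow_two]; exact ((c.pow_pow 2 2).eq).symm
  have b0 : y * x⁻¹ = x ^ 2 * y ^ 1 := by
    rw [ex, ← pow_two, pow_one]; exact ((c.pow_left 2).eq).symm
  have ib : (y * x⁻¹)⁻¹ = x ^ 1 * y ^ 2 := by
    rw [_root_.mul_inv_rev, inv_inv, ey, pow_one, pow_two]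
  have c1 : x ^ 1 * y ^ 1 * (x ^ 2 * y ^ 1) = y ^ 2 := by
    rw [cc, px 0, pow_zero, one_mul]
  have c2 : x ^ 1 * y ^ 1 * (x ^ 1 * y ^ 2) = x ^ 2 := by
    rw [cc, py 0, pow_zero, mul_one]
  have c3 : x ^ 2 * y ^ 2 * (x ^ 2 * y ^ 1) = x := by
    rw [cc, py 0, px 1, pow_zero, mul_one, pow_one]
  have c4 : x ^ 2 * y ^ 2 * (x ^ 1 * y ^ 2) = y := by
    rw [cc, px 0, py 1, pow_zero, one_mul, pow_one]
  rw [S3, S3, ixy, ib, a0, b0, S3, S3, ex, ey]
  simp only [mul_add, add_mul, mul_one, one_mul, ← Units.val_mul, c1, c2, c3, c4, ← pow_two]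
  have d1 : x ^ 1 * y ^ 1 = x * y := by rw [pow_one, pow_one]
  have d2 : x ^ 1 * y ^ 2 = x * y ^ 2 := by rw [pow_one]
  have d3 : x ^ 2 * y ^ 1 = x ^ 2 * y := by rw [pow_one]
  rw [d1, d2, d3]
  abel

end Cfsg.Agent.H909.ThreeEl
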