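import Mathlib
import Cfsg.Prelude.Def_GeometricClasses
import Cfsg.Agent.H909.ThreeEl
import Cfsg.Agent.H909.AltSeven
import Cfsg.Agent.H906.TraceField
import Cfsg.Agent.H587.Sp.Seven

/-!
# `2.A₇ ≤ Sp₄(F)` forces `|F| = 7` (helper909)
-/

set_option autoImplicit false

namespace Cfsg.Agent.H909.ASeven

open Cfsg Cfsg.Geo Matrix Module
open Cfsg.Agent.ClassicalGeometry.SympBasic
open SpDouble AFive ThreeEl

universe u

variable {F : Type u} [Field F]

local notation "M4" => Matrix (Fin 2 ⊕ Fin 2) (Fin 2 ⊕ Fin 2)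
local notation "G4" => GL (Fin 2 ⊕ Fin 2)
local notation "A7" => alternatingGroup (Fin 7)

section

variable {P : Subgroup (G4 F)} {c : P}

/-- an element whose square is central has trace `4`, `-4` or `0` -/
theorem trace_sq (h2 : (2 : F) ≠ 0) (hc : (c : G4 F) = -1) (hle : P ≤ spGL 2 F) {g : P}
    (hg : g * g = 1 ∨ g * g = c) :
    ((g : G4 F) : M4 F).trace = 4 ∨ ((g : G4 F) : M4 F).trace = -4 ∨
      ((g : G4 F) : M4 F).trace = 0 := by
  have hti := trace_inv (hle g.2)
  rcases hg with h4 | h4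
  · have h5 : (g : G4 F) * (g : G4 F) = 1 := congrArg Subtype.val h4
    by_cases hs : ∃ a : F, ((g : G4 F) : M4 F) = a • (1 : M4 F)
    · obtain ⟨a, ha⟩ := hs
      have h6 : ((g : G4 F) : M4 F) * ((g : G4 F) : M4 F) = 1 := by
        rw [← Units.val_mul, h5, Units.val_one]
      rw [ha, smul_mul_smul_comm, one_mul] at h6
      have h7 : (a * a) • (1 : M4 F) = (1 : F) • 1 := by rw [one_smul]; exact h6
      rcases mul_self_eq_one_iff.1 (smul_one_inj h7) with h8 | h8
      · left; rw [ha, trace_smul_one, h8, mul_one]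
      · right; left; rw [ha, trace_smul_one, h8]; ring
    · right; right
      push Not at hs
      have hSA : SA ((g : G4 F) : M4 F) := SA.of_invol (hle g.2) h5
      apply hSA.trace_zero h2 (c := 1) _ hs
      rw [one_smul, ← Units.val_mul, h5, Units.val_one]
  · right; right
    have h5 : (g : G4 F) * (g : G4 F) = -1 := by rw [← hc]; exact congrArg Subtype.val h4
    have h6 : (g : G4 F)⁻¹ = -(g : G4 F) := by
      rw [inv_eq_iff_mul_eq_one, mul_neg, h5, neg_neg]
    rw [h6, Units.val_neg, Matrix.trace_neg] at hti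
    exact add_self_zero h2 hti.symm

theorem trace_cube (h2 : (2 : F) ≠ 0) (h3 : (3 : F) ≠ 0) (hle : P ≤ spGL 2 F) {z : P}
    (hz : z ^ 3 = 1) : ∃ n : ℤ, ((z : G4 F) : M4 F).trace = n := by
  by_cases hz1 : (z : G4 F) = 1
  · refine ⟨4, ?_⟩
    rw [hz1, Units.val_one, Matrix.trace_one]; simp
  · by_cases hS : S3 (z : G4 F) = 0
    · refine ⟨-2, ?_⟩
      have h1 := S3_trace (hle z.2)
      rw [hS, Matrix.trace_zero] at h1
      have h4 : (2 : F) * (((z : G4 F) : M4 F).trace + 2) = 0 := by linear_combination -h1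
      have := eq_neg_of_add_eq_zero_left ((mul_eq_zero.1 h4).resolve_left h2)
      rw [this]; norm_num
    · refine ⟨1, ?_⟩
      have hz' : (z : G4 F) ^ 3 = 1 := congrArg Subtype.val hz
      have h1 := trace_three h2 h3 (hle z.2) hz' hz1 hS
      rw [S3_trace (hle z.2)] at h1
      have h4 : (2 : F) * (((z : G4 F) : M4 F).trace - 1) = 0 := by linear_combination h1
      have := sub_eq_zero.1 ((mul_eq_zero.1 h4).resolve_left h2)
      rw [this]; norm_num

/-- lifts of the involutions of `A₇` square to the central involution -/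
theorem sq_of_NL {φ : P →* A7} (cov : TwoCov φ c) {i : P}
    (h : AltSeven.NL (φ i : Equiv.Perm (Fin 7))) : i * i = c := by
  obtain ⟨h2, h1, b, d, e, sb, sd, se, hb, hσb, hd, he⟩ := h
  obtain ⟨b₁, hb₁⟩ : ∃ b₁ : A7, (b₁ : Equiv.Perm (Fin 7)) = b := ⟨⟨b, sb⟩, rfl⟩
  obtain ⟨d₁, hd₁⟩ : ∃ d₁ : A7, (d₁ : Equiv.Perm (Fin 7)) = d := ⟨⟨d, sd⟩, rfl⟩
  obtain ⟨e₁, he₁⟩ : ∃ e₁ : A7, (e₁ : Equiv.Perm (Fin 7)) = e := ⟨⟨e, se⟩, rfl⟩
  have hnl : ¬ TwoCov.LI φ (φ i) := by
    apply cov.not_li_of_klein (b := b₁)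
    · intro h5; apply h1; rw [h5]; rfl
    · intro h5; apply hb; rw [← hb₁, h5]; rfl
    · intro h5; apply hσb; rw [h5, hb₁]
    · refine isConj_iff.2 ⟨d₁, Subtype.ext ?_⟩
      rw [Subgroup.coe_mul, Subgroup.coe_mul, Subgroup.coe_inv, hd₁, hb₁, hd]
    · refine isConj_iff.2 ⟨e₁, Subtype.ext ?_⟩
      rw [Subgroup.coe_mul, Subgroup.coe_mul, Subgroup.coe_inv, Subgroup.coe_mul, he₁, hb₁, he]
  apply cov.sq_lift_of_not _ hnl
  apply Subtype.ext
  rw [Subgroup.coe_mul]
  exact h2

/-- elements of order six have trace zero -/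
theorem trace_six {φ : P →* A7} (cov : TwoCov φ c) (h2 : (2 : F) ≠ 0) (hc : (c : G4 F) = -1)
    {g : P} (hg : (φ g : Equiv.Perm (Fin 7)).cycleType = {2, 2, 3}) :
    ((g : G4 F) : M4 F).trace = 0 := by
  obtain ⟨k, hk⟩ := AltSeven.type_six hg
  obtain ⟨j, sj, hj, n1, n2, n3⟩ := AltSeven.six_data
  have sJ : Equiv.Perm.sign (k * j * k⁻¹) = 1 := by
    rw [Equiv.Perm.sign_mul, Equiv.Perm.sign_mul, Equiv.Perm.sign_inv, sj, mul_one]
    simp
  obtain ⟨J, hJ⟩ := cov.surj ⟨k * j * k⁻¹, sJ⟩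
  have hJv : (φ J : Equiv.Perm (Fin 7)) = k * j * k⁻¹ := by rw [hJ]
  have e1 : φ (J * g * J⁻¹) = φ g := by
    apply Subtype.ext
    rw [map_mul, map_mul, map_inv, Subgroup.coe_mul, Subgroup.coe_mul, Subgroup.coe_inv, hJv, ← hk]
    calc k * j * k⁻¹ * (k * AltSeven.f₆ * k⁻¹) * (k * j * k⁻¹)⁻¹ =
        k * (j * AltSeven.f₆ * j⁻¹) * k⁻¹ := by group
      _ = _ := by rw [hj]
  have hg3 : (φ (g ^ 3) : Equiv.Perm (Fin 7)) = k * AltSeven.f₆ ^ 3 * k⁻¹ := by
    rw [map_pow, Subgroup.coe_pow, ← hk, conj_pow]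
  have a1 : g ^ 3 * g ^ 3 = c := sq_of_NL cov (by rw [hg3]; exact n1.conj k)
  have a2 : J * J = c := sq_of_NL cov (by rw [hJv]; exact n2.conj k)
  have a3 : g ^ 3 * J * (g ^ 3 * J) = c := by
    apply sq_of_NL cov
    have : (φ (g ^ 3 * J) : Equiv.Perm (Fin 7)) = k * (AltSeven.f₆ ^ 3 * j) * k⁻¹ := by
      rw [map_mul, Subgroup.coe_mul, hg3, hJv]; group
    rw [this]; exact n3.conj k
  have hanti := cov.anti a1 a2 a3
  rcases cov.eq_or e1 with h3 | h3
  · exfalso
    have hcomm : J * g ^ 3 = g ^ 3 * J := by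
      have h4 : J * g ^ 3 * J⁻¹ = g ^ 3 := by rw [← conj_pow, h3]
      rw [mul_inv_eq_iff_eq_mul] at h4
      exact h4
    rw [hcomm] at hanti
    apply cov.ne
    have h5 : 1 * (g ^ 3 * J) = c * (g ^ 3 * J) := by rw [one_mul]; exact hanti
    exact (mul_right_cancel h5).symm
  · have h4 : (J : G4 F) * (g : G4 F) * (J : G4 F)⁻¹ = -(g : G4 F) := by
      have h5 : (J : G4 F) * (g : G4 F) * (J : G4 F)⁻¹ = (c : G4 F) * (g : G4 F) :=
        congrArg Subtype.val h3
      rw [h5, hc, neg_one_mul]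
    have h5 : ((g : G4 F) : M4 F).trace = -((g : G4 F) : M4 F).trace := by
      rw [← Matrix.trace_neg, ← Units.val_neg, ← h4, ← cj_coe, cj_trace]
    exact add_self_zero h2 h5

end

/-- The `A₇` case. -/
theorem seven_case [Fintype F] {P H : Subgroup (G4 F)} (ctx : Ctx P)
    (core : IsResidualCore H P) (e : (P ⧸ Zs P) ≃* A7) : Fintype.card F = 7 := by
  classical
  have cov := ctx.twoCov.comp e
  set φ : P →* A7 := e.toMonoidHom.comp (QuotientGroup.mk' (Zs P)) with hφ
  set c : P := Ctx.neg ctx.neg_one_mem with hc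
  have hcv : (c : G4 F) = -1 := rfl
  -- characteristic 7
  have h7 : (7 : F) = 0 := by
    by_contra h7
    obtain ⟨z, hz, hz7⟩ := cov.lift_odd (x := (⟨AltSeven.f₇, AltSeven.f₇_pow.2.2⟩ : A7)) (n := 7)
      (by decide) (Subtype.ext AltSeven.f₇_pow.1)
    have hzv : (φ z : Equiv.Perm (Fin 7)) = AltSeven.f₇ := by rw [hz]
    obtain ⟨m, sm, hm⟩ := AltSeven.seven_sq
    obtain ⟨m', hm'⟩ := cov.surj ⟨m, sm⟩
    have hmv : (φ m' : Equiv.Perm (Fin 7)) = m := by rw [hm']
    have h1 : m' * z * m'⁻¹ = z ^ 2 := by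
      apply cov.lift_unique (n := 7) (by decide) _
        (by rw [conj_pow, hz7, mul_one, mul_inv_cancel])
        (by rw [← pow_mul, mul_comm, pow_mul, hz7, one_pow])
      apply Subtype.ext
      rw [map_mul, map_mul, map_inv, map_pow, Subgroup.coe_mul, Subgroup.coe_mul, Subgroup.coe_inv,
        Subgroup.coe_pow]
      change (φ m' : Equiv.Perm (Fin 7)) * (φ z : Equiv.Perm (Fin 7)) *
        (φ m' : Equiv.Perm (Fin 7))⁻¹ = (φ z : Equiv.Perm (Fin 7)) ^ 2
      rw [hmv, hzv, hm]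
    refine Cfsg.Agent.H587.Sp.no_seven (ctx.le z.2) h7 (congrArg Subtype.val hz7) ?_
      (g := (m' : G4 F)) (congrArg Subtype.val h1)
    intro hz1
    have h3 : z = 1 := Subtype.ext hz1
    rw [h3, map_one, Subgroup.coe_one] at hzv
    exact AltSeven.f₇_pow.2.1 hzv.symm
  obtain ⟨p, hp⟩ := CharP.exists F
  have hpp : p.Prime := CharP.char_is_prime F p
  have hp7 : p = 7 := by
    have h1 : ((7 : ℕ) : F) = 0 := by exact_mod_cast h7
    exact (Nat.prime_dvd_prime_iff_eq hpp (by norm_num)).1 ((CharP.cast_eq_zero_iff F p 7).1 h1)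
  subst hp7
  haveI : Fact (Nat.Prime 7) := ⟨by norm_num⟩
  have h3 : (3 : F) ≠ 0 := by
    intro h
    have h1 : ((3 : ℕ) : F) = 0 := by exact_mod_cast h
    have := Nat.le_of_dvd (by norm_num) ((CharP.cast_eq_zero_iff F 7 3).1 h1)
    omega
  have hint : ∀ n : ℤ, ((n : F)) ^ 7 = n := by
    intro n
    have := frobenius_def (R := F) 7 (n : F)
    rw [map_intCast] at this
    exact this.symm
  have hneg : ∀ z : P, ((((c * z : P) : G4 F)) : M4 F).trace = -((z : G4 F) : M4 F).trace := by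
    intro z
    rw [Subgroup.coe_mul, hcv, neg_one_mul, Units.val_neg, Matrix.trace_neg]
  have hodd : ∀ (g : P) (n : ℕ), Odd n → (φ g) ^ n = 1 → g ^ n = 1 ∨ (c * g) ^ n = 1 := by
    intro g n hn hg
    rw [← map_pow] at hg
    rcases (cov.ker _).1 hg with h1 | h1
    · exact Or.inl h1
    · right; rw [cov.c_mul_pow hn, h1, cov.sq]
  have htp : ∀ z : G4 F, ((z : M4 F).trace) ^ 7 = ((z ^ 7 : G4 F) : M4 F).trace := by
    intro z
    rw [Units.val_pow_eq_pow_val, Cfsg.Agent.H906.trace_pow_char 7]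
  -- reduce to elements of the right odd order
  have hred : ∀ (g : P) (n : ℕ), Odd n → (φ g) ^ n = 1 →
      (∀ z : P, z ^ n = 1 → (φ z = φ g) → (((z : G4 F) : M4 F).trace) ^ 7 = ((z : G4 F) : M4 F).trace) →
      (((g : G4 F) : M4 F).trace) ^ 7 = ((g : G4 F) : M4 F).trace := by
    intro g n hn hg hall
    rcases hodd g n hn hg with h1 | h1
    · exact hall g h1 rfl
    · have h4 := hall _ h1 (by rw [map_mul, cov.map_c, one_mul])
      rw [hneg, Odd.neg_pow (by decide), neg_inj] at h4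
      exact h4
  have key : ∀ g : P, (((g : G4 F) : M4 F).trace) ^ 7 = ((g : G4 F) : M4 F).trace := by
    intro g
    have hpow : ∀ {s : Multiset ℕ} {n : ℕ}, (φ g : Equiv.Perm (Fin 7)).cycleType = s → s.lcm = n →
        (φ g) ^ n = 1 := fun h1 h2 => Subtype.ext (AltSeven.pow_of_lcm h1 h2)
    rcases AltSeven.cycleType_cases (φ g).2 with h | h | h | h | h | h | h | h
    · -- identity
      have h1 : (φ g) = 1 := by
        have := hpow h (n := 1) (by decide)
        rwa [pow_one] at this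
      have h4 : g * g = 1 := by
        rcases (cov.ker _).1 h1 with h5 | h5
        · rw [h5, one_mul]
        · rw [h5, cov.sq]
      rcases trace_sq ctx.two hcv ctx.le (Or.inl h4) with h5 | h5 | h5 <;> rw [h5]
      · exact_mod_cast hint 4
      · exact_mod_cast hint (-4)
      · norm_num
    · refine hred g 3 (by decide) (hpow h (by decide)) fun z hz _ => ?_
      obtain ⟨n, hn⟩ := trace_cube ctx.two h3 ctx.le hz
      rw [hn]; exact hint n
    · -- order five
      refine hred g 5 (by decide) (hpow h (by decide)) fun z hz hzg => ?_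
      obtain ⟨k, hk⟩ := AltSeven.type_five h
      obtain ⟨m, sm, hm⟩ := AltSeven.five_sq
      have sJ : Equiv.Perm.sign (k * m * k⁻¹) = 1 := by
        rw [Equiv.Perm.sign_mul, Equiv.Perm.sign_mul, Equiv.Perm.sign_inv, sm, mul_one]
        simp
      obtain ⟨J, hJ⟩ := cov.surj ⟨k * m * k⁻¹, sJ⟩
      have hJv : (φ J : Equiv.Perm (Fin 7)) = k * m * k⁻¹ := by rw [hJ]
      have h4 : J * z * J⁻¹ = z ^ 2 := by
        apply cov.lift_unique (n := 5) (by decide) _
          (by rw [conj_pow, hz, mul_one, mul_inv_cancel])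
          (by rw [← pow_mul, mul_comm, pow_mul, hz, one_pow])
        apply Subtype.ext
        rw [map_mul, map_mul, map_inv, map_pow, Subgroup.coe_mul, Subgroup.coe_mul,
          Subgroup.coe_inv, Subgroup.coe_pow]
        change (φ J : Equiv.Perm (Fin 7)) * (φ z : Equiv.Perm (Fin 7)) *
          (φ J : Equiv.Perm (Fin 7))⁻¹ = (φ z : Equiv.Perm (Fin 7)) ^ 2
        rw [hJv, hzg, ← hk]
        calc k * m * k⁻¹ * (k * AltSeven.f₅ * k⁻¹) * (k * m * k⁻¹)⁻¹ =
            k * (m * AltSeven.f₅ * m⁻¹) * k⁻¹ := by group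
          _ = k * AltSeven.f₅ ^ 2 * k⁻¹ := by rw [hm]
          _ = _ := by rw [conj_pow]
      have h5 : (z : G4 F) ^ 7 = (J : G4 F) * (z : G4 F) * (J : G4 F)⁻¹ := by
        have h6 : z ^ 7 = J * z * J⁻¹ := by
          rw [h4, show 7 = 5 + 2 by norm_num, pow_add, hz, one_mul]
        exact congrArg Subtype.val h6
      rw [htp, h5, ← cj_coe, cj_trace]
    · -- order seven
      refine hred g 7 (by decide) (hpow h (by decide)) fun z hz _ => ?_
      have h4 : (((z : G4 F) : M4 F).trace) ^ 7 = 4 := by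
        have h5 : (z : G4 F) ^ 7 = 1 := congrArg Subtype.val hz
        rw [htp, h5, Units.val_one, Matrix.trace_one]; simp
      have h6 : (((z : G4 F) : M4 F).trace) ^ 7 = (4 : F) ^ 7 := by
        rw [h4]; exact_mod_cast (hint 4).symm
      have h8 : frobenius F 7 (((z : G4 F) : M4 F).trace) = frobenius F 7 4 := by
        rw [frobenius_def, frobenius_def]; exact h6
      have h9 := (frobenius F 7).injective h8
      rw [h9]; exact_mod_cast hint 4
    · -- involution
      have h1 := hpow h (n := 2) (by decide)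
      rw [pow_two] at h1
      rcases trace_sq ctx.two hcv ctx.le (cov.sq_lift h1) with h5 | h5 | h5 <;> rw [h5]
      · exact_mod_cast hint 4
      · exact_mod_cast hint (-4)
      · norm_num
    · -- order four
      have h1 := hpow h (n := 4) (by decide)
      have h4 : g ^ 8 = 1 := by
        rw [← map_pow] at h1
        rcases (cov.ker _).1 h1 with h5 | h5
        · rw [show 8 = 4 * 2 by norm_num, pow_mul, h5, one_pow]
        · rw [show 8 = 4 * 2 by norm_num, pow_mul, h5, pow_two, cov.sq]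
      have h5 : (g : G4 F) ^ 7 = (g : G4 F)⁻¹ := by
        have h6 : g ^ 7 = g⁻¹ := by
          rw [eq_inv_iff_mul_eq_one, ← pow_succ]; exact h4
        exact congrArg Subtype.val h6
      rw [htp, h5, trace_inv (ctx.le g.2)]
    · refine hred g 3 (by decide) (hpow h (by decide)) fun z hz _ => ?_
      obtain ⟨n, hn⟩ := trace_cube ctx.two h3 ctx.le hz
      rw [hn]; exact hint n
    · rw [trace_six cov ctx.two hcv h]; norm_num
  -- the field
  set F₀ : Subfield F := (frobenius F 7).eqLocusField (RingHom.id F) with hF₀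
  have hmem : ∀ x : F, x ∈ F₀ ↔ x ^ 7 = x := fun x => Iff.rfl
  have htop : F₀ = ⊤ := by
    by_contra hne
    exact core.no_subfield F₀ hne (Cfsg.Agent.H906.realisable_of_trace core.absIrred F₀
      fun g hg => (hmem _).2 (key ⟨g, hg⟩))
  have hall : ∀ x : F, x ^ 7 = x := fun x => by
    rw [← hmem, htop]; exact Subfield.mem_top x
  have hle : Fintype.card F ≤ 7 := by
    have h1 : (Polynomial.X ^ 7 - Polynomial.X : Polynomial F) ≠ 0 :=
      FiniteField.X_pow_card_sub_X_ne_zero F (by norm_num)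
    have h2 := Polynomial.card_roots' (Polynomial.X ^ 7 - Polynomial.X : Polynomial F)
    rw [FiniteField.X_pow_card_sub_X_natDegree_eq F (by norm_num : 1 < 7)] at h2
    refine le_trans ?_ h2
    rw [← Finset.card_univ]
    calc (Finset.univ : Finset F).card
        ≤ (Polynomial.X ^ 7 - Polynomial.X : Polynomial F).roots.toFinset.card := by
          apply Finset.card_le_card
          intro x _
          rw [Multiset.mem_toFinset, Polynomial.mem_roots h1]
          simp [hall x]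
      _ ≤ _ := Multiset.toFinset_card_le _
  obtain ⟨n, -, hn⟩ := FiniteField.card F 7
  have hge : 7 ≤ Fintype.card F := by
    rw [hn]
    calc 7 = 7 ^ 1 := by norm_num
      _ ≤ 7 ^ (n : ℕ) := Nat.pow_le_pow_right (by norm_num) n.pos
  omega

end Cfsg.Agent.H909.ASeven
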