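import Mathlib
import Cfsg.Agent.H909.AltFiveGen

/-!
# Combinatorics of `A₆` (helper909)
-/

set_option autoImplicit false

namespace Cfsg.Agent.H909.AltSix

open Equiv

/-- the 3-cycles `(0 1 2)` and `(2 3 4)` -/
def a : Perm (Fin 6) := List.formPerm [0, 1, 2]
/-- `(2 3 4)` -/
def b : Perm (Fin 6) := List.formPerm [2, 3, 4]
/-- a 3-cycle moving the last point -/
def g : Perm (Fin 6) := List.formPerm [2, 3, 5]
/-- an element of order four -/
def τ : Perm (Fin 6) := List.formPerm [0, 1, 2, 3] * List.formPerm [4, 5]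
/-- `(0 2 4)` -/
def x₁ : Perm (Fin 6) := List.formPerm [0, 2, 4]
/-- `(1 3 5)` -/
def x₂ : Perm (Fin 6) := List.formPerm [1, 3, 5]

theorem sign_a : Perm.sign a = 1 := by decide +kernel
theorem sign_b : Perm.sign b = 1 := by decide +kernel
theorem sign_g : Perm.sign g = 1 := by decide +kernel
theorem sign_τ : Perm.sign τ = 1 := by decide +kernel
theorem sign_x₁ : Perm.sign x₁ = 1 := by decide +kernel
theorem sign_x₂ : Perm.sign x₂ = 1 := by decide +kernel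
theorem a_pow : a ^ 3 = 1 ∧ a ≠ 1 := by decide +kernel
theorem b_pow : b ^ 3 = 1 ∧ b ≠ 1 := by decide +kernel
theorem x₁_pow : x₁ ^ 3 = 1 ∧ x₁ ≠ 1 := by decide +kernel
theorem x₂_pow : x₂ ^ 3 = 1 ∧ x₂ ≠ 1 := by decide +kernel
theorem x_comm : x₁ * x₂ = x₂ * x₁ := by decide +kernel
theorem x₃_pow : (x₁ * x₂) ^ 3 = 1 ∧ x₁ * x₂ ≠ 1 := by decide +kernel
theorem x₄_pow : (x₂ * x₁⁻¹) ^ 3 = 1 ∧ x₂ * x₁⁻¹ ≠ 1 := by decide +kernel
theorem ab_pow : (a * b) ^ 5 = 1 ∧ a * b ≠ 1 := by decide +kernel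
theorem τ_x₁ : τ * x₁ * τ⁻¹ = x₂ := by decide +kernel
theorem τ_x₃ : τ * (x₁ * x₂) * τ⁻¹ = x₂ * x₁⁻¹ := by decide +kernel
theorem three_x₁ : x₁.support.card = 3 := by decide +kernel
theorem three_a : a.support.card = 3 := by decide +kernel
theorem three_b : b.support.card = 3 := by decide +kernel

/-- an involution -/
def ω : Perm (Fin 6) := a * b * a * b ^ 2

theorem ω_klein : ω * ω = 1 ∧ ω ≠ 1 ∧ Perm.sign ω = 1 := by decide +kernel

/-- conjugating elements showing that `ω` lies in a Klein four-group with conjugate involutions -/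
theorem ω_conj : ∃ c d e : Perm (Fin 6), c ≠ 1 ∧ ω ≠ c ∧ Perm.sign c = 1 ∧ Perm.sign d = 1 ∧
    Perm.sign e = 1 ∧ d * ω * d⁻¹ = c ∧ e * ω * e⁻¹ = ω * c := by
  refine ⟨List.formPerm [0, 1] * List.formPerm [2, 3], List.formPerm [0, 1, 2],
    List.formPerm [0, 2, 1], ?_⟩
  decide +kernel

set_option maxRecDepth 100000 in
theorem words : ∀ k l : Fin 6, k ≠ l → ∃ (i : Fin 5) (j : Fin 3) (m : Fin 5) (n : Fin 3),
    ((g * (a * b) * g⁻¹) ^ (i : ℕ) * a ^ (j : ℕ) * (g * (a * b) * g⁻¹) ^ (m : ℕ) * a ^ (n : ℕ)) 0 = k ∧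
    ((g * (a * b) * g⁻¹) ^ (i : ℕ) * a ^ (j : ℕ) * (g * (a * b) * g⁻¹) ^ (m : ℕ) * a ^ (n : ℕ)) 1 = l := by
  decide +kernel

set_option maxRecDepth 100000 in
/-- elements of order dividing five fix a point -/
theorem five_fix : ∀ σ : Perm (Fin 6), σ ^ 5 = 1 → ∃ i, σ i = i := by decide +kernel

set_option maxRecDepth 100000 in
/-- the elements of `A₆` -/
theorem elements : ∀ σ : Perm (Fin 6), Perm.sign σ = 1 →
    σ * σ = 1 ∨ σ ^ 3 = 1 ∨ σ ^ 5 = 1 ∨ (σ ^ 4 = 1 ∧ σ * σ ≠ 1) := by decide +kernel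

set_option maxRecDepth 100000 in
theorem three_of_fix : ∀ σ : Perm (Fin 6), σ ^ 3 = 1 → σ ≠ 1 → (∃ i, σ i = i) →
    σ.support.card = 3 := by decide +kernel

end Cfsg.Agent.H909.AltSix
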