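import Mathlib
import Cfsg.Agent.H909.AltSix
import Cfsg.Agent.H909.TwoLift

/-!
# `A₆`: conjugacy of elements of order four, the point stabiliser, the outer automorphism (helper909)
-/

set_option autoImplicit false

namespace Cfsg.Agent.H909.AltSix

open Equiv

set_option maxRecDepth 100000 in
theorem four_pts : ∀ σ : Perm (Fin 6), Perm.sign σ = 1 → σ ^ 4 = 1 → σ * σ ≠ 1 →
    ∃ p q : Fin 6, Function.Injective ![p, σ p, σ (σ p), σ (σ (σ p)), q, σ q] ∧
      ∀ i, σ (![p, σ p, σ (σ p), σ (σ (σ p)), q, σ q] i) =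
        ![p, σ p, σ (σ p), σ (σ (σ p)), q, σ q] (τ i) := by
  decide +kernel

/-- Elements of order four are conjugate in `A₆`. -/
theorem four_conj {σ : Perm (Fin 6)} (hs : Perm.sign σ = 1) (h4 : σ ^ 4 = 1) (h2 : σ * σ ≠ 1) :
    ∃ h : Perm (Fin 6), Perm.sign h = 1 ∧ h * τ * h⁻¹ = σ := by
  obtain ⟨p, q, hinj, hr⟩ := four_pts σ hs h4 h2
  set f := ![p, σ p, σ (σ p), σ (σ (σ p)), q, σ q] with hf
  let h : Perm (Fin 6) := Equiv.ofBijective f (Finite.injective_iff_bijective.1 hinj)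
  have hh : h * τ * h⁻¹ = σ := by
    rw [mul_inv_eq_iff_eq_mul]
    ext i
    exact congrArg Fin.val (hr i).symm
  rcases Int.units_eq_one_or (Perm.sign h) with h1 | h1
  · exact ⟨h, h1, hh⟩
  · have hc : swap (4 : Fin 6) 5 * τ * (swap (4 : Fin 6) 5)⁻¹ = τ := by decide +kernel
    refine ⟨h * swap 4 5, ?_, ?_⟩
    · rw [Perm.sign_mul, h1, Perm.sign_swap (by decide)]; rfl
    · calc h * swap 4 5 * τ * (h * swap 4 5)⁻¹
          = h * (swap 4 5 * τ * (swap 4 5)⁻¹) * h⁻¹ := by group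
        _ = σ := by rw [hc, hh]

/-- generation by a 3-cycle and a 5-cycle -/
theorem gen_ay : Subgroup.closure ({a, g * (a * b) * g⁻¹} : Set (Perm (Fin 6))) =
    alternatingGroup (Fin 6) := by
  have m0 : a ∈ Subgroup.closure ({a, g * (a * b) * g⁻¹} : Set (Perm (Fin 6))) :=
    Subgroup.subset_closure (by simp)
  have m1 : g * (a * b) * g⁻¹ ∈ Subgroup.closure ({a, g * (a * b) * g⁻¹} : Set (Perm (Fin 6))) :=
    Subgroup.subset_closure (by simp)
  refine AltGen.gen (i₀ := 0) (j₀ := 1) (c := a) _ ?_ (by decide) ?_ m0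
    (AltFive.isThreeCycle_of three_a)
  · rintro s (rfl | rfl)
    · exact sign_a
    · rw [Perm.sign_mul, Perm.sign_mul, Perm.sign_mul, Perm.sign_inv, sign_a, sign_b, sign_g]; rfl
  · intro k l hkl
    obtain ⟨i, j, m, n, h1, h2⟩ := words k l hkl
    exact ⟨_, mul_mem (mul_mem (mul_mem (pow_mem m1 _) (pow_mem m0 _)) (pow_mem m1 _))
      (pow_mem m0 _), h1, h2⟩

/-- the inclusion of the point stabiliser -/
def ι : Perm (Fin 5) →* Perm (Fin 6) :=
  (Perm.ofSubtype : Perm {x : Fin 6 // x ≠ 5} →* Perm (Fin 6)).comp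
    ((finSuccAboveEquiv (5 : Fin 6)).permCongrHom.toMonoidHom)

theorem sign_ι (σ : Perm (Fin 5)) : Perm.sign (ι σ) = Perm.sign σ := by
  change Perm.sign (Perm.ofSubtype ((finSuccAboveEquiv (5 : Fin 6)).permCongr σ)) = _
  rw [Perm.sign_ofSubtype, Perm.sign_permCongr]

theorem exists_ι {σ : Perm (Fin 6)} (h : σ 5 = 5) : ∃ τ : Perm (Fin 5), ι τ = σ := by
  have h1 : ∀ x : Fin 6, σ x ≠ 5 ↔ x ≠ 5 := fun x => by
    constructor
    · rintro hx rfl; exact hx h
    · intro hx hc; exact hx (σ.injective (hc.trans h.symm))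
  refine ⟨(finSuccAboveEquiv (5 : Fin 6)).permCongr.symm (σ.subtypePerm h1), ?_⟩
  change Perm.ofSubtype ((finSuccAboveEquiv (5 : Fin 6)).permCongr
    ((finSuccAboveEquiv (5 : Fin 6)).permCongr.symm (σ.subtypePerm h1))) = σ
  rw [Equiv.apply_symm_apply]
  apply Perm.ofSubtype_subtypePerm
  intro x hx hc
  rw [hc] at hx
  exact hx h

theorem ι_apply (σ : Perm (Fin 5)) : ι σ 5 = 5 := by
  change Perm.ofSubtype _ (5 : Fin 6) = 5
  apply Perm.ofSubtype_apply_of_not_mem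
  simp

theorem ι_x0 : ι (AltFive.x 0) = a := by decide +kernel
theorem ι_x1 : ι (AltFive.x 1) = b := by decide +kernel
theorem ι_y0 : ι (AltFive.y 0) = a * b := by decide +kernel

theorem ι_inj : Function.Injective ι := by
  apply (Perm.ofSubtype_injective (p := fun x : Fin 6 => x ≠ 5)).comp
  exact (finSuccAboveEquiv (5 : Fin 6)).permCongr.injective

/-- The point stabiliser is generated by two 3-cycles. -/
theorem stab_closure {σ : Perm (Fin 6)} (hs : Perm.sign σ = 1) (h : σ 5 = 5) :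
    σ ∈ Subgroup.closure ({a, b} : Set (Perm (Fin 6))) := by
  obtain ⟨τ, rfl⟩ := exists_ι h
  rw [sign_ι] at hs
  have h1 : τ ∈ Subgroup.closure ({AltFive.x 0, AltFive.x 1} : Set (Perm (Fin 5))) := by
    rw [AltFive.gen_x]; exact hs
  have h2 : ι τ ∈ (Subgroup.closure ({AltFive.x 0, AltFive.x 1} : Set (Perm (Fin 5)))).map ι :=
    ⟨τ, h1, rfl⟩
  rw [MonoidHom.map_closure, Set.image_pair, ι_x0, ι_x1] at h2
  exact h2

/-- Sylow's theorem in the point stabiliser -/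
theorem sylow_stab {σ : Perm (Fin 6)} (hs : Perm.sign σ = 1) (h : σ 5 = 5) (h5 : σ ^ 5 = 1)
    (h1 : σ ≠ 1) : ∃ (s : Perm (Fin 6)) (m : ℕ), Perm.sign s = 1 ∧ s 5 = 5 ∧
      s * (a * b) * s⁻¹ = σ ^ m := by
  obtain ⟨τ, rfl⟩ := exists_ι h
  rw [sign_ι] at hs
  have h5' : τ ^ 5 = 1 := ι_inj (by rw [map_pow, h5, map_one])
  have h1' : τ ≠ 1 := by rintro rfl; exact h1 (map_one _)
  have hcard : Nat.card (alternatingGroup (Fin 5)) = 5 * 12 := by
    rw [nat_card_alternatingGroup]; simp [Nat.factorial]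
  set Y0 : alternatingGroup (Fin 5) := ⟨AltFive.y 0, (AltFive.y_pow 0).2.2⟩ with hY0
  set T0 : alternatingGroup (Fin 5) := ⟨τ, hs⟩ with hT0
  have e1 : Y0 ^ 5 = 1 := by
    apply Subtype.ext
    rw [Subgroup.coe_pow, Subgroup.coe_one]
    exact (AltFive.y_pow 0).1
  have e2 : Y0 ≠ 1 := by
    intro hc
    exact (AltFive.y_pow 0).2.1 (congrArg Subtype.val hc)
  have e3 : T0 ^ 5 = 1 := by
    apply Subtype.ext
    rw [Subgroup.coe_pow, Subgroup.coe_one]
    exact h5'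
  have e4 : T0 ≠ 1 := by
    intro hc
    exact h1' (congrArg Subtype.val hc)
  obtain ⟨s, m, hsm⟩ := sylow_conj (by norm_num : Nat.Prime 5) hcard (by norm_num) e1 e2 e3 e4
  refine ⟨ι s, m, by rw [sign_ι]; exact s.2, ι_apply _, ?_⟩
  have h6 : (s : Perm (Fin 5)) * AltFive.y 0 * (s : Perm (Fin 5))⁻¹ = τ ^ m := by
    have := congrArg (fun z : alternatingGroup (Fin 5) => (z : Perm (Fin 5))) hsm
    simpa only [Subgroup.coe_mul, Subgroup.coe_inv, Subgroup.coe_pow] using this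
  rw [← ι_y0, ← map_mul, ← map_inv, ← map_mul, h6, map_pow]

end Cfsg.Agent.H909.AltSix
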