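import Mathlib
import Cfsg.Agent.H909.AltSix

/-!
# An outer automorphism of `A₆` (helper909)
-/

set_option autoImplicit false

namespace Cfsg.Agent.H909.AltSix

open Equiv

/-- a total: five pairwise disjoint synthemes -/
def s : Fin 5 → Perm (Fin 6) :=
  ![List.formPerm [0, 1] * List.formPerm [2, 3] * List.formPerm [4, 5],
    List.formPerm [0, 2] * List.formPerm [1, 4] * List.formPerm [3, 5],
    List.formPerm [0, 3] * List.formPerm [1, 5] * List.formPerm [2, 4],
    List.formPerm [0, 4] * List.formPerm [1, 3] * List.formPerm [2, 5],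
    List.formPerm [0, 5] * List.formPerm [1, 2] * List.formPerm [3, 4]]

/-- normalising the total -/
def NT (g : Perm (Fin 6)) : Prop := ∀ i : Fin 5, ∃ j : Fin 5, g * s i = s j * g

instance decNT (g : Perm (Fin 6)) : Decidable (NT g) := by unfold NT; infer_instance

theorem s_inj : Function.Injective s := by decide +kernel

theorem NT_x₃ : NT (x₁ * x₂) := by decide +kernel

theorem NT.one : NT 1 := fun i => ⟨i, by rw [one_mul, mul_one]⟩

theorem NT.mul {g h : Perm (Fin 6)} (hg : NT g) (hh : NT h) : NT (g * h) := by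
  intro i
  obtain ⟨j, hj⟩ := hh i
  obtain ⟨k, hk⟩ := hg j
  exact ⟨k, by rw [mul_assoc, hj, ← mul_assoc, hk, mul_assoc]⟩

theorem NT.inv {g : Perm (Fin 6)} (hg : NT g) : NT g⁻¹ := by
  choose f hf using hg
  have hinj : Function.Injective f := by
    intro i j hij
    apply s_inj
    have h1 := hf i
    rw [hij, ← hf j] at h1
    exact mul_left_cancel h1
  have hsurj : Function.Surjective f := Finite.surjective_of_injective hinj
  intro i
  obtain ⟨j, hj⟩ := hsurj i
  refine ⟨j, ?_⟩
  have h1 := hf j
  rw [hj] at h1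
  calc g⁻¹ * s i = g⁻¹ * (s i * g) * g⁻¹ := by group
    _ = s j * g⁻¹ := by rw [← h1]; group

/-- the transitive subgroup -/
def K : Subgroup (alternatingGroup (Fin 6)) where
  carrier := {g | NT (g : Perm (Fin 6))}
  one_mem' := NT.one
  mul_mem' ha hb := NT.mul ha hb
  inv_mem' ha := NT.inv ha

set_option maxRecDepth 100000 in
theorem count : (Finset.univ.filter fun g : Perm (Fin 6) => Perm.sign g = 1 ∧ NT g).card = 60 := by
  decide +kernel

theorem card_K : Nat.card K = 60 := by
  classical
  rw [← count]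
  have e : K ≃ {g : Perm (Fin 6) // Perm.sign g = 1 ∧ NT g} :=
    { toFun := fun g => ⟨((g : alternatingGroup (Fin 6)) : Perm (Fin 6)), g.1.2, g.2⟩
      invFun := fun g => ⟨⟨g.1, g.2.1⟩, g.2.2⟩
      left_inv := fun g => rfl
      right_inv := fun g => rfl }
  rw [Nat.card_congr e, Nat.card_eq_fintype_card, Fintype.card_subtype]

theorem card_A6 : Nat.card (alternatingGroup (Fin 6)) = 360 := by
  rw [nat_card_alternatingGroup]
  simp [Nat.factorial]

theorem index_K : Nat.card (alternatingGroup (Fin 6) ⧸ K) = 6 := by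
  have h1 := Subgroup.card_eq_card_quotient_mul_card_subgroup K
  rw [card_A6, card_K] at h1
  omega

/-- the permutation representation on the six cosets -/
theorem exists_outer : ∃ Ψ : alternatingGroup (Fin 6) ≃* alternatingGroup (Fin 6),
    (Ψ ⟨x₁ * x₂, by rw [Perm.mem_alternatingGroup, Perm.sign_mul, sign_x₁, sign_x₂]; rfl⟩ :
      Perm (Fin 6)).support.card = 3 := by
  classical
  have hsim : IsSimpleGroup (alternatingGroup (Fin 6)) := alternatingGroup.isSimpleGroup (by simp)
  haveI : Finite (alternatingGroup (Fin 6) ⧸ K) := Quotient.finite _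
  let e : (alternatingGroup (Fin 6) ⧸ K) ≃ Fin 6 :=
    Finite.equivFinOfCardEq index_K
  let ψ : alternatingGroup (Fin 6) →* Perm (Fin 6) :=
    (e.permCongrHom.toMonoidHom).comp (MulAction.toPermHom (alternatingGroup (Fin 6))
      (alternatingGroup (Fin 6) ⧸ K))
  have hψ : ∀ g (c : alternatingGroup (Fin 6) ⧸ K), ψ g (e c) = e (g • c) := by
    intro g c
    change e.permCongr (MulAction.toPermHom _ _ g) (e c) = _
    rw [Equiv.permCongr_apply, Equiv.symm_apply_apply]
    rfl
  have hKtop : K ≠ ⊤ := by
    intro h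
    have h1 := card_K
    rw [h, Subgroup.card_top, card_A6] at h1
    omega
  have hinj : Function.Injective ψ := by
    rw [← MonoidHom.ker_eq_bot_iff]
    rcases (inferInstance : ψ.ker.Normal).eq_bot_or_eq_top with h | h
    · exact h
    · exfalso
      apply hKtop
      rw [eq_top_iff]
      intro g _
      have h1 : g ∈ ψ.ker := h ▸ Subgroup.mem_top g
      rw [MonoidHom.mem_ker] at h1
      have h2 := hψ g ((1 : alternatingGroup (Fin 6)) : alternatingGroup (Fin 6) ⧸ K)
      rw [h1] at h2
      have h3 := e.injective h2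
      have h4 : (((1 : alternatingGroup (Fin 6)) : alternatingGroup (Fin 6) ⧸ K)) =
          ((g * 1 : alternatingGroup (Fin 6)) : alternatingGroup (Fin 6) ⧸ K) := h3
      rw [mul_one, QuotientGroup.eq, inv_one, one_mul] at h4
      exact h4
  have heven : ∀ g, Perm.sign (ψ g) = 1 := by
    have h1 : (Perm.sign.comp ψ).ker = ⊥ ∨ (Perm.sign.comp ψ).ker = ⊤ :=
      (inferInstance : (Perm.sign.comp ψ).ker.Normal).eq_bot_or_eq_top
    rcases h1 with h1 | h1
    · exfalso
      rw [MonoidHom.ker_eq_bot_iff] at h1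
      have h2 := Nat.card_le_card_of_injective _ h1
      rw [card_A6] at h2
      have h3 : Nat.card ℤˣ = 2 := by simp
      omega
    · intro g
      have : g ∈ (Perm.sign.comp ψ).ker := h1 ▸ Subgroup.mem_top g
      exact this
  let ψ' : alternatingGroup (Fin 6) →* alternatingGroup (Fin 6) :=
    ψ.codRestrict _ heven
  have hinj' : Function.Injective ψ' := fun x y hxy => hinj (congrArg Subtype.val hxy)
  have hbij : Function.Bijective ψ' := Finite.injective_iff_bijective.1 hinj'
  refine ⟨MulEquiv.ofBijective ψ' hbij, ?_⟩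
  set X : alternatingGroup (Fin 6) :=
    ⟨x₁ * x₂, by rw [Perm.mem_alternatingGroup, Perm.sign_mul, sign_x₁, sign_x₂]; rfl⟩ with hX
  have hX3 : X ^ 3 = 1 := by
    apply Subtype.ext
    rw [Subgroup.coe_pow, Subgroup.coe_one]
    exact x₃_pow.1
  have hX1 : X ≠ 1 := fun h => x₃_pow.2 (congrArg Subtype.val h)
  change (ψ X).support.card = 3
  apply three_of_fix
  · rw [← map_pow, hX3, map_one]
  · intro h
    exact hX1 (hinj (h.trans (map_one ψ).symm))
  · refine ⟨e ((1 : alternatingGroup (Fin 6)) : alternatingGroup (Fin 6) ⧸ K), ?_⟩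
    rw [hψ]
    congr 1
    change ((X * 1 : alternatingGroup (Fin 6)) : alternatingGroup (Fin 6) ⧸ K) = _
    rw [mul_one]
    symm
    rw [QuotientGroup.eq, inv_one, one_mul]
    exact NT_x₃

end Cfsg.Agent.H909.AltSix
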