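import Mathlib
import Cfsg.Prelude.Def_GeometricClasses
import Cfsg.Agent.H909.SixMain

/-!
# A `Six` system with `α = 2β` has more symmetries: the `A₇` roots (helper909)
-/

set_option autoImplicit false

namespace Cfsg.Agent.H909

open Cfsg Cfsg.Geo Matrix Module
open Cfsg.Agent.ClassicalGeometry.SympBasic

variable {F : Type*} [Field F]

local notation "M4" => Matrix (Fin 2 ⊕ Fin 2) (Fin 2 ⊕ Fin 2)
local notation "G4" => GL (Fin 2 ⊕ Fin 2)

namespace Six

variable {w : Fin 6 → M4 F} {α β : F}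

/-- the roots -/
def roots (w : Fin 6 → M4 F) : Set (M4 F) :=
  {M | (∃ j, M = w j ∨ M = - w j) ∨ ∃ i j, i ≠ j ∧ M = w i - w j}

theorem roots_finite (w : Fin 6 → M4 F) : (roots w).Finite := by
  have h1 : (Set.range fun p : Fin 6 × Fin 6 => w p.1 - w p.2).Finite := Set.finite_range _
  refine ((finite_set w).union h1).subset ?_
  rintro M (h | ⟨i, j, -, rfl⟩)
  · exact Or.inl h
  · exact Or.inr ⟨(i, j), rfl⟩

theorem roots_neg {M : M4 F} (h : M ∈ roots w) : -M ∈ roots w := by
  rcases h with ⟨j, rfl | rfl⟩ | ⟨i, j, hij, rfl⟩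
  · exact Or.inl ⟨j, Or.inr rfl⟩
  · exact Or.inl ⟨j, Or.inl (neg_neg _)⟩
  · exact Or.inr ⟨j, i, hij.symm, neg_sub _ _⟩

/-- the polar form as a scalar matrix -/
theorem pol' (h : Six w α β) (k i : Fin 6) :
    w k * w i + w i * w k = (2 * (if i = k then α else β)) • (1 : M4 F) := by
  split_ifs with hi
  · rw [hi, h.sq, ← two_smul F (α • (1 : M4 F)), smul_smul]
  · exact h.mul k i (Ne.symm hi)

theorem roots_sq (h : Six w α β) (hab : α = 2 * β) {M : M4 F} (hM : M ∈ roots w) :
    M * M = α • (1 : M4 F) := by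
  rcases hM with ⟨j, rfl | rfl⟩ | ⟨i, j, hij, rfl⟩
  · exact h.sq j
  · rw [neg_mul_neg, h.sq]
  · rw [h.diff_sq hij, gam]; congr 1; rw [hab]; ring

/-- the polar values of the roots with `w k` -/
theorem roots_pol (h : Six w α β) (hab : α = 2 * β) (k : Fin 6) {M : M4 F} (hM : M ∈ roots w) :
    (M = w k) ∨ (M = - w k) ∨
    ((w k * M + M * w k = (2 * β) • (1 : M4 F)) ∧ w k - M ∈ roots w) ∨
    ((w k * M + M * w k = (-(2 * β)) • (1 : M4 F)) ∧ - w k - M ∈ roots w) ∨
    (w k * M + M * w k = 0) := by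
  rcases hM with ⟨j, rfl | rfl⟩ | ⟨i, j, hij, rfl⟩
  · by_cases hj : j = k
    · left; rw [hj]
    · right; right; left
      exact ⟨h.mul k j (Ne.symm hj), Or.inr ⟨k, j, Ne.symm hj, rfl⟩⟩
  · by_cases hj : j = k
    · right; left; rw [hj]
    · right; right; right; left
      refine ⟨?_, Or.inr ⟨j, k, hj, by abel⟩⟩
      rw [mul_neg, neg_mul, ← neg_add, h.mul k j (Ne.symm hj), neg_smul]
  · have e : w k * (w i - w j) + (w i - w j) * w k =
        (w k * w i + w i * w k) - (w k * w j + w j * w k) := by noncomm_ring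
    by_cases hi : i = k
    · right; right; left
      subst hi
      refine ⟨?_, Or.inl ⟨j, Or.inl (by abel)⟩⟩
      rw [e, h.pol', h.pol', if_pos rfl, if_neg (Ne.symm hij), ← sub_smul]
      congr 1; rw [hab]; ring
    · by_cases hj : j = k
      · right; right; right; left
        subst hj
        refine ⟨?_, Or.inl ⟨i, Or.inr (by abel)⟩⟩
        rw [e, h.pol', h.pol', if_pos rfl, if_neg hi, ← sub_smul]
        congr 1; rw [hab]; ring
      · right; right; right; right
        rw [e, h.pol', h.pol', if_neg hi, if_neg hj, sub_self]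

theorem alpha_ne (h : Six w α β) (hab : α = 2 * β) : α ≠ 0 := by
  rw [hab]; exact mul_ne_zero h.two h.beta

/-- the negative of the reflection in `w k` -/
theorem refl_mem (h : Six w α β) (hab : α = 2 * β) (k : Fin 6) {M : M4 F} (hM : M ∈ roots w) :
    α⁻¹ • (w k * M * w k) ∈ roots w := by
  have hα := h.alpha_ne hab
  have e : ∀ b : F, w k * M + M * w k = b • (1 : M4 F) →
      α⁻¹ • (w k * M * w k) = (α⁻¹ * b) • w k - M := by
    intro b hb
    have h1 : w k * M = b • (1 : M4 F) - M * w k := by rw [← hb]; abel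
    rw [h1, sub_mul, mul_assoc, h.sq, Matrix.mul_smul, mul_one, Matrix.smul_mul, one_mul, smul_sub,
      smul_smul, smul_smul, inv_mul_cancel₀ hα, one_smul]
  rcases h.roots_pol hab k hM with h1 | h1 | ⟨h1, h2⟩ | ⟨h1, h2⟩ | h1
  · subst h1
    rw [h.sq, Matrix.smul_mul, one_mul, smul_smul, inv_mul_cancel₀ hα, one_smul]
    exact Or.inl ⟨k, Or.inl rfl⟩
  · subst h1
    rw [mul_neg, neg_mul, h.sq, Matrix.smul_mul, one_mul, smul_neg, smul_smul, inv_mul_cancel₀ hα,
      one_smul]
    exact Or.inl ⟨k, Or.inr rfl⟩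
  · rw [e _ h1, ← hab, inv_mul_cancel₀ hα, one_smul]
    exact h2
  · rw [e _ h1, ← hab, mul_neg, inv_mul_cancel₀ hα, neg_smul, one_smul]
    exact h2
  · rw [e 0 (by rw [h1, zero_smul]), mul_zero, zero_smul, zero_sub]
    exact roots_neg hM

/-- the product of two roots as an element of `Sp₄` -/
noncomputable def el2 (h : Six w α β) (hab : α = 2 * β) : G4 F where
  val := α⁻¹ • (w 0 * w 1)
  inv := α⁻¹ • (w 1 * w 0)
  val_inv := by
    rw [smul_mul_smul_comm]
    have e : w 0 * w 1 * (w 1 * w 0) = w 0 * (w 1 * w 1) * w 0 := by noncomm_ring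
    rw [e, h.sq, Matrix.mul_smul, mul_one, Matrix.smul_mul, h.sq, smul_smul, smul_smul,
      gg_inv (h.alpha_ne hab), one_smul]
  inv_val := by
    rw [smul_mul_smul_comm]
    have e : w 1 * w 0 * (w 0 * w 1) = w 1 * (w 0 * w 0) * w 1 := by noncomm_ring
    rw [e, h.sq, Matrix.mul_smul, mul_one, Matrix.smul_mul, h.sq, smul_smul, smul_smul,
      gg_inv (h.alpha_ne hab), one_smul]

theorem el2_mem (h : Six w α β) (hab : α = 2 * β) : h.el2 hab ∈ spGL 2 F := by
  rw [mem_spGL_iff]
  intro u v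
  change sympForm 2 F ((α⁻¹ • (w 0 * w 1)) *ᵥ u) ((α⁻¹ • (w 0 * w 1)) *ᵥ v) = _
  rw [Matrix.smul_mulVec, Matrix.smul_mulVec, sympForm_smul_left, sympForm_smul_right,
    ← Matrix.mulVec_mulVec, ← Matrix.mulVec_mulVec, h.sa 0, h.sa 1, Matrix.mulVec_mulVec,
    Matrix.mulVec_mulVec, Matrix.mulVec_mulVec]
  have e' : w 1 * w 0 * w 0 * w 1 = w 1 * (w 0 * w 0) * w 1 := by noncomm_ring
  simp only [← mul_assoc]
  rw [e', h.sq, Matrix.mul_smul, mul_one, Matrix.smul_mul, h.sq, smul_smul,
    Matrix.smul_mulVec, Matrix.one_mulVec, sympForm_smul_right]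
  have := h.alpha_ne hab
  field_simp

theorem cj_el2 (h : Six w α β) (hab : α = 2 * β) (M : M4 F) :
    cj (h.el2 hab) M = α⁻¹ • (w 0 * (α⁻¹ • (w 1 * M * w 1)) * w 0) := by
  change (α⁻¹ • (w 0 * w 1)) * M * (α⁻¹ • (w 1 * w 0)) = _
  simp only [Matrix.smul_mul, Matrix.mul_smul, mul_assoc]

/-- there is a transvection not preserving the roots -/
theorem exists_tv' (h : Six w α β) (hab : α = 2 * β) (h3 : (3 : F) ≠ 0) :
    ∃ (v : Fin 2 ⊕ Fin 2 → F) (a : F), cj (tv v a) (w 0) ∉ roots w := by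
  obtain ⟨v, hv⟩ := exists_comm_ne h.nonscalar
  set D := rk v * w 0 - w 0 * rk v with hD
  by_contra hcon
  push Not at hcon
  have hc := fun a => hcon v a
  simp only [cj_tv (h.sa 0) h.two, ← hD] at hc
  have hsq : ∀ a : F, (w 0 + a • D) * (w 0 + a • D) = α • (1 : M4 F) := fun a =>
    h.roots_sq hab (hc a)
  have e : ∀ a : F, (w 0 + a • D) * (w 0 + a • D) =
      w 0 * w 0 + a • (w 0 * D + D * w 0) + (a * a) • (D * D) := by
    intro a
    rw [add_mul, mul_add, mul_add, Matrix.mul_smul, Matrix.smul_mul, smul_mul_smul_comm, smul_add]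
    abel
  have h1 := hsq 1
  have h2 := hsq (-1)
  rw [e, h.sq] at h1 h2
  rw [one_smul, mul_one, one_smul] at h1
  rw [neg_smul, one_smul, neg_mul_neg, mul_one, one_smul] at h2
  have hor : w 0 * D + D * w 0 = 0 := by
    have h3 : (2 : F) • (w 0 * D + D * w 0) = 0 := by
      rw [two_smul]
      have := congrArg₂ (· - ·) h1 h2
      simp only [sub_self] at this
      rw [← this]; abel
    exact (smul_eq_zero.1 h3).resolve_left h.two
  have hval : w 0 * (w 0 + (1 : F) • D) + (w 0 + (1 : F) • D) * w 0 = (2 * α) • (1 : M4 F) := by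
    have : w 0 * (w 0 + (1 : F) • D) + (w 0 + (1 : F) • D) * w 0 =
        w 0 * w 0 + w 0 * w 0 + (1 : F) • (w 0 * D + D * w 0) := by
      rw [mul_add, add_mul, Matrix.mul_smul, Matrix.smul_mul, smul_add]; abel
    rw [this, hor, smul_zero, add_zero, h.sq, ← two_smul F (α • (1 : M4 F)), smul_smul]
  rcases h.roots_pol hab 0 (hc 1) with k | k | ⟨k, -⟩ | ⟨k, -⟩ | k
  · rw [one_smul] at k
    apply hv
    have h5 : w 0 + D = w 0 + 0 := by rw [k, add_zero]
    exact add_left_cancel h5
  · rw [k, mul_neg, neg_mul, h.sq, ← neg_add, ← two_smul F (α • (1 : M4 F)), smul_smul,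
      ← neg_smul] at hval
    have h5 := smul_one_inj hval
    have h6 : (4 : F) * α = 0 := by linear_combination -h5
    exact h.alpha_ne hab ((mul_eq_zero.1 h6).resolve_left (four_ne h.two))
  · rw [k] at hval
    have h5 := smul_one_inj hval
    rw [hab] at h5
    have h6 : (2 : F) * β = 0 := by linear_combination -h5
    exact h.beta ((mul_eq_zero.1 h6).resolve_left h.two)
  · rw [k] at hval
    have h5 := smul_one_inj hval
    rw [hab] at h5
    have h6 : (2 : F) * 3 * β = 0 := by linear_combination -h5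
    exact h.beta ((mul_eq_zero.1 h6).resolve_left (mul_ne_zero h.two h3))
  · rw [k] at hval
    have h5 : (0 : F) • (1 : M4 F) = (2 * α) • 1 := by rw [zero_smul]; exact hval
    have h6 := (smul_one_inj h5).symm
    exact h.alpha_ne hab ((mul_eq_zero.1 h6).resolve_left h.two)

/-- No maximal subgroup preserves the six lines if `α = 2 β`. -/
theorem seven_false (h : Six w α β) (hab : α = 2 * β) (h3 : (3 : F) ≠ 0)
    {H : Subgroup (G4 F)} (hmax : IsMaximalIn (spGL 2 F) H)
    (hpm : ∀ g ∈ H, ∀ i, ∃ j, cj g (w i) = w j ∨ cj g (w i) = - w j) : False := by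
  have hα := h.alpha_ne hab
  obtain ⟨v, a, hva⟩ := h.exists_tv' hab h3
  have hmem : h.el2 hab ∈ H := by
    refine eq_stabS hmax (roots_finite w) (M := w 0) ?_ (Or.inl ⟨0, Or.inl rfl⟩) hva
      (h.el2_mem hab) ?_
    · rintro g hg M (⟨m, rfl | rfl⟩ | ⟨i, j, hij, rfl⟩)
      · exact Or.inl (hpm g hg m)
      · obtain ⟨n, hn⟩ := hpm g hg m
        rw [cj_neg]
        apply roots_neg
        exact Or.inl ⟨n, hn⟩
      · obtain ⟨m, hm⟩ := hpm g hg i
        obtain ⟨n, hn⟩ := hpm g hg j
        -- the square of the image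
        have hsq : cj g (w i - w j) * cj g (w i - w j) = α • (1 : M4 F) := by
          rw [← cj_mul', h.diff_sq hij, cj_scalar, gam]; congr 1; rw [hab]; ring
        have hplus : ∀ m n : Fin 6, (w m + w n) * (w m + w n) ≠ α • (1 : M4 F) := by
          intro m n hmn
          have e : (w m + w n) * (w m + w n) = w m * w m + w n * w n + (w m * w n + w n * w m) := by
            noncomm_ring
          rw [e, h.sq, h.sq, h.pol', ← add_smul, ← add_smul] at hmn
          have h5 := smul_one_inj hmn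
          split_ifs at h5 with hc
          · have h6 : (3 : F) * α = 0 := by linear_combination h5
            exact hα ((mul_eq_zero.1 h6).resolve_left h3)
          · have h6 : (2 : F) * α = 0 := by linear_combination h5 + hab
            exact hα ((mul_eq_zero.1 h6).resolve_left h.two)
        have hne : ∀ m n : Fin 6, (w m - w n) * (w m - w n) = α • (1 : M4 F) → m ≠ n := by
          intro m n hmn he
          rw [he, sub_self, zero_mul] at hmn
          have h5 : (0 : F) • (1 : M4 F) = α • 1 := by rw [zero_smul]; exact hmn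
          exact hα (smul_one_inj h5).symm
        rw [cj_sub] at hsq ⊢
        rcases hm with hm | hm <;> rcases hn with hn | hn <;> rw [hm, hn] at hsq ⊢
        · exact Or.inr ⟨m, n, hne m n hsq, rfl⟩
        · rw [sub_neg_eq_add] at hsq
          exact absurd hsq (hplus m n)
        · have e : -w m - w n = -(w m + w n) := by abel
          rw [e, neg_mul_neg] at hsq
          exact absurd hsq (hplus m n)
        · have e : -w m - -w n = w n - w m := by abel
          rw [e] at hsq ⊢
          exact Or.inr ⟨n, m, hne n m hsq, rfl⟩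
    · intro M hM
      rw [h.cj_el2 hab]
      exact h.refl_mem hab 0 (h.refl_mem hab 1 hM)
  -- but it maps `w 1` to `w 0 - w 1`
  have himg : cj (h.el2 hab) (w 1) = w 0 - w 1 := by
    rw [h.cj_el2 hab, h.sq, Matrix.smul_mul, one_mul, smul_smul, inv_mul_cancel₀ hα, one_smul]
    have h1 : w 0 * w 1 = (2 * β) • (1 : M4 F) - w 1 * w 0 := by
      rw [← h.mul 0 1 (by decide)]; abel
    rw [h1, sub_mul, mul_assoc, h.sq, Matrix.mul_smul, mul_one, Matrix.smul_mul, one_mul, smul_sub,
      smul_smul, smul_smul, ← hab, inv_mul_cancel₀ hα, one_smul, one_smul]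
  obtain ⟨k, hk⟩ := hpm _ hmem 1
  rw [himg] at hk
  -- polar values
  have p0 : w 0 * (w 0 - w 1) + (w 0 - w 1) * w 0 = (2 * β) • (1 : M4 F) := by
    have e : w 0 * (w 0 - w 1) + (w 0 - w 1) * w 0 =
        w 0 * w 0 + w 0 * w 0 - (w 0 * w 1 + w 1 * w 0) := by noncomm_ring
    rw [e, h.sq, h.mul 0 1 (by decide), ← add_smul, ← sub_smul]
    congr 1; rw [hab]; ring
  have p1 : w 1 * (w 0 - w 1) + (w 0 - w 1) * w 1 = (-(2 * β)) • (1 : M4 F) := by
    have e : w 1 * (w 0 - w 1) + (w 0 - w 1) * w 1 =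
        (w 0 * w 1 + w 1 * w 0) - (w 1 * w 1 + w 1 * w 1) := by noncomm_ring
    rw [e, h.sq, h.mul 0 1 (by decide), ← add_smul, ← sub_smul]
    congr 1; rw [hab]; ring
  have h2β : (2 : F) * β ≠ 0 := mul_ne_zero h.two h.beta
  have h6β : (2 : F) * 3 * β ≠ 0 := mul_ne_zero (mul_ne_zero h.two h3) h.beta
  have h4β : (4 : F) * β ≠ 0 := mul_ne_zero (four_ne h.two) h.beta
  rcases hk with hk | hk
  · rw [hk, h.pol'] at p1
    have h5 := smul_one_inj p1
    split_ifs at h5 with hc
    · apply h6β; rw [hab] at h5; linear_combination h5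
    · apply h4β; linear_combination h5
  · rw [hk, mul_neg, neg_mul, ← neg_add, h.pol', ← neg_smul] at p0
    have h5 := smul_one_inj p0
    split_ifs at h5 with hc
    · apply h6β; rw [hab] at h5; linear_combination -h5
    · apply h4β; linear_combination -h5

end Six

end Cfsg.Agent.H909
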