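import Mathlib
import Cfsg.Prelude.Def_GeometricClasses
import Cfsg.Agent.H909.ThreeEl
import Cfsg.Agent.H909.SixSeven
import Cfsg.Agent.H909.AltSixB
import Cfsg.Agent.H909.AltSixOut

/-!
# `2.A₆ ≤ Sp₄(F)`, characteristic at least 5 (helper909)
-/

set_option autoImplicit false

namespace Cfsg.Agent.H909.ASix

open Cfsg Cfsg.Geo Matrix Module
open Cfsg.Agent.ClassicalGeometry.SympBasic
open SpDouble AFive ThreeEl

universe u

variable {F : Type u} [Field F]

local notation "M4" => Matrix (Fin 2 ⊕ Fin 2) (Fin 2 ⊕ Fin 2)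
local notation "G4" => GL (Fin 2 ⊕ Fin 2)
local notation "A6" => alternatingGroup (Fin 6)

/-- the setting: `P` covers `A₆` and the lifts of 3-cycles are quadratic -/
structure Set6 (P : Subgroup (G4 F)) (φ : P →* A6) (c : P) : Prop where
  cov : TwoCov φ c
  val : (c : G4 F) = -1
  quad : ∀ x : P, x ^ 3 = 1 → (φ x : Equiv.Perm (Fin 6)).support.card = 3 → S3 (x : G4 F) = 0

theorem coe_pow_eq {P : Subgroup (G4 F)} {x : P} {n : ℕ} (h : x ^ n = 1) : (x : G4 F) ^ n = 1 :=
  congrArg Subtype.val h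

section

variable {P : Subgroup (G4 F)} {c : P}

/-- lifts of commuting elements of order three commute -/
theorem comm_lift {X : Type*} [Group X] {φ : P →* X} (cov : TwoCov φ c) {x y : P}
    (hx : x ^ 3 = 1) (h : φ x * φ y = φ y * φ x) : x * y = y * x := by
  have h1 : (y * x * y⁻¹) ^ 3 = 1 := by rw [conj_pow, hx, mul_one, mul_inv_cancel]
  have h2 : φ (y * x * y⁻¹) = φ x := by
    rw [map_mul, map_mul, map_inv, ← h, mul_inv_cancel_right]
  have h3 := cov.lift_unique (n := 3) (by decide) h2 h1 hx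
  rw [mul_inv_eq_iff_eq_mul] at h3
  exact h3.symm

/-- One of the two classes of elements of order three is quadratic. -/
theorem dichotomy {φ : P →* A6} (cov : TwoCov φ c) (hle : P ≤ spGL 2 F) (h2 : (2 : F) ≠ 0)
    (h3 : (3 : F) ≠ 0) {x y : P} (hx : x ^ 3 = 1) (hy : y ^ 3 = 1)
    (hφx : (φ x : Equiv.Perm (Fin 6)) = AltSix.x₁) (hφy : (φ y : Equiv.Perm (Fin 6)) = AltSix.x₂) :
    S3 (x : G4 F) = 0 ∨ S3 ((x : G4 F) * (y : G4 F)) = 0 := by
  have hxy : x * y = y * x := comm_lift cov hx (by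
    apply Subtype.ext
    rw [Subgroup.coe_mul, Subgroup.coe_mul, hφx, hφy, AltSix.x_comm])
  obtain ⟨t, ht⟩ := cov.surj ⟨AltSix.τ, AltSix.sign_τ⟩
  have htv : (φ t : Equiv.Perm (Fin 6)) = AltSix.τ := by rw [ht]
  have hx' := coe_pow_eq hx
  have hy' := coe_pow_eq hy
  have hxy' : (x : G4 F) * y = y * x := congrArg Subtype.val hxy
  -- conjugations
  have k1 : t * x * t⁻¹ = y := by
    apply cov.lift_unique (n := 3) (by decide) _ (by rw [conj_pow, hx, mul_one, mul_inv_cancel]) hy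
    apply Subtype.ext
    rw [map_mul, map_mul, map_inv, Subgroup.coe_mul, Subgroup.coe_mul, Subgroup.coe_inv, htv, hφx,
      hφy, AltSix.τ_x₁]
  have hxy3 : (x * y) ^ 3 = 1 := by
    rw [(show Commute x y from hxy).mul_pow, hx, hy, one_mul]
  have hyx3 : (y * x⁻¹) ^ 3 = 1 := by
    rw [((show Commute x y from hxy).inv_left.symm).mul_pow, inv_pow, hx, hy, inv_one, one_mul]
  have k2 : t * (x * y) * t⁻¹ = y * x⁻¹ := by
    apply cov.lift_unique (n := 3) (by decide) _
      (by rw [conj_pow, hxy3, mul_one, mul_inv_cancel]) hyx3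
    apply Subtype.ext
    rw [map_mul, map_mul, map_mul, map_mul, map_inv, map_inv, Subgroup.coe_mul, Subgroup.coe_mul,
      Subgroup.coe_mul, Subgroup.coe_mul, Subgroup.coe_inv, Subgroup.coe_inv, htv, hφx, hφy,
      AltSix.τ_x₃]
  have k1' : S3 (y : G4 F) = cj t (S3 (x : G4 F)) := by
    rw [← S3_conj, ← k1]; rfl
  have k2' : S3 ((y : G4 F) * (x : G4 F)⁻¹) = cj t (S3 ((x : G4 F) * (y : G4 F))) := by
    rw [← S3_conj]
    exact (congrArg (fun z : P => S3 (z : G4 F)) k2).symm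
  by_contra hcon
  push Not at hcon
  obtain ⟨hS1, hS3⟩ := hcon
  have hxne : (x : G4 F) ≠ 1 := by
    intro h
    have : x = 1 := Subtype.ext h
    rw [this, map_one] at hφx
    exact AltSix.x₁_pow.2 hφx.symm
  have hxyne : (x : G4 F) * y ≠ 1 := by
    intro h
    have h4 : x * y = 1 := Subtype.ext h
    have h5 := congrArg (fun z : P => (φ z : Equiv.Perm (Fin 6))) h4
    simp only [map_mul, map_one, Subgroup.coe_mul, Subgroup.coe_one, hφx, hφy] at h5
    exact AltSix.x₃_pow.2 h5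
  have t1 := trace_three h2 h3 (hle x.2) hx' hxne hS1
  have t3 : (S3 ((x : G4 F) * (y : G4 F))).trace = 6 :=
    trace_three h2 h3 (hle (x * y).2) (coe_pow_eq hxy3) hxyne hS3
  have t2 : (S3 (y : G4 F)).trace = 6 := by rw [k1', cj_trace, t1]
  have t4 : (S3 ((y : G4 F) * (x : G4 F)⁻¹)).trace = 6 := by rw [k2', cj_trace]; exact t3
  have hsum := congrArg Matrix.trace (S3_sum hxy' hx' hy')
  rw [Matrix.trace_add, Matrix.trace_add, Matrix.trace_add, Matrix.trace_add, t1, t2, t3, t4,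
    trace_smul_one] at hsum
  have hSA : SA (S3 (x : G4 F) * S3 (y : G4 F)) :=
    (S3_SA (hle x.2)).mul_comm (S3_SA (hle y.2)) (S3_comm hxy')
  have hproj : S3 (x : G4 F) * S3 (y : G4 F) * (S3 (x : G4 F) * S3 (y : G4 F)) =
      (9 : F) • (S3 (x : G4 F) * S3 (y : G4 F)) := by
    calc S3 (x : G4 F) * S3 (y : G4 F) * (S3 (x : G4 F) * S3 (y : G4 F))
        = S3 (x : G4 F) * (S3 (y : G4 F) * S3 (x : G4 F)) * S3 (y : G4 F) := by noncomm_ring
      _ = (S3 (x : G4 F) * S3 (x : G4 F)) * (S3 (y : G4 F) * S3 (y : G4 F)) := by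
          rw [← S3_comm hxy']; noncomm_ring
      _ = _ := by
          rw [S3_mul_S3 hx', S3_mul_S3 hy', smul_mul_smul_comm]; norm_num
  have h12 : (S3 (x : G4 F) * S3 (y : G4 F)).trace = 12 := by linear_combination -hsum
  have h6 : (6 : F) ≠ 0 := by
    have : (6 : F) = 2 * 3 := by norm_num
    rw [this]; exact mul_ne_zero h2 h3
  have h12' : (12 : F) ≠ 0 := by
    have : (12 : F) = 2 * 6 := by norm_num
    rw [this]; exact mul_ne_zero h2 h6
  have h24 : (24 : F) ≠ 0 := by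
    have : (24 : F) = 2 * 12 := by norm_num
    rw [this]; exact mul_ne_zero h2 h12'
  rcases trace_proj h2 hSA hproj with h | h | h
  · rw [h12] at h; exact h12' h
  · rw [h12] at h
    apply h6
    linear_combination -h
  · rw [h12] at h
    apply h24
    linear_combination -h

/-- After composing with an outer automorphism the 3-cycles are quadratic. -/
theorem exists_set6 {φ : P →* A6} (cov : TwoCov φ c) (hc : (c : G4 F) = -1)
    (hle : P ≤ spGL 2 F) (h2 : (2 : F) ≠ 0) (h3 : (3 : F) ≠ 0) : ∃ φ' : P →* A6, Set6 P φ' c := by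
  obtain ⟨x, hx, hx3⟩ := cov.lift_odd (x := (⟨AltSix.x₁, AltSix.sign_x₁⟩ : A6)) (n := 3) (by decide)
    (Subtype.ext AltSix.x₁_pow.1)
  obtain ⟨y, hy, hy3⟩ := cov.lift_odd (x := (⟨AltSix.x₂, AltSix.sign_x₂⟩ : A6)) (n := 3) (by decide)
    (Subtype.ext AltSix.x₂_pow.1)
  have hφx : (φ x : Equiv.Perm (Fin 6)) = AltSix.x₁ := by rw [hx]
  have hφy : (φ y : Equiv.Perm (Fin 6)) = AltSix.x₂ := by rw [hy]
  have hxy : x * y = y * x := comm_lift cov hx3 (by
    apply Subtype.ext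
    rw [Subgroup.coe_mul, Subgroup.coe_mul, hφx, hφy, AltSix.x_comm])
  have hxy3 : (x * y) ^ 3 = 1 := by
    rw [(show Commute x y from hxy).mul_pow, hx3, hy3, one_mul]
  -- all 3-cycles are conjugate
  have key : ∀ (φ' : P →* A6), TwoCov φ' c → ∀ z : P, z ^ 3 = 1 →
      (φ' z : Equiv.Perm (Fin 6)).support.card = 3 → S3 (z : G4 F) = 0 → Set6 P φ' c := by
    intro φ' cov' z hz hz3 hS
    refine ⟨cov', hc, fun w hw hw3 => ?_⟩
    have h5 : IsConj (φ' z) (φ' w) := by
      have := alternatingGroup.isThreeCycle_isConj (α := Fin 6) (by simp)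
        (AltFive.isThreeCycle_of hz3) (AltFive.isThreeCycle_of hw3)
      exact this
    obtain ⟨g, hg⟩ := isConj_iff.1 h5
    obtain ⟨g', rfl⟩ := cov'.surj g
    have h6 : g' * z * g'⁻¹ = w := by
      apply cov'.lift_unique (n := 3) (by decide) _
        (by rw [conj_pow, hz, mul_one, mul_inv_cancel]) hw
      rw [map_mul, map_mul, map_inv, hg]
    rw [← h6]
    change S3 ((g' : G4 F) * (z : G4 F) * (g' : G4 F)⁻¹) = 0
    rw [S3_conj, hS, cj, mul_zero, zero_mul]
  rcases dichotomy cov hle h2 h3 hx3 hy3 hφx hφy with h | h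
  · exact ⟨φ, key φ cov x hx3 (by rw [hφx]; exact AltSix.three_x₁) h⟩
  · obtain ⟨Ψ, hΨ⟩ := AltSix.exists_outer
    refine ⟨Ψ.toMonoidHom.comp φ, key _ (cov.comp Ψ) (x * y) hxy3 ?_ h⟩
    have h7 : φ (x * y) = ⟨AltSix.x₁ * AltSix.x₂, by
        rw [Equiv.Perm.mem_alternatingGroup, Equiv.Perm.sign_mul, AltSix.sign_x₁,
          AltSix.sign_x₂]; rfl⟩ := by
      apply Subtype.ext
      rw [map_mul, Subgroup.coe_mul, hφx, hφy]
    change (Ψ (φ (x * y)) : Equiv.Perm (Fin 6)).support.card = 3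
    rw [h7]
    exact hΨ

end

end Cfsg.Agent.H909.ASix
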