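import Mathlib
import Cfsg.Prelude.Def_GeometricClasses
import Cfsg.Agent.H909.ASix
import Cfsg.Agent.H906.TraceField

/-!
# Traces of `2.A₆ ≤ Sp₄(F)`, characteristic at least 5 (helper909)
-/

set_option autoImplicit false

namespace Cfsg.Agent.H909.ASix

open Cfsg Cfsg.Geo Matrix Module
open Cfsg.Agent.ClassicalGeometry.SympBasic
open SpDouble AFive ThreeEl

universe u

variable {F : Type u} [Field F]

local notation "M4" => Matrix (Fin 2 ⊕ Fin 2) (Fin 2 ⊕ Fin 2)
local notation "G4" => GL (Fin 2 ⊕ Fin 2)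
local notation "A6" => alternatingGroup (Fin 6)

theorem τ_x₄ : AltSix.τ * (AltSix.x₂ * AltSix.x₁⁻¹) * AltSix.τ⁻¹ =
    (AltSix.x₁ * AltSix.x₂)⁻¹ := by decide +kernel

/-- If `t S = S' t`, `S S' = 0` and `S² = 3 S` then `tr (t S) = 0`. -/
theorem trace_shift (h3 : (3 : F) ≠ 0) {t S S' : M4 F} (ht : t * S = S' * t)
    (hS : S * S = (3 : F) • S) (hSS : S * S' = 0) : (t * S).trace = 0 := by
  have h1 : (3 : F) • (t * S) = S' * t * S := by
    rw [← Matrix.mul_smul, ← hS, ← mul_assoc, ht]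
  have h2 : (S' * t * S).trace = 0 := by
    rw [Matrix.trace_mul_cycle, hSS, zero_mul, Matrix.trace_zero]
  rw [← h1, Matrix.trace_smul, smul_eq_mul] at h2
  exact (mul_eq_zero.1 h2).resolve_left h3

namespace Set6

variable {P : Subgroup (G4 F)} {φ : P →* A6} {c : P}

/-- elements of order four modulo the centre have trace zero -/
theorem trace_four (h : Set6 P φ c) (h3 : (3 : F) ≠ 0) {g : P}
    (h4 : (φ g : Equiv.Perm (Fin 6)) ^ 4 = 1)
    (h2' : (φ g : Equiv.Perm (Fin 6)) * (φ g : Equiv.Perm (Fin 6)) ≠ 1) :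
    ((g : G4 F) : M4 F).trace = 0 := by
  obtain ⟨k, hk, hkg⟩ := AltSix.four_conj (φ g).2 h4 h2'
  obtain ⟨k', hk'⟩ := h.cov.surj ⟨k, hk⟩
  have hk'v : (φ k' : Equiv.Perm (Fin 6)) = k := by rw [hk']
  obtain ⟨t, ht⟩ : ∃ t : P, t = k'⁻¹ * g * k' := ⟨_, rfl⟩
  have htv : (φ t : Equiv.Perm (Fin 6)) = AltSix.τ := by
    rw [ht, map_mul, map_mul, map_inv, Subgroup.coe_mul, Subgroup.coe_mul, Subgroup.coe_inv, hk'v,
      ← hkg]
    group
  have htr : ((g : G4 F) : M4 F).trace = ((t : G4 F) : M4 F).trace := by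
    have e : (g : G4 F) = (k' : G4 F) * (t : G4 F) * (k' : G4 F)⁻¹ := by
      rw [ht]
      change (g : G4 F) = (k' : G4 F) * ((k' : G4 F)⁻¹ * (g : G4 F) * (k' : G4 F)) * (k' : G4 F)⁻¹
      group
    rw [e, ← cj_coe, cj_trace]
  rw [htr]
  obtain ⟨x, hx, hx3⟩ := h.cov.lift_odd (x := (⟨AltSix.x₁, AltSix.sign_x₁⟩ : A6)) (n := 3)
    (by decide) (Subtype.ext AltSix.x₁_pow.1)
  obtain ⟨y, hy, hy3⟩ := h.cov.lift_odd (x := (⟨AltSix.x₂, AltSix.sign_x₂⟩ : A6)) (n := 3)
    (by decide) (Subtype.ext AltSix.x₂_pow.1)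
  have hφx : (φ x : Equiv.Perm (Fin 6)) = AltSix.x₁ := by rw [hx]
  have hφy : (φ y : Equiv.Perm (Fin 6)) = AltSix.x₂ := by rw [hy]
  have hxy : x * y = y * x := comm_lift h.cov hx3 (by
    apply Subtype.ext
    rw [Subgroup.coe_mul, Subgroup.coe_mul, hφx, hφy, AltSix.x_comm])
  have hxy3 : (x * y) ^ 3 = 1 := by
    rw [(show Commute x y from hxy).mul_pow, hx3, hy3, one_mul]
  have hyx3 : (y * x⁻¹) ^ 3 = 1 := by
    rw [((show Commute x y from hxy).inv_left.symm).mul_pow, inv_pow, hx3, hy3, inv_one, one_mul]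
  have k2 : t * (x * y) * t⁻¹ = y * x⁻¹ := by
    apply h.cov.lift_unique (n := 3) (by decide) _
      (by rw [conj_pow, hxy3, mul_one, mul_inv_cancel]) hyx3
    apply Subtype.ext
    rw [map_mul, map_mul, map_mul, map_mul, map_inv, map_inv, Subgroup.coe_mul, Subgroup.coe_mul,
      Subgroup.coe_mul, Subgroup.coe_mul, Subgroup.coe_inv, Subgroup.coe_inv, htv, hφx, hφy,
      AltSix.τ_x₃]
  have k3 : t * (y * x⁻¹) * t⁻¹ = (x * y)⁻¹ := by
    apply h.cov.lift_unique (n := 3) (by decide) _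
      (by rw [conj_pow, hyx3, mul_one, mul_inv_cancel]) (by rw [inv_pow, hxy3, inv_one])
    apply Subtype.ext
    simp only [map_mul, map_inv, Subgroup.coe_mul, Subgroup.coe_inv, htv, hφx, hφy]
    exact τ_x₄
  have k2' : ((t : G4 F) : M4 F) * S3 ((x : G4 F) * (y : G4 F)) =
      S3 ((y : G4 F) * (x : G4 F)⁻¹) * ((t : G4 F) : M4 F) := by
    apply mul_of_cj_eq
    rw [← S3_conj]
    exact congrArg (fun z : P => S3 (z : G4 F)) k2
  have k3' : ((t : G4 F) : M4 F) * S3 ((y : G4 F) * (x : G4 F)⁻¹) =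
      S3 ((x : G4 F) * (y : G4 F)) * ((t : G4 F) : M4 F) := by
    apply mul_of_cj_eq
    rw [← S3_conj, ← S3_inv ((x : G4 F) * (y : G4 F))]
    exact congrArg (fun z : P => S3 (z : G4 F)) k3
  have s1 : S3 (x : G4 F) = 0 := h.quad x hx3 (by rw [hφx]; exact AltSix.three_x₁)
  have s2 : S3 (y : G4 F) = 0 := h.quad y hy3 (by rw [hφy]; decide +kernel)
  have hxy' : (x : G4 F) * y = y * x := congrArg Subtype.val hxy
  have hsum := S3_sum hxy' (coe_pow_eq hx3) (coe_pow_eq hy3)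
  have hprod := S3_prod hxy' (coe_pow_eq hx3) (coe_pow_eq hy3)
  rw [s1, s2, zero_add, zero_add, zero_mul, add_zero] at hsum
  rw [s1, zero_mul] at hprod
  have hxyc : ((x : G4 F) * (y : G4 F)) * ((y : G4 F) * (x : G4 F)⁻¹) =
      ((y : G4 F) * (x : G4 F)⁻¹) * ((x : G4 F) * (y : G4 F)) := by
    have cc : Commute (x : G4 F) (y : G4 F) := hxy'
    have h6 : Commute ((x : G4 F) * (y : G4 F)) ((y : G4 F) * (x : G4 F)⁻¹) :=
      ((cc.mul_left (Commute.refl _)).mul_right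
        (((Commute.refl (x : G4 F)).mul_left cc.symm).inv_right))
    exact h6
  have hprod' : S3 ((y : G4 F) * (x : G4 F)⁻¹) * S3 ((x : G4 F) * (y : G4 F)) = 0 := by
    rw [← S3_comm hxyc, hprod]
  have z1 := trace_shift h3 k2' (S3_mul_S3 (coe_pow_eq hxy3)) hprod
  have z2 := trace_shift h3 k3' (S3_mul_S3 (coe_pow_eq hyx3)) hprod'
  have h5 : (3 : F) * ((t : G4 F) : M4 F).trace = 0 := by
    have e : (3 : F) • ((t : G4 F) : M4 F) = ((t : G4 F) : M4 F) * S3 ((x : G4 F) * (y : G4 F)) +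
        ((t : G4 F) : M4 F) * S3 ((y : G4 F) * (x : G4 F)⁻¹) := by
      rw [← mul_add, hsum, Matrix.mul_smul, mul_one]
    have := congrArg Matrix.trace e
    rw [Matrix.trace_smul, Matrix.trace_add, smul_eq_mul] at this
    rw [this]
    have z1' : (((t : G4 F) : M4 F) * S3 ((x : G4 F) * (y : G4 F))).trace = 0 := z1
    rw [z1', z2, add_zero]
  exact (mul_eq_zero.1 h5).resolve_left h3

/-- an element whose square is `± 1` has trace `4`, `-4` or `0` -/
theorem trace_two (h2 : (2 : F) ≠ 0) (hc : (c : G4 F) = -1) (cov : TwoCov φ c)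
    (hle : P ≤ spGL 2 F) {g : P}
    (hg : (φ g : Equiv.Perm (Fin 6)) * (φ g : Equiv.Perm (Fin 6)) = 1) :
    ((g : G4 F) : M4 F).trace = 4 ∨ ((g : G4 F) : M4 F).trace = -4 ∨
      ((g : G4 F) : M4 F).trace = 0 := by
  have h1 : φ g * φ g = 1 := Subtype.ext hg
  have hti := trace_inv (hle g.2)
  rcases cov.sq_lift h1 with h4 | h4
  · have h5 : (g : G4 F) * (g : G4 F) = 1 := congrArg Subtype.val h4
    by_cases hs : ∃ a : F, ((g : G4 F) : M4 F) = a • (1 : M4 F)
    · obtain ⟨a, ha⟩ := hs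
      have h6 : ((g : G4 F) : M4 F) * ((g : G4 F) : M4 F) = 1 := by
        rw [← Units.val_mul, h5, Units.val_one]
      rw [ha, smul_mul_smul_comm, one_mul] at h6
      have h7 : (a * a) • (1 : M4 F) = (1 : F) • 1 := by rw [one_smul]; exact h6
      rcases mul_self_eq_one_iff.1 (smul_one_inj h7) with h8 | h8
      · left; rw [ha, trace_smul_one, h8, mul_one]
      · right; left; rw [ha, trace_smul_one, h8]; ring
    · right; right
      push Not at hs
      have hSA : SA ((g : G4 F) : M4 F) := SA.of_invol (hle g.2) h5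
      apply hSA.trace_zero h2 (c := 1) _ hs
      rw [one_smul, ← Units.val_mul, h5, Units.val_one]
  · right; right
    have h5 : (g : G4 F) * (g : G4 F) = -1 := by rw [← hc]; exact congrArg Subtype.val h4
    have h6 : (g : G4 F)⁻¹ = -(g : G4 F) := by
      rw [inv_eq_iff_mul_eq_one, mul_neg, h5, neg_neg]
    rw [h6, Units.val_neg, Matrix.trace_neg] at hti
    exact add_self_zero h2 hti.symm

end Set6

end Cfsg.Agent.H909.ASix
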