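import Mathlib
import Cfsg.Prelude.Def_GeometricClasses
import Cfsg.Agent.H909.ASixTr

/-!
# Elements of order five of `2.A₆ ≤ Sp₄(F)`, characteristic at least 5 (helper909)
-/

set_option autoImplicit false

namespace Cfsg.Agent.H909.ASix

open Cfsg Cfsg.Geo Matrix Module
open Cfsg.Agent.ClassicalGeometry.SympBasic
open SpDouble AFive ThreeEl

universe u

variable {F : Type u} [Field F]

local notation "M4" => Matrix (Fin 2 ⊕ Fin 2) (Fin 2 ⊕ Fin 2)
local notation "G4" => GL (Fin 2 ⊕ Fin 2)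
local notation "A6" => alternatingGroup (Fin 6)

/-- For `A² + A + 1 = 0 = B² + B + 1` the element `A B + (A B)⁻¹` commutes with `A` and `B`. -/
theorem comm_ab {A B : M4 F} (hA : A * A + A + 1 = 0) (hB : B * B + B + 1 = 0) :
    A * (A * B + (1 + B) * (1 + A)) = (A * B + (1 + B) * (1 + A)) * A ∧
    B * (A * B + (1 + B) * (1 + A)) = (A * B + (1 + B) * (1 + A)) * B := by
  constructor
  · have e : A * (A * B + (1 + B) * (1 + A)) - (A * B + (1 + B) * (1 + A)) * A =
        (A * A + A + 1) * B - B * (A * A + A + 1) := by noncomm_ring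
    rw [hA, zero_mul, mul_zero, sub_zero, sub_eq_zero] at e
    exact e
  · have e : B * (A * B + (1 + B) * (1 + A)) - (A * B + (1 + B) * (1 + A)) * B =
        (B * B + B + 1) * A - A * (B * B + B + 1) := by noncomm_ring
    rw [hB, zero_mul, mul_zero, sub_zero, sub_eq_zero] at e
    exact e

/-- the data: lifts of `a`, `b` and `a b` -/
structure Set65 (P : Subgroup (G4 F)) (φ : P →* A6) (c : P) (A B Y : P) : Prop where
  set6 : Set6 P φ c
  le : P ≤ spGL 2 F
  two : (2 : F) ≠ 0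
  three : (3 : F) ≠ 0
  habs : ActsAbsolutelyIrreducibly (matrixSet P)
  A3 : A ^ 3 = 1
  B3 : B ^ 3 = 1
  Y5 : Y ^ 5 = 1
  φA : (φ A : Equiv.Perm (Fin 6)) = AltSix.a
  φB : (φ B : Equiv.Perm (Fin 6)) = AltSix.b
  φY : (φ Y : Equiv.Perm (Fin 6)) = AltSix.a * AltSix.b

theorem exists_set65 {P : Subgroup (G4 F)} {φ : P →* A6} {c : P} (h : Set6 P φ c)
    (hle : P ≤ spGL 2 F) (h2 : (2 : F) ≠ 0) (h3 : (3 : F) ≠ 0)
    (habs : ActsAbsolutelyIrreducibly (matrixSet P)) : ∃ A B Y : P, Set65 P φ c A B Y := by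
  obtain ⟨A, hA, hA3⟩ := h.cov.lift_odd (x := (⟨AltSix.a, AltSix.sign_a⟩ : A6)) (n := 3)
    (by decide) (Subtype.ext AltSix.a_pow.1)
  obtain ⟨B, hB, hB3⟩ := h.cov.lift_odd (x := (⟨AltSix.b, AltSix.sign_b⟩ : A6)) (n := 3)
    (by decide) (Subtype.ext AltSix.b_pow.1)
  obtain ⟨Y, hY, hY5⟩ := h.cov.lift_odd (x := (⟨AltSix.a * AltSix.b, by
      rw [Equiv.Perm.mem_alternatingGroup, Equiv.Perm.sign_mul, AltSix.sign_a,
        AltSix.sign_b]; rfl⟩ : A6)) (n := 5)
    (by decide) (Subtype.ext AltSix.ab_pow.1)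
  exact ⟨A, B, Y, h, hle, h2, h3, habs, hA3, hB3, hY5, by rw [hA], by rw [hB], by rw [hY]⟩

namespace Set65

variable {P : Subgroup (G4 F)} {φ : P →* A6} {c : P} {A B Y : P}

theorem quadA (h : Set65 P φ c A B Y) : ((A : G4 F) : M4 F) + (((A : G4 F)⁻¹ : G4 F) : M4 F) =
    (-1 : F) • (1 : M4 F) := by
  have h1 := h.set6.quad A h.A3 (by rw [h.φA]; exact AltSix.three_a)
  rw [S3, add_assoc] at h1
  rw [neg_one_smul, eq_neg_iff_add_eq_zero, ← h1]; abel

theorem quadB (h : Set65 P φ c A B Y) : ((B : G4 F) : M4 F) + (((B : G4 F)⁻¹ : G4 F) : M4 F) =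
    (-1 : F) • (1 : M4 F) := by
  have h1 := h.set6.quad B h.B3 (by rw [h.φB]; exact AltSix.three_b)
  rw [S3, add_assoc] at h1
  rw [neg_one_smul, eq_neg_iff_add_eq_zero, ← h1]; abel

theorem inv_of {x : G4 F} (hx : (x : M4 F) + ((x⁻¹ : G4 F) : M4 F) = (-1 : F) • (1 : M4 F)) :
    ((x⁻¹ : G4 F) : M4 F) = -(1 + (x : M4 F)) := by
  rw [neg_one_smul] at hx
  have : ((x⁻¹ : G4 F) : M4 F) = ((x : M4 F) + ((x⁻¹ : G4 F) : M4 F)) - x := by abel
  rw [this, hx]; abel

theorem sq_of {x : G4 F} (hx : (x : M4 F) + ((x⁻¹ : G4 F) : M4 F) = (-1 : F) • (1 : M4 F)) :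
    (x : M4 F) * (x : M4 F) + (x : M4 F) + 1 = 0 := by
  have h1 := mul_inv_coe x
  rw [inv_of hx] at h1
  rw [← h1]; noncomm_ring

/-- `Y + Y⁻¹` is `± (A B + (1 + B) (1 + A))`. -/
theorem exists_eps (h : Set65 P φ c A B Y) : ∃ ε : F, (ε = 1 ∨ ε = -1) ∧
    ((A : G4 F) : M4 F) * ((B : G4 F) : M4 F) = ε • ((Y : G4 F) : M4 F) ∧
    ((Y : G4 F) : M4 F) + (((Y : G4 F)⁻¹ : G4 F) : M4 F) =
      ε • (((A : G4 F) : M4 F) * ((B : G4 F) : M4 F) +
        (1 + ((B : G4 F) : M4 F)) * (1 + ((A : G4 F) : M4 F))) := by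
  have e0 : φ (A * B) = φ Y := by
    apply Subtype.ext
    rw [map_mul, Subgroup.coe_mul, h.φA, h.φB, h.φY]
  have hinv : (((A : G4 F) * (B : G4 F) : G4 F)⁻¹ : G4 F) = (B : G4 F)⁻¹ * (A : G4 F)⁻¹ :=
    _root_.mul_inv_rev _ _
  have e1 : ((((A : G4 F) * (B : G4 F))⁻¹ : G4 F) : M4 F) =
      (1 + ((B : G4 F) : M4 F)) * (1 + ((A : G4 F) : M4 F)) := by
    rw [hinv, Units.val_mul, inv_of h.quadA, inv_of h.quadB, neg_mul_neg]
  rcases h.set6.cov.eq_or e0 with h1 | h1
  · refine ⟨1, Or.inl rfl, ?_, ?_⟩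
    · rw [one_smul, ← Units.val_mul]
      exact congrArg (fun z : P => ((z : G4 F) : M4 F)) h1
    · have h2 : (A : G4 F) * (B : G4 F) = (Y : G4 F) := congrArg Subtype.val h1
      rw [one_smul, ← e1, ← Units.val_mul, h2]
  · have h2 : (A : G4 F) * (B : G4 F) = -(Y : G4 F) := by
      have h3 : (A : G4 F) * (B : G4 F) = (c : G4 F) * (Y : G4 F) := congrArg Subtype.val h1
      rw [h3, h.set6.val, neg_one_mul]
    refine ⟨-1, Or.inr rfl, ?_, ?_⟩
    · rw [neg_one_smul, ← Units.val_mul, h2, Units.val_neg]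
    · rw [← e1, ← Units.val_mul, h2, Units.val_neg, inv_neg, Units.val_neg, neg_one_smul]
      abel

/-- `Y + Y⁻¹` commutes with `A` and `B`. -/
theorem u_comm (h : Set65 P φ c A B Y) :
    ((A : G4 F) : M4 F) * (((Y : G4 F) : M4 F) + (((Y : G4 F)⁻¹ : G4 F) : M4 F)) =
      (((Y : G4 F) : M4 F) + (((Y : G4 F)⁻¹ : G4 F) : M4 F)) * ((A : G4 F) : M4 F) ∧
    ((B : G4 F) : M4 F) * (((Y : G4 F) : M4 F) + (((Y : G4 F)⁻¹ : G4 F) : M4 F)) =
      (((Y : G4 F) : M4 F) + (((Y : G4 F)⁻¹ : G4 F) : M4 F)) * ((B : G4 F) : M4 F) := by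
  obtain ⟨ε, -, -, hu⟩ := h.exists_eps
  obtain ⟨h1, h2⟩ := comm_ab (sq_of h.quadA) (sq_of h.quadB)
  rw [hu, Matrix.mul_smul, Matrix.smul_mul, h1, Matrix.mul_smul, Matrix.smul_mul, h2]
  exact ⟨rfl, rfl⟩

/-- `D Y` in terms of `u = Y + Y⁻¹` -/
theorem D_u {y : G4 F} (hy : y ^ 5 = 1) : D y = ((y : M4 F) + ((y⁻¹ : G4 F) : M4 F)) *
    ((y : M4 F) + ((y⁻¹ : G4 F) : M4 F)) + ((y : M4 F) + ((y⁻¹ : G4 F) : M4 F)) - 1 := by
  have e2 : ((y ^ 2 : G4 F) : M4 F) = (y : M4 F) * (y : M4 F) := by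
    rw [← Units.val_mul, ← pow_two]
  have e2' : (((y ^ 2)⁻¹ : G4 F) : M4 F) = ((y⁻¹ : G4 F) : M4 F) * ((y⁻¹ : G4 F) : M4 F) := by
    rw [← Units.val_mul]; congr 1; rw [pow_two, _root_.mul_inv_rev]
  rw [D_eq hy, e2, e2', mul_add, add_mul, add_mul, mul_inv_coe, inv_mul_coe]
  abel

theorem D_comm (h : Set65 P φ c A B Y) :
    ((A : G4 F) : M4 F) * D (Y : G4 F) = D (Y : G4 F) * ((A : G4 F) : M4 F) ∧
    ((B : G4 F) : M4 F) * D (Y : G4 F) = D (Y : G4 F) * ((B : G4 F) : M4 F) := by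
  obtain ⟨h1, h2⟩ := h.u_comm
  rw [D_u (coe_pow_eq h.Y5)]
  obtain ⟨U, hU⟩ : ∃ U : M4 F, U = ((Y : G4 F) : M4 F) + (((Y : G4 F)⁻¹ : G4 F) : M4 F) := ⟨_, rfl⟩
  rw [← hU] at h1 h2 ⊢
  have key : ∀ M : M4 F, M * U = U * M → M * (U * U + U - 1) = (U * U + U - 1) * M := by
    intro M hM
    have : M * (U * U) = U * U * M := by rw [← mul_assoc, hM, mul_assoc, hM, mul_assoc]
    rw [mul_sub, mul_add, sub_mul, add_mul, this, hM, mul_one, one_mul]
  exact ⟨key _ h1, key _ h2⟩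

/-- lifts of the involution `ω` square to the central involution -/
theorem sq_omega {P : Subgroup (G4 F)} {φ : P →* A6} {c I : P} (cov : TwoCov φ c)
    (hφI : (φ I : Equiv.Perm (Fin 6)) = AltSix.ω) : I * I = c := by
  obtain ⟨c', d, e, hc1, hωc, sc, sd, se, hd, he⟩ := AltSix.ω_conj
  obtain ⟨c₁, hc₁⟩ : ∃ c₁ : A6, (c₁ : Equiv.Perm (Fin 6)) = c' := ⟨⟨c', sc⟩, rfl⟩
  obtain ⟨d₁, hd₁⟩ : ∃ d₁ : A6, (d₁ : Equiv.Perm (Fin 6)) = d := ⟨⟨d, sd⟩, rfl⟩
  obtain ⟨e₁, he₁⟩ : ∃ e₁ : A6, (e₁ : Equiv.Perm (Fin 6)) = e := ⟨⟨e, se⟩, rfl⟩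
  have hnl : ¬ TwoCov.LI φ (φ I) := by
    apply cov.not_li_of_klein (b := c₁)
    · intro h5
      rw [h5, Subgroup.coe_one] at hφI
      exact AltSix.ω_klein.2.1 hφI.symm
    · intro h5
      rw [h5, Subgroup.coe_one] at hc₁
      exact hc1 hc₁.symm
    · intro h5
      rw [h5, hc₁] at hφI
      exact hωc hφI.symm
    · refine isConj_iff.2 ⟨d₁, Subtype.ext ?_⟩
      rw [Subgroup.coe_mul, Subgroup.coe_mul, Subgroup.coe_inv, hd₁, hφI, hc₁, hd]
    · refine isConj_iff.2 ⟨e₁, Subtype.ext ?_⟩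
      rw [Subgroup.coe_mul, Subgroup.coe_mul, Subgroup.coe_inv, Subgroup.coe_mul, he₁, hφI, hc₁, he]
  apply cov.sq_lift_of_not _ hnl
  apply Subtype.ext
  rw [Subgroup.coe_mul, hφI]
  exact AltSix.ω_klein.1

/-- `1 + Y + Y² + Y³ + Y⁴ = 0` -/
theorem D_zero (h : Set65 P φ c A B Y) : D (Y : G4 F) = 0 := by
  obtain ⟨ε, hε, hAB, -⟩ := h.exists_eps
  obtain ⟨cA, cB⟩ := h.D_comm
  set a : M4 F := ((A : G4 F) : M4 F) with ha
  set b : M4 F := ((B : G4 F) : M4 F) with hb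
  set E : M4 F := D (Y : G4 F) with hE
  have hYD : ((Y : G4 F) : M4 F) * E = E := mul_D (coe_pow_eq h.Y5)
  have hA3 : a * a * a = 1 := by
    have := congrArg (fun z : G4 F => (z : M4 F)) (coe_pow_eq h.A3)
    rw [ha]; simpa [pow_succ] using this
  have hB3 : b * b * b = 1 := by
    have := congrArg (fun z : G4 F => (z : M4 F)) (coe_pow_eq h.B3)
    rw [hb]; simpa [pow_succ] using this
  -- `b E = ε a² E`
  have h1 : a * (b * E) = ε • E := by rw [← mul_assoc, hAB, Matrix.smul_mul, hYD]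
  have h2 : b * E = ε • (a * a * E) := by
    calc b * E = a * a * a * (b * E) := by rw [hA3, one_mul]
      _ = a * a * (a * (b * E)) := by rw [mul_assoc]
      _ = _ := by rw [h1, Matrix.mul_smul]
  have h3 : b * (b * E) = (ε * ε) • (a * E) := by
    have e : b * (a * a * E) = b * E * (a * a) := by
      rw [mul_assoc a, cA, ← mul_assoc a, cA, mul_assoc b, mul_assoc]
    rw [h2, Matrix.mul_smul, e, h2, Matrix.smul_mul, smul_smul]
    congr 1
    have e2 : a * a * E * (a * a) = a * a * (E * a) * a := by noncomm_ring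
    rw [e2, ← cA]
    have e3 : a * a * (a * E) * a = a * a * a * (E * a) := by noncomm_ring
    rw [e3, hA3, one_mul, cA]
  have hεε : ε * ε = 1 := by rcases hε with rfl | rfl <;> norm_num
  have h4 : E = ε • E := by
    calc E = b * b * b * E := by rw [hB3, one_mul]
      _ = b * (b * (b * E)) := by simp only [mul_assoc]
      _ = b * (a * E) := by rw [h3, hεε, one_smul]
      _ = b * E * a := by rw [cA, mul_assoc]
      _ = ε • (a * a * E * a) := by rw [h2, Matrix.smul_mul]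
      _ = ε • (a * a * a * E) := by rw [mul_assoc (a * a) E a, ← cA, ← mul_assoc (a * a) a E]
      _ = ε • E := by rw [hA3, one_mul]
  rcases hε with rfl | rfl
  swap
  · have h5 : (2 : F) • E = 0 := by
      rw [two_smul]; nth_rewrite 1 [h4]; rw [neg_one_smul]; abel
    exact (smul_eq_zero.1 h5).resolve_left h.two
  · rw [one_smul] at h1 h2
    rw [one_mul, one_smul] at h3
    -- the involution word
    set I : P := A * B * A * B ^ 2 with hI
    have hφI : (φ I : Equiv.Perm (Fin 6)) = AltSix.ω := by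
      rw [hI, map_mul, map_mul, map_mul, map_pow, Subgroup.coe_mul, Subgroup.coe_mul,
        Subgroup.coe_mul, Subgroup.coe_pow, h.φA, h.φB]
      rfl
    have hII : I * I = c := sq_omega h.set6.cov hφI
    have hIE : ((I : G4 F) : M4 F) * E = a * a * E := by
      have e1 : ((I : G4 F) : M4 F) = a * b * a * (b * b) := by
        rw [hI, ha, hb]
        simp [pow_two]
      rw [e1]
      calc a * b * a * (b * b) * E = a * b * (a * (b * (b * E))) := by simp only [mul_assoc]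
        _ = a * b * (a * (a * E)) := by rw [h3]
        _ = a * (b * (a * a * E)) := by simp only [mul_assoc]
        _ = a * (b * (b * E)) := by rw [h2]
        _ = a * (a * E) := by rw [h3]
        _ = _ := by rw [mul_assoc]
    have hIIE : ((I : G4 F) : M4 F) * (((I : G4 F) : M4 F) * E) = a * E := by
      rw [hIE]
      have : a * a * E = E * (a * a) := by
        rw [mul_assoc, cA, ← mul_assoc, cA, mul_assoc]
      rw [this, ← mul_assoc, hIE, mul_assoc (a * a) E, ← this]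
      calc a * a * (a * a * E) = a * a * a * (a * E) := by simp only [mul_assoc]
        _ = a * E := by rw [hA3, one_mul]
    have h6 : ((I : G4 F) : M4 F) * (((I : G4 F) : M4 F) * E) = -E := by
      have e1 : (I : G4 F) * (I : G4 F) = -1 := by
        rw [← h.set6.val]; exact congrArg Subtype.val hII
      rw [← mul_assoc, ← Units.val_mul, e1, Units.val_neg, Units.val_one, neg_one_mul]
    have h7 : a * E = -E := by rw [← hIIE, h6]
    have h8 : E = -E := by
      calc E = a * a * a * E := by rw [hA3, one_mul]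
        _ = a * (a * (a * E)) := by simp only [mul_assoc]
        _ = -E := by rw [h7, mul_neg, h7, neg_neg, h7]
    have h9 : (2 : F) • E = 0 := by
      rw [two_smul]; nth_rewrite 1 [h8]; abel
    exact (smul_eq_zero.1 h9).resolve_left h.two

/-- `Y + Y⁻¹` is not scalar. -/
theorem ns (h : Set65 P φ c A B Y) (κ : F) :
    ((Y : G4 F) : M4 F) + (((Y : G4 F)⁻¹ : G4 F) : M4 F) ≠ κ • (1 : M4 F) := by
  intro hκ
  obtain ⟨g, hg⟩ := h.set6.cov.surj ⟨AltSix.g, AltSix.sign_g⟩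
  have hgv : (φ g : Equiv.Perm (Fin 6)) = AltSix.g := by rw [hg]
  have h2 : (((g : G4 F) * (Y : G4 F) * (g : G4 F)⁻¹ : G4 F) : M4 F) +
      ((((g : G4 F) * (Y : G4 F) * (g : G4 F)⁻¹)⁻¹ : G4 F) : M4 F) = κ • (1 : M4 F) := by
    have e : ((g : G4 F) * (Y : G4 F) * (g : G4 F)⁻¹)⁻¹ =
        (g : G4 F) * (Y : G4 F)⁻¹ * (g : G4 F)⁻¹ := by group
    rw [e, ← cj_coe, ← cj_coe, ← cj_add, hκ, cj_smul, cj_id]
  refine QuadPair.quad_pair (P := P) (by simp) h.habs (y₁ := (A : G4 F))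
    (y₂ := (g : G4 F) * (Y : G4 F) * (g : G4 F)⁻¹) ?_ h.quadA h2
  have h4 := gen_mod_scalars h.set6.cov (by rw [h.set6.val]; exact neg_one_scalar)
    ({A, g * Y * g⁻¹} : Set P) (by
      rw [Set.image_pair]
      apply AltGen.gen'
      rw [Set.image_pair, map_mul, map_mul, map_inv, Subgroup.coe_mul, Subgroup.coe_mul,
        Subgroup.coe_inv, hgv, h.φA, h.φY]
      exact AltSix.gen_ay)
  rwa [Set.image_pair] at h4

/-- the trace of an element of order five -/
theorem trace_Y (h : Set65 P φ c A B Y) : ((Y : G4 F) : M4 F).trace = -1 := by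
  have hW : SA (W1 (Y : G4 F)) := (SA.add_inv (h.le Y.2)).add (SA.one.smul _)
  have htr := hW.trace_zero h.two (W1_mul h.two (coe_pow_eq h.Y5) h.D_zero) (by
    intro κ hκ
    apply h.ns (κ - 2⁻¹)
    rw [sub_smul, ← hκ, W1]; abel)
  rw [W1, Matrix.trace_add, Matrix.trace_add, trace_inv (h.le Y.2), trace_smul_one] at htr
  have h4 : (2 : F) * (((Y : G4 F) : M4 F).trace + 1) = 0 := by
    have : (4 : F) * 2⁻¹ = 2 := by
      have := h.two
      field_simp; norm_num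
    rw [this] at htr
    linear_combination htr
  exact eq_neg_of_add_eq_zero_left ((mul_eq_zero.1 h4).resolve_left h.two)

theorem trace_Y2 (h : Set65 P φ c A B Y) : (((Y : G4 F) ^ 2 : G4 F) : M4 F).trace = -1 := by
  have h1 := congrArg Matrix.trace (W1_sq h.two (coe_pow_eq h.Y5) h.D_zero)
  rw [Matrix.trace_neg, W1, W1, Matrix.trace_add, Matrix.trace_add, Matrix.trace_add,
    Matrix.trace_add, trace_inv (h.le Y.2), trace_inv (pow_mem (h.le Y.2) 2), trace_smul_one,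
    h.trace_Y] at h1
  have h4 : (2 : F) * ((((Y : G4 F) ^ 2 : G4 F) : M4 F).trace + 1) = 0 := by
    have : (4 : F) * 2⁻¹ = 2 := by
      have := h.two
      field_simp; norm_num
    rw [this] at h1
    linear_combination h1
  exact eq_neg_of_add_eq_zero_left ((mul_eq_zero.1 h4).resolve_left h.two)

/-- the trace of any element of order five -/
theorem trace_five (h : Set65 P φ c A B Y) {z : P} (hz : z ^ 5 = 1) (hz1 : z ≠ 1) :
    ((z : G4 F) : M4 F).trace = -1 := by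
  have hcard : Nat.card A6 = 5 * 72 := by rw [AltSix.card_A6]
  have e1 : (φ z) ^ 5 = 1 := by rw [← map_pow, hz, map_one]
  have e2 : φ z ≠ 1 := by
    intro hc
    apply hz1
    apply h.set6.cov.lift_unique (n := 5) (by decide) _ hz (one_pow 5)
    rw [hc, map_one]
  have e3 : (φ Y) ^ 5 = 1 := by rw [← map_pow, h.Y5, map_one]
  have e4 : φ Y ≠ 1 := by
    intro hc
    have := h.φY
    rw [hc, Subgroup.coe_one] at this
    exact AltSix.ab_pow.2 this.symm
  obtain ⟨g, m, hgm⟩ := sylow_conj (by norm_num : Nat.Prime 5) hcard (by norm_num) e1 e2 e3 e4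
  obtain ⟨g', rfl⟩ := h.set6.cov.surj g
  have h5 : g' * z * g'⁻¹ = Y ^ m := by
    apply h.set6.cov.lift_unique (n := 5) (by decide) _
      (by rw [conj_pow, hz, mul_one, mul_inv_cancel])
      (by rw [← pow_mul, mul_comm, pow_mul, h.Y5, one_pow])
    rw [map_mul, map_mul, map_inv, hgm, map_pow]
  have htr : ((z : G4 F) : M4 F).trace = (((Y : G4 F) ^ m : G4 F) : M4 F).trace := by
    rw [← cj_trace (g' : G4 F), cj_coe]
    congr 2
    exact congrArg Subtype.val h5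
  have hY5 := coe_pow_eq h.Y5
  have hm : (Y : G4 F) ^ m = (Y : G4 F) ^ (m % 5) := by
    conv_lhs => rw [← Nat.div_add_mod m 5]
    rw [pow_add, pow_mul, hY5, one_pow, one_mul]
  have hlt := Nat.mod_lt m (by norm_num : 5 > 0)
  rw [htr, hm]
  have hne : m % 5 ≠ 0 := by
    intro h0
    rw [h0, pow_zero] at hm
    have h6 : g' * z * g'⁻¹ = 1 := by rw [h5]; exact Subtype.ext hm
    rw [mul_inv_eq_one] at h6
    exact hz1 (mul_eq_left.1 h6)
  have hi3 : (Y : G4 F) ^ 3 = ((Y : G4 F) ^ 2)⁻¹ := by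
    rw [eq_inv_iff_mul_eq_one, ← pow_add, hY5]
  interval_cases h9 : m % 5
  · exact absurd rfl hne
  · rw [pow_one]; exact h.trace_Y
  · exact h.trace_Y2
  · rw [hi3, trace_inv (pow_mem (h.le Y.2) 2)]; exact h.trace_Y2
  · rw [← inv_eq hY5, trace_inv (h.le Y.2)]; exact h.trace_Y

/-- all traces are integers -/
theorem trace_int (h : Set65 P φ c A B Y) (g : P) : ∃ n : ℤ, ((g : G4 F) : M4 F).trace = n := by
  have hneg : ∀ z : P, ((((c * z : P) : G4 F)) : M4 F).trace = -((z : G4 F) : M4 F).trace := by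
    intro z
    rw [Subgroup.coe_mul, h.set6.val, neg_one_mul, Units.val_neg, Matrix.trace_neg]
  have hodd : ∀ n : ℕ, Odd n → (φ g) ^ n = 1 → g ^ n = 1 ∨ (c * g) ^ n = 1 := by
    intro n hn hg
    rw [← map_pow] at hg
    rcases (h.set6.cov.ker _).1 hg with h1 | h1
    · exact Or.inl h1
    · right; rw [h.set6.cov.c_mul_pow hn, h1, h.set6.cov.sq]
  have hone : ((1 : G4 F) : M4 F).trace = 4 := by
    rw [Units.val_one, Matrix.trace_one]; simp
  have h3case : ∀ z : P, z ^ 3 = 1 → ∃ n : ℤ, ((z : G4 F) : M4 F).trace = n := by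
    intro z hz
    by_cases hz1 : (z : G4 F) = 1
    · exact ⟨4, by rw [hz1, hone]; norm_num⟩
    · by_cases hS : S3 (z : G4 F) = 0
      · refine ⟨-2, ?_⟩
        have h1 := S3_trace (h.le z.2)
        rw [hS, Matrix.trace_zero] at h1
        have h4 : (2 : F) * (((z : G4 F) : M4 F).trace + 2) = 0 := by linear_combination -h1
        have := eq_neg_of_add_eq_zero_left ((mul_eq_zero.1 h4).resolve_left h.two)
        rw [this]; norm_num
      · refine ⟨1, ?_⟩
        have h1 := trace_three h.two h.three (h.le z.2) (coe_pow_eq hz) hz1 hS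
        rw [S3_trace (h.le z.2)] at h1
        have h4 : (2 : F) * (((z : G4 F) : M4 F).trace - 1) = 0 := by linear_combination h1
        have := sub_eq_zero.1 ((mul_eq_zero.1 h4).resolve_left h.two)
        rw [this]; norm_num
  have h5case : ∀ z : P, z ^ 5 = 1 → ∃ n : ℤ, ((z : G4 F) : M4 F).trace = n := by
    intro z hz
    by_cases hz1 : z = 1
    · exact ⟨4, by rw [hz1, Subgroup.coe_one, hone]; norm_num⟩
    · exact ⟨-1, by rw [h.trace_five hz hz1]; norm_num⟩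
  rcases AltSix.elements (φ g) (φ g).2 with h1 | h1 | h1 | ⟨h1, h1'⟩
  · rcases Set6.trace_two h.two h.set6.val h.set6.cov h.le h1 with h2 | h2 | h2
    · exact ⟨4, by rw [h2]; norm_num⟩
    · exact ⟨-4, by rw [h2]; norm_num⟩
    · exact ⟨0, by rw [h2]; norm_num⟩
  · rcases hodd 3 (by decide) (Subtype.ext h1) with h2 | h2
    · exact h3case g h2
    · obtain ⟨n, hn⟩ := h3case _ h2
      refine ⟨-n, ?_⟩
      rw [hneg] at hn
      rw [Int.cast_neg, ← hn, neg_neg]
  · rcases hodd 5 (by decide) (Subtype.ext h1) with h2 | h2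
    · exact h5case g h2
    · obtain ⟨n, hn⟩ := h5case _ h2
      refine ⟨-n, ?_⟩
      rw [hneg] at hn
      rw [Int.cast_neg, ← hn, neg_neg]
  · exact ⟨0, by rw [h.set6.trace_four h.three h1 h1']; norm_num⟩

end Set65

end Cfsg.Agent.H909.ASix
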