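import Mathlib
import Cfsg.Prelude.Def_GeometricClasses
import Cfsg.Agent.H909.ASixFive

/-!
# `2.A₆` as the core of a maximal subgroup of `Sp₄(q)`: `q = p ≥ 5`, `p ≠ 7` (helper909)
-/

set_option autoImplicit false

namespace Cfsg.Agent.H909.ASix

open Cfsg Cfsg.Geo Matrix Module
open Cfsg.Agent.ClassicalGeometry.SympBasic
open SpDouble AFive ThreeEl

universe u

variable {F : Type u} [Field F]

local notation "M4" => Matrix (Fin 2 ⊕ Fin 2) (Fin 2 ⊕ Fin 2)
local notation "G4" => GL (Fin 2 ⊕ Fin 2)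
local notation "A6" => alternatingGroup (Fin 6)

theorem W1_pow (h2 : (2 : F) ≠ 0) {z : G4 F} (hz : z ^ 5 = 1) {m : ℕ} (hm : z ^ m ≠ 1)
    (hD : D (z ^ m) = 0) : W1 (z ^ m) = W1 z ∨ W1 (z ^ m) = - W1 z := by
  have hm' : z ^ m = z ^ (m % 5) := by
    conv_lhs => rw [← Nat.div_add_mod m 5]
    rw [pow_add, pow_mul, hz, one_pow, one_mul]
  have hlt := Nat.mod_lt m (by norm_num : 5 > 0)
  have hz2 : (z ^ 2) ^ 5 = 1 := by rw [← pow_mul, mul_comm, pow_mul, hz, one_pow]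
  have hi3 : z ^ 3 = (z ^ 2)⁻¹ := by
    rw [eq_inv_iff_mul_eq_one, ← pow_add, hz]
  rw [hm'] at hm hD ⊢
  interval_cases h9 : m % 5
  · exact absurd (pow_zero z) hm
  · rw [pow_one]; exact Or.inl rfl
  · rw [D_sq hz] at hD
    exact Or.inr (W1_sq h2 hz hD)
  · rw [hi3, D_inv hz2, D_sq hz] at hD
    right
    rw [hi3, W1_inv, W1_sq h2 hz hD]
  · left
    rw [← inv_eq hz, W1_inv]

theorem trans_six : ∀ i : Fin 6, ∃ σ : Equiv.Perm (Fin 6), Equiv.Perm.sign σ = 1 ∧ σ 5 = i := by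
  decide +kernel

set_option maxRecDepth 100000 in
theorem trans_pair : ∀ i j : Fin 6, i ≠ j → ∃ σ : Equiv.Perm (Fin 6), Equiv.Perm.sign σ = 1 ∧
    σ 0 = i ∧ σ 1 = j := by decide +kernel

namespace Set65

variable {P : Subgroup (G4 F)} {φ : P →* A6} {c : P} {A B Y : P}

/-- the point stabiliser fixes `W1 Y` -/
theorem stab_fix (h : Set65 P φ c A B Y) {g : P} (hg : (φ g : Equiv.Perm (Fin 6)) 5 = 5) :
    cj (g : G4 F) (W1 (Y : G4 F)) = W1 (Y : G4 F) := by
  obtain ⟨cA, cB⟩ := h.u_comm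
  let S : Subgroup P :=
    { carrier := {g | cj (g : G4 F) (W1 (Y : G4 F)) = W1 (Y : G4 F)}
      one_mem' := cj_one _
      mul_mem' := fun {a b} ha hb => by
        change cj ((a : G4 F) * (b : G4 F)) _ = _
        rw [cj_mul, show cj (b : G4 F) (W1 (Y : G4 F)) = W1 (Y : G4 F) from hb]
        exact ha
      inv_mem' := fun {a} ha => by
        change cj (a : G4 F)⁻¹ _ = _
        nth_rewrite 1 [← show cj (a : G4 F) (W1 (Y : G4 F)) = W1 (Y : G4 F) from ha]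
        exact cj_inv_cj _ _ }
  have key : ∀ x : P, ((x : G4 F) : M4 F) * (((Y : G4 F) : M4 F) + (((Y : G4 F)⁻¹ : G4 F) : M4 F)) =
      (((Y : G4 F) : M4 F) + (((Y : G4 F)⁻¹ : G4 F) : M4 F)) * ((x : G4 F) : M4 F) → x ∈ S := by
    intro x hx
    change cj (x : G4 F) (W1 (Y : G4 F)) = W1 (Y : G4 F)
    rw [W1, cj_add, cj_smul, cj_id, cj_eq_of_mul hx]
  have hAB : Subgroup.closure ({A, B} : Set P) ≤ S := by
    rw [Subgroup.closure_le]
    rintro x (rfl | hx)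
    · exact key _ cA
    · rw [Set.mem_singleton_iff] at hx; subst hx; exact key _ cB
  let φ' : P →* Equiv.Perm (Fin 6) := (alternatingGroup (Fin 6)).subtype.comp φ
  have h1 : φ' g ∈ (Subgroup.closure ({A, B} : Set P)).map φ' := by
    rw [MonoidHom.map_closure, Set.image_pair]
    change _ ∈ Subgroup.closure ({(φ A : Equiv.Perm (Fin 6)), (φ B : Equiv.Perm (Fin 6))} : Set _)
    rw [h.φA, h.φB]
    exact AltSix.stab_closure (φ g).2 hg
  obtain ⟨z, hz, hzg⟩ := h1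
  have h2 : φ z = φ g := Subtype.ext hzg
  have h3 : z ∈ S := hAB hz
  have hc : c ∈ S := by
    change cj (c : G4 F) _ = _
    apply cj_eq_of_mul
    rw [h.set6.val, Units.val_neg, Units.val_one, neg_one_mul, mul_neg_one]
  rcases h.set6.cov.eq_or h2.symm with h4 | h4
  · rw [h4]; exact h3
  · rw [h4]; exact S.mul_mem hc h3

/-- characteristic 7 does not occur -/
theorem seven_false [Finite F] (h : Set65 P φ c A B Y) {H : Subgroup (G4 F)}
    (core : IsResidualCore H P) (hmax : IsMaximalIn (spGL 2 F) H) : (7 : F) ≠ 0 := by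
  classical
  intro h7
  have h5 : (5 : F) ≠ 0 := by
    intro h5
    have : (2 : F) = 0 := by linear_combination h7 - h5
    exact h.two this
  have hg : ∀ i : Fin 6, ∃ g : P, (φ g : Equiv.Perm (Fin 6)) 5 = i := by
    intro i
    obtain ⟨σ, hσ, hi⟩ := trans_six i
    obtain ⟨g, hg⟩ := h.set6.cov.surj ⟨σ, hσ⟩
    exact ⟨g, by rw [hg]; exact hi⟩
  choose g hg using hg
  set w : Fin 6 → M4 F := fun i => cj (g i : G4 F) (W1 (Y : G4 F)) with hw
  have hperm : ∀ (x : P) (i : Fin 6), cj (x : G4 F) (w i) = w ((φ x : Equiv.Perm (Fin 6)) i) := by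
    intro x i
    set j := (φ x : Equiv.Perm (Fin 6)) i with hj
    have h1 : (φ ((g j)⁻¹ * (x * g i)) : Equiv.Perm (Fin 6)) 5 = 5 := by
      rw [map_mul, map_mul, map_inv, Subgroup.coe_mul, Subgroup.coe_mul, Subgroup.coe_inv,
        Equiv.Perm.mul_apply, Equiv.Perm.mul_apply, hg i, ← hj]
      exact Equiv.Perm.inv_eq_iff_eq.2 (hg j).symm
    have h2 := h.stab_fix h1
    have h3 : ((((g j)⁻¹ * (x * g i) : P)) : G4 F) = (g j : G4 F)⁻¹ * ((x : G4 F) * (g i : G4 F)) :=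
      rfl
    rw [h3, cj_mul, cj_mul] at h2
    change cj (x : G4 F) (cj (g i : G4 F) (W1 (Y : G4 F))) = cj (g j : G4 F) (W1 (Y : G4 F))
    nth_rewrite 2 [← h2]
    rw [← cj_mul (g j : G4 F), mul_inv_cancel, cj_one]
  have hY5 := coe_pow_eq h.Y5
  have hD := h.D_zero
  have hWns : ∀ κ : F, W1 (Y : G4 F) ≠ κ • (1 : M4 F) := by
    intro κ hκ
    apply h.ns (κ - 2⁻¹)
    rw [sub_smul, ← hκ, W1]; abel
  have hWSA : SA (W1 (Y : G4 F)) := (SA.add_inv (h.le Y.2)).add (SA.one.smul _)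
  have hWtr := hWSA.trace_zero h.two (W1_mul h.two hY5 hD) hWns
  have horb : Orb P w (5 * 4⁻¹) := by
    refine ⟨h.two, h.three, h.habs, fun i => hWSA.cj (h.le (g i).2), fun i => ?_, fun i => ?_,
      fun κ hκ => ?_, fun x hx => ⟨(φ ⟨x, hx⟩ : Equiv.Perm (Fin 6)), hperm ⟨x, hx⟩⟩, ?_⟩
    · change (cj (g i : G4 F) (W1 (Y : G4 F))).trace = 0
      rw [cj_trace, hWtr]
    · change cj (g i : G4 F) (W1 (Y : G4 F)) * cj (g i : G4 F) (W1 (Y : G4 F)) = _
      rw [← cj_mul', W1_mul h.two hY5 hD, cj_scalar]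
    · apply hWns κ
      apply cj_injective (g 0 : G4 F)
      rw [cj_scalar]; exact hκ
    · intro i j hij
      obtain ⟨σ, hσ, h0, h1⟩ := trans_pair i j hij
      obtain ⟨x, hx⟩ := h.set6.cov.surj ⟨σ, hσ⟩
      have hxv : (φ x : Equiv.Perm (Fin 6)) = σ := by rw [hx]
      exact ⟨x, x.2, by rw [hperm, hxv, h0], by rw [hperm, hxv, h1]⟩
  obtain ⟨β, hsix, hβ⟩ := horb.six
  have h4 := four_ne h.two
  have hab : (5 : F) * 4⁻¹ = 2 * β := by
    have h8 : (5 : F) * (4⁻¹ + β) = 0 := by linear_combination hβ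
    have h9 := (mul_eq_zero.1 h8).resolve_left h5
    have h10 : β = -4⁻¹ := by linear_combination h9
    have h11 : (7 : F) * 4⁻¹ = 0 := by rw [h7, zero_mul]
    rw [h10]
    linear_combination h11
  refine hsix.seven_false hab h.three hmax ?_
  intro x hx i
  -- the image of the element of order five
  set Z' : G4 F := x * ((g i : G4 F) * (Y : G4 F) * (g i : G4 F)⁻¹) * x⁻¹ with hZ'
  have hZP : Z' ∈ P := core.normal x hx _ (P.mul_mem (P.mul_mem (g i).2 Y.2) (P.inv_mem (g i).2))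
  obtain ⟨Z, hZ⟩ : ∃ Z : P, (Z : G4 F) = Z' := ⟨⟨Z', hZP⟩, rfl⟩
  have hwZ : cj x (w i) = W1 (Z : G4 F) := by
    rw [hZ, hZ', W1_conj, W1_conj]
  have hZ5' : Z' ^ 5 = 1 := by
    rw [hZ', conj_pow, conj_pow, hY5, mul_one, mul_inv_cancel, mul_one, mul_inv_cancel]
  have hZ5 : Z ^ 5 = 1 := Subtype.ext (by rw [Subgroup.coe_pow, hZ, hZ5']; rfl)
  have hYne : (Y : G4 F) ≠ 1 := by
    intro h1
    have h2 : Y = 1 := Subtype.ext h1
    have := h.φY
    rw [h2, map_one, Subgroup.coe_one] at this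
    exact AltSix.ab_pow.2 this.symm
  have hZ1 : Z ≠ 1 := by
    intro h1
    have h2 : Z' = 1 := by rw [← hZ, h1]; rfl
    rw [hZ', mul_inv_eq_one] at h2
    have h3 := mul_eq_left.1 h2
    rw [mul_inv_eq_one] at h3
    exact hYne (mul_eq_left.1 h3)
  have hφZ5 : (φ Z : Equiv.Perm (Fin 6)) ^ 5 = 1 := by
    rw [← Subgroup.coe_pow, ← map_pow, hZ5, map_one]; rfl
  obtain ⟨j, hj⟩ := AltSix.five_fix _ hφZ5
  refine ⟨j, ?_⟩
  set V : P := (g j)⁻¹ * Z * g j with hV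
  have hV5 : V ^ 5 = 1 := by
    have : V = (g j)⁻¹ * Z * ((g j)⁻¹)⁻¹ := by rw [hV, inv_inv]
    rw [this, conj_pow, hZ5, mul_one, mul_inv_cancel]
  have hφV : (φ V : Equiv.Perm (Fin 6)) = (φ (g j) : Equiv.Perm (Fin 6))⁻¹ *
      (φ Z : Equiv.Perm (Fin 6)) * (φ (g j) : Equiv.Perm (Fin 6)) := by
    rw [hV, map_mul, map_mul, map_inv]; rfl
  have hVfix : (φ V : Equiv.Perm (Fin 6)) 5 = 5 := by
    rw [hφV, Equiv.Perm.mul_apply, Equiv.Perm.mul_apply, hg j, hj]
    exact Equiv.Perm.inv_eq_iff_eq.2 (hg j).symm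
  have hφV5 : (φ V : Equiv.Perm (Fin 6)) ^ 5 = 1 := by
    rw [← Subgroup.coe_pow, ← map_pow, hV5, map_one]; rfl
  have hφV1 : (φ V : Equiv.Perm (Fin 6)) ≠ 1 := by
    intro h1
    have h2 : φ V = 1 := Subtype.ext h1
    have h3 : V = 1 := h.set6.cov.lift_unique (n := 5) (by decide) (by rw [h2, map_one]) hV5
      (one_pow 5)
    apply hZ1
    have : Z = g j * V * (g j)⁻¹ := by rw [hV]; group
    rw [this, h3, mul_one, mul_inv_cancel]
  obtain ⟨s, m, hs, hs5, hsm⟩ := AltSix.sylow_stab (φ V).2 hVfix hφV5 hφV1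
  obtain ⟨S, hS⟩ := h.set6.cov.surj ⟨s, hs⟩
  have hSv : (φ S : Equiv.Perm (Fin 6)) = s := by rw [hS]
  have hSY : S * Y * S⁻¹ = V ^ m := by
    apply h.set6.cov.lift_unique (n := 5) (by decide) _
      (by rw [conj_pow, h.Y5, mul_one, mul_inv_cancel])
      (by rw [← pow_mul, mul_comm, pow_mul, hV5, one_pow])
    apply Subtype.ext
    rw [map_mul, map_mul, map_inv, map_pow, Subgroup.coe_mul, Subgroup.coe_mul, Subgroup.coe_inv,
      Subgroup.coe_pow, hSv, h.φY, hsm]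
  have hSY' : (S : G4 F) * (Y : G4 F) * (S : G4 F)⁻¹ = (V : G4 F) ^ m := congrArg Subtype.val hSY
  have e1 : W1 ((V : G4 F) ^ m) = W1 (Y : G4 F) := by
    rw [← hSY', W1_conj]
    apply h.stab_fix
    rw [hSv]; exact hs5
  have e2 : D ((V : G4 F) ^ m) = 0 := by
    rw [← hSY', D_conj, hD, cj, mul_zero, zero_mul]
  have e3 : (V : G4 F) ^ m ≠ 1 := by
    intro h1
    rw [← hSY', mul_inv_eq_one] at h1
    exact hYne (mul_eq_left.1 h1)
  have e4 : W1 (Z : G4 F) = cj (g j : G4 F) (W1 (V : G4 F)) := by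
    rw [← W1_conj]
    congr 1
    change (Z : G4 F) = (g j : G4 F) * ((g j : G4 F)⁻¹ * (Z : G4 F) * (g j : G4 F)) * (g j : G4 F)⁻¹
    group
  rw [hwZ, e4]
  rcases W1_pow h.two (coe_pow_eq hV5) e3 e2 with h8 | h8
  · left; rw [← h8, e1]
  · right
    have : W1 (V : G4 F) = - W1 (Y : G4 F) := by rw [← e1, h8, neg_neg]
    rw [this, cj_neg]

end Set65

/-- The `A₆` case. -/
theorem six_case [Fintype F] {P H : Subgroup (G4 F)} (ctx : Ctx P)
    (core : IsResidualCore H P) (hmax : IsMaximalIn (spGL 2 F) H) {p : ℕ} (hp : p.Prime)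
    [CharP F p] (hp5 : 5 ≤ p) (e : (P ⧸ Zs P) ≃* alternatingGroup (Fin 6)) :
    Fintype.card F = p ∧ p ≠ 7 := by
  have hcast : ∀ n : ℕ, (n : F) = 0 ↔ p ∣ n := fun n => CharP.cast_eq_zero_iff F p n
  have h3 : (3 : F) ≠ 0 := by
    intro h
    have h1 : ((3 : ℕ) : F) = 0 := by exact_mod_cast h
    have := Nat.le_of_dvd (by norm_num) ((hcast 3).1 h1)
    omega
  obtain ⟨φ, hset⟩ := exists_set6 (ctx.twoCov.comp e) rfl ctx.le ctx.two h3
  obtain ⟨A, B, Y, h⟩ := exists_set65 hset ctx.le ctx.two h3 core.absIrred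
  constructor
  · by_contra hcard
    have htr : ∀ g ∈ P, ((g : G4 F) : M4 F).trace ∈ (⊥ : Subfield F) := by
      intro g hg
      obtain ⟨n, hn⟩ := h.trace_int ⟨g, hg⟩
      change ((g : G4 F) : M4 F).trace = n at hn
      rw [hn]
      exact intCast_mem _ n
    refine core.no_subfield ⊥ ?_
      (Cfsg.Agent.H906.realisable_of_trace core.absIrred ⊥ htr)
    intro htop
    apply hcard
    haveI : Fact p.Prime := ⟨hp⟩
    have h1 : Function.Surjective (ZMod.castHom (dvd_refl p) F) := by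
      intro x
      have hx : x ∈ (⊥ : Subfield F) := by rw [htop]; trivial
      have h2 : (⊥ : Subfield F) ≤ (ZMod.castHom (dvd_refl p) F).fieldRange := bot_le
      exact h2 hx
    have h2 : Function.Bijective (ZMod.castHom (dvd_refl p) F) :=
      ⟨(ZMod.castHom (dvd_refl p) F).injective, h1⟩
    rw [← Fintype.card_of_bijective h2, ZMod.card]
  · rintro rfl
    apply h.seven_false core hmax
    have : ((7 : ℕ) : F) = 0 := (hcast 7).2 dvd_rfl
    exact_mod_cast this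

end Cfsg.Agent.H909.ASix
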