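import Mathlib
import Cfsg.Prelude.Def_GeometricClasses
import Cfsg.Agent.S0253
import Cfsg.Agent.S0254
import Cfsg.Agent.H909.AFive
import Cfsg.Agent.H909.ASixEnd
import Cfsg.Agent.H909.ASeven
import Cfsg.Agent.H991.EightAlt
import Cfsg.Agent.H991.EightSz
import Cfsg.Agent.H991.QuatFour
import Cfsg.Agent.H991.QuatFourU
import Cfsg.Agent.H991.QuatFourM12
import Cfsg.Agent.H991.Sp4All
import Cfsg.Agent.H587.Sp.Cross
import Cfsg.Agent.H587.Sp.Main
import Cfsg.Agent.H462.LSevenMain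
import Cfsg.Agent.LieClassical.FieldTransfer

/-!
# The residual maximal subgroups of `Sp_4(q)`, `q` odd (helper909)
-/

set_option autoImplicit false

namespace Cfsg.Agent.H909.Sp4Main

open Cfsg Cfsg.Geo Matrix
open Cfsg.Agent.H909.SpDouble

universe u

variable {F : Type u} [Field F]

theorem ctx_of_core {H P : Subgroup (GL I4 F)} (h2 : (2 : F) ≠ 0) (hle : H ≤ spGL 2 F)
    (core : IsResidualCore H P) : Ctx P where
  two := h2
  le := core.le.trans hle
  perfect := core.perfect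
  simple := core.simple
  nonabelian := core.nonabelian

theorem two_ne_zero_of_odd [Fintype F] (hodd : Odd (Fintype.card F)) : (2 : F) ≠ 0 := by
  intro h2
  have : CharP F 2 := CharTwo.of_one_ne_zero_of_two_eq_zero one_ne_zero h2
  obtain ⟨n, -, hn⟩ := FiniteField.card F 2
  rw [hn] at hodd
  exact (Nat.not_even_iff_odd.2 hodd) (Even.pow_of_ne_zero even_two n.2.ne')

theorem qf_false [Finite F] {P : Subgroup (GL I4 F)} (ctx : Ctx P) {X : Type*} [Group X]
    (e : (P ⧸ Zs P) ≃* X) (h : Cfsg.Agent.H991.QF X) : False := by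
  obtain ⟨i, j, z, y, h1, h2, h3, h4, h5, h6⟩ := h
  exact (ctx.twoCov.comp e).quat_four h1 h2 h3 h4 h5 h6

theorem main [Fintype F] (hodd : Odd (Fintype.card F)) {H : Subgroup (GL I4 F)}
    (hH : IsMaximalIn (spGL 2 F) H) (hS : InSymplecticResidualClass H) :
    ∃ (P : Subgroup (GL I4 F)) (p : ℕ), IsResidualCore H P ∧ p.Prime ∧ CharP F p ∧
    ((Nonempty ((P ⧸ (scalars I4 F).subgroupOf P) ≃* alternatingGroup (Fin 6)) ∧
        Fintype.card F = p ∧ 5 ≤ p ∧ p ≠ 7) ∨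
     (Nonempty ((P ⧸ (scalars I4 F).subgroupOf P) ≃* alternatingGroup (Fin 7)) ∧
        Fintype.card F = 7) ∨
     (Nonempty ((P ⧸ (scalars I4 F).subgroupOf P) ≃* Matrix.ProjectiveSpecialLinearGroup (Fin 2) F) ∧
        5 ≤ p ∧ 7 < Fintype.card F)) := by
  classical
  obtain ⟨P, core, -, -⟩ := hS
  have h2 := two_ne_zero_of_odd hodd
  have ctx := ctx_of_core h2 hH.1.le core
  obtain ⟨p, hchar⟩ := CharP.exists F
  have hp : p.Prime := CharP.char_is_prime F p
  refine ⟨P, p, core, hp, hchar, ?_⟩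
  have hcast : ∀ n : ℕ, (n : F) = 0 ↔ p ∣ n := fun n => CharP.cast_eq_zero_iff F p n
  have hp2 : p ≠ 2 := by
    rintro rfl
    exact h2 (by exact_mod_cast (hcast 2).2 dvd_rfl)
  rcases ctx.surv with h | h | h | h | h | h | h | h
  · obtain ⟨K, _, _, hK, h5, ⟨e⟩⟩ := h
    by_cases h3 : (3 : F) = 0
    · exact (Cfsg.Agent.H587.Sp.l2_three ctx core h3 hK h5 e).elim
    · have hp3 : p ≠ 3 := by
        rintro rfl
        exact h3 (by exact_mod_cast (hcast 3).2 dvd_rfl)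
      have hp5 : 5 ≤ p := by
        by_contra hcon
        have h4 := hp.two_le
        interval_cases p
        · exact hp2 rfl
        · exact hp3 rfl
        · revert hp; decide
      by_cases hK5 : Fintype.card K = 5
      · obtain ⟨f⟩ := Cfsg.Agent.S0253.result hK5
        exact (Cfsg.Agent.H909.AFive.five_false ctx core hH h3 (e.trans f)).elim
      · by_cases hK9 : Fintype.card K = 9
        · obtain ⟨f⟩ := Cfsg.Agent.S0254.result hK9
          obtain ⟨h4, h5⟩ := Cfsg.Agent.H909.ASix.six_case ctx core hH hp hp5 (e.trans f)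
          exact Or.inl ⟨⟨e.trans f⟩, h4, hp5, h5⟩
        · obtain ⟨h4, h5⟩ := Cfsg.Agent.H587.Sp.l2_case ctx core hp hp5 hK
            (lt_of_le_of_ne h5 (Ne.symm hK5)) hK9 e
            (fun h7 hK7 => Cfsg.Agent.H462.LSevenMain.l27 h7 hH core hK7 e)
          exact Or.inr (Or.inr ⟨⟨e.trans (Cfsg.Agent.LieClassical.FieldTransfer.pslCongr
            (FiniteField.ringEquivOfCardEq h4))⟩, hp5, h5⟩)
  · obtain ⟨e⟩ := h
    exact Or.inr (Or.inl ⟨⟨e⟩, Cfsg.Agent.H909.ASeven.seven_case ctx core e⟩)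
  · obtain ⟨n, h8, -, ⟨e⟩⟩ := h
    obtain ⟨a, b, d, h1, h2, h3, h4, h5, h6, h7, h8, h9, h10, h11, h12⟩ :=
      Cfsg.Agent.H991.Eight.alt_eight n h8
    exact ((ctx.twoCov.comp e).eight h1 h2 h3 h4 h5 h6 h7 h8 h9 h10 h11 h12).elim
  · obtain ⟨K, _, _, hK, ⟨e⟩⟩ := h
    obtain ⟨a, b, d, h1, h2, h3, h4, h5, h6, h7, h8, h9, h10, h11, h12⟩ :=
      Cfsg.Agent.H991.Eight.sz_eight hK
    exact ((ctx.twoCov.comp e).eight h1 h2 h3 h4 h5 h6 h7 h8 h9 h10 h11 h12).elim
  · exact (qf_false ctx (MulEquiv.refl _) (Cfsg.Agent.H991.qf_m12 h)).elim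
  · obtain ⟨K, _, _, hK, ⟨e⟩⟩ := h
    have h4 := Cfsg.Agent.H991.Sp4.sp4_all ctx core.absIrred core.no_subfield hK e
    exact (lt_irrefl _ (lt_of_le_of_lt (h4.symm.le.trans core.le) hH.1)).elim
  · obtain ⟨K, _, _, hK, ⟨e⟩⟩ := h
    exact (qf_false ctx e (Cfsg.Agent.H991.qf_psl (Nat.odd_iff.2 (by omega)) 4 (by norm_num))).elim
  · obtain ⟨K, _, _, q, hK, hq, ⟨e⟩⟩ := h
    exact (qf_false ctx e (Cfsg.Agent.H991.qf_psu hK (Nat.odd_iff.2 (by omega)) 4 (by norm_num))).elim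

end Cfsg.Agent.H909.Sp4Main
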