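import Mathlib
import Cfsg.Agent.H875.SSet

/-!
# Kernels: biorthogonal systems from power functions on a finite field (helper909)
-/

set_option autoImplicit false
set_option linter.unusedSectionVars false

namespace Cfsg.Agent.H909.Sp4Ker

open Cfsg.Agent.H875.Fn Matrix

universe u v w

section biorth

variable {k : Type v} [Field k] {V : Type w} [AddCommGroup V] [Module k V] [FiniteDimensional k V]

/-- a biorthogonal system bounds the dimension -/
theorem le_of_biorth {ι : Type*} [Fintype ι] [DecidableEq ι] (G : ι → Module.Dual k V) (W : ι → V) {d : k}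
    (hd : d ≠ 0) (h : ∀ i l, G i (W l) = if i = l then d else 0) : Fintype.card ι ≤ Module.finrank k V := by
  have hli : LinearIndependent k W := by
    rw [Fintype.linearIndependent_iff]
    intro c hc i
    have h1 := congrArg (G i) hc
    rw [map_sum, map_zero] at h1
    simp only [map_smul, h, smul_eq_mul, mul_ite, mul_zero, Finset.sum_ite_eq, Finset.mem_univ,
      if_true] at h1
    exact (mul_eq_zero.1 h1).resolve_right hd
  exact hli.fintype_card_le_finrank

end biorth

section dual

variable {E : Type u} [Field E] [Fintype E] {k : Type v} [Field k] (j : E →+* k)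

open Classical in
/-- dual functions of the powers -/
noncomputable def be (m : ℕ) (t : E) : k :=
  if m = 0 then (if t = 0 then 1 else 0) else - j t ^ (Fintype.card E - 1 - m)

theorem sum_be {m m' : ℕ} (hm : m ≤ Fintype.card E - 1) (hm' : m' ≤ Fintype.card E - 1) :
    ∑ t : E, be j m t * j t ^ m' = if m = m' then 1 else 0 := by
  classical
  have hq := two_le_card (E := E)
  unfold be
  by_cases h0 : m = 0
  · simp only [h0, if_true, ite_mul, one_mul, zero_mul]
    rw [Finset.sum_ite_eq' Finset.univ (0 : E) (fun t => j t ^ m')]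
    simp only [Finset.mem_univ, if_true, map_zero]
    by_cases h1 : m' = 0
    · simp [h1]
    · rw [zero_pow h1, if_neg (fun h => h1 h.symm)]
  · simp only [h0, if_false, neg_mul, ← pow_add, Finset.sum_neg_distrib]
    by_cases h2 : Fintype.card E - 1 - m + m' = 0
    · rw [h2, if_neg (by omega)]
      simp only [pow_zero]
      rw [Finset.sum_const, Finset.card_univ, nsmul_eq_mul, card_cast_zero j, zero_mul, neg_zero]
    · rw [sum_map_pow j h2]
      by_cases h3 : m = m'
      · rw [if_pos h3, if_pos, neg_neg]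
        rw [← h3, Nat.sub_add_cancel hm]
      · rw [if_neg h3, if_neg, neg_zero]
        rintro ⟨d, hd⟩
        have hd1 : d < 2 := by
          by_contra hd2
          have : (Fintype.card E - 1) * 2 ≤ (Fintype.card E - 1) * d := Nat.mul_le_mul_left _ (by omega)
          omega
        interval_cases d
        · omega
        · apply h3; omega

/-! ### reduction of exponents -/

/-- the exponent in `[1, q - 1]` with the same power function (`0` for `0`) -/
def red (q n : ℕ) : ℕ := if n = 0 then 0 else (n - 1) % (q - 1) + 1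

theorem red_zero (q : ℕ) : red q 0 = 0 := by rw [red, if_pos rfl]

theorem red_le {q : ℕ} (hq : 2 ≤ q) (n : ℕ) : red q n ≤ q - 1 := by
  unfold red
  split_ifs
  · omega
  · have := Nat.mod_lt (n - 1) (show 0 < q - 1 by omega)
    omega

theorem red_ne_zero {q n : ℕ} (hn : n ≠ 0) : red q n ≠ 0 := by
  unfold red
  rw [if_neg hn]
  omega

theorem red_eq {q n : ℕ} (h : n ≤ q - 1) : red q n = n := by
  unfold red
  split_ifs with h0
  · exact h0.symm
  · rw [Nat.mod_eq_of_lt (by omega)]
    omega

theorem red_congr {q n m : ℕ} (hn : n ≠ 0) (hm : m ≠ 0) (h : n ≡ m [MOD q - 1]) :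
    red q n = red q m := by
  unfold red
  rw [if_neg hn, if_neg hm]
  have h1 : n - 1 ≡ m - 1 [MOD q - 1] := by
    have h2 : (n - 1) + 1 ≡ (m - 1) + 1 [MOD q - 1] := by
      rw [Nat.sub_add_cancel (by omega), Nat.sub_add_cancel (by omega)]
      exact h
    exact Nat.ModEq.add_right_cancel' 1 h2
  rw [h1]

theorem red_modEq (q n : ℕ) : red q n ≡ n [MOD q - 1] := by
  unfold red
  split_ifs with h0
  · rw [h0]
  · have h1 : (n - 1) % (q - 1) + 1 ≡ (n - 1) + 1 [MOD q - 1] :=
      (Nat.mod_modEq (n - 1) (q - 1)).add_right 1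
    rwa [Nat.sub_add_cancel (by omega)] at h1

theorem red_add {q n m : ℕ} (hn : n ≠ 0) : red q (n + m) = red q (red q n + m) :=
  red_congr (by omega) (by have := red_ne_zero (q := q) hn; omega)
    ((red_modEq q n).symm.add_right m)

theorem pow_red (x : E) (n : ℕ) : x ^ n = x ^ red (Fintype.card E) n := by
  unfold red
  split_ifs with h0
  · rw [h0]
  · by_cases hx : x = 0
    · rw [hx, zero_pow h0, zero_pow (by omega)]
    · have h1 : n = (Fintype.card E - 1) * ((n - 1) / (Fintype.card E - 1)) +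
        ((n - 1) % (Fintype.card E - 1) + 1) := by
        have := Nat.div_add_mod (n - 1) (Fintype.card E - 1)
        omega
      conv_lhs => rw [h1]
      rw [pow_add, pow_mul, FiniteField.pow_card_sub_one_eq_one x hx, one_pow, one_mul]

variable (p : ℕ) [hp : Fact p.Prime] [CharP k p]

/-- the rank of `(1 + u t)^n` -/
def Rk (q n : ℕ) : ℕ := (SS p (red q n)).card

theorem exists_al (n : ℕ) {m : ℕ} (hm : m ∈ SS p (red (Fintype.card E) n)) :
    ∃ α : E → k, ∀ u : E, ∑ t, α t * j (1 + u * t) ^ n = j u ^ m := by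
  have hq := two_le_card (E := E)
  set r := red (Fintype.card E) n with hr
  have hrq : r ≤ Fintype.card E - 1 := red_le hq n
  have hmr : m ≤ r := (mem_SS.1 hm).1
  have hC : ((r.choose m : ℕ) : k) ≠ 0 := choose_ne_zero p hm
  refine ⟨fun t => ((r.choose m : ℕ) : k)⁻¹ * be j m t, fun u => ?_⟩
  have h1 : ∀ t : E, j (1 + u * t) ^ n = ∑ i ∈ Finset.range (r + 1),
      (j u ^ i * (r.choose i : k)) * j t ^ i := by
    intro t
    rw [← map_pow, pow_red, ← hr, map_pow, map_add, map_one, map_mul, add_comm, add_pow]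
    refine Finset.sum_congr rfl fun i _ => ?_
    rw [one_pow, mul_one, mul_pow]
    ring
  simp only [h1, Finset.mul_sum]
  rw [Finset.sum_comm]
  rw [Finset.sum_eq_single m]
  · have h2 : ∀ t : E, ((r.choose m : ℕ) : k)⁻¹ * be j m t * (j u ^ m * (r.choose m : k) * j t ^ m) =
        (((r.choose m : ℕ) : k)⁻¹ * (r.choose m : k) * j u ^ m) * (be j m t * j t ^ m) := by
      intro t; ring
    simp only [h2]
    rw [← Finset.mul_sum, sum_be j (by omega) (by omega), if_pos rfl, inv_mul_cancel₀ hC,
      one_mul, mul_one]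
  · intro i hi hne
    rw [Finset.mem_range] at hi
    have h2 : ∀ t : E, ((r.choose m : ℕ) : k)⁻¹ * be j m t * (j u ^ i * (r.choose i : k) * j t ^ i) =
        (((r.choose m : ℕ) : k)⁻¹ * (r.choose i : k) * j u ^ i) * (be j m t * j t ^ i) := by
      intro t; ring
    simp only [h2]
    rw [← Finset.mul_sum, sum_be j (by omega) (by omega), if_neg (Ne.symm hne), mul_zero]
  · intro h
    exact absurd (Finset.mem_range.2 (by omega)) h

variable {V : Type w} [AddCommGroup V] [Module k V]

/-- the kernel `(1 + c z)^n₁ (1 + d w)^n₂` -/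
theorem block (f : E × E → Module.Dual k V) (v : E × E → V) {n₁ n₂ : ℕ}
    (h : ∀ x y, f x (v y) = j (1 + x.1 * y.1) ^ n₁ * j (1 + x.2 * y.2) ^ n₂) :
    ∃ (G : SS p (red (Fintype.card E) n₁) × SS p (red (Fintype.card E) n₂) → Module.Dual k V)
      (W : SS p (red (Fintype.card E) n₁) × SS p (red (Fintype.card E) n₂) → V),
      (∀ i, G i ∈ Submodule.span k (Set.range f)) ∧ (∀ i, W i ∈ Submodule.span k (Set.range v)) ∧
      ∀ i l, G i (W l) = if i = l then 1 else 0 := by
  classical
  have hq := two_le_card (E := E)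
  choose α₁ hα₁ using fun m : SS p (red (Fintype.card E) n₁) => exists_al j p n₁ m.2
  choose α₂ hα₂ using fun m : SS p (red (Fintype.card E) n₂) => exists_al j p n₂ m.2
  refine ⟨fun i => ∑ x : E × E, (be j i.1 x.1 * be j i.2 x.2) • f x,
    fun i => ∑ y : E × E, (α₁ i.1 y.1 * α₂ i.2 y.2) • v y, fun i => ?_, fun i => ?_, fun i l => ?_⟩
  · exact Submodule.sum_mem _ fun x _ => Submodule.smul_mem _ _ (Submodule.subset_span ⟨x, rfl⟩)
  · exact Submodule.sum_mem _ fun x _ => Submodule.smul_mem _ _ (Submodule.subset_span ⟨x, rfl⟩)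
  · have h1 : ∀ x : E × E, f x (∑ y : E × E, (α₁ l.1 y.1 * α₂ l.2 y.2) • v y) =
        j x.1 ^ (l.1 : ℕ) * j x.2 ^ (l.2 : ℕ) := by
      intro x
      rw [map_sum, ← hα₁ l.1 x.1, ← hα₂ l.2 x.2, Finset.sum_mul_sum, Fintype.sum_prod_type]
      refine Finset.sum_congr rfl fun y₁ _ => Finset.sum_congr rfl fun y₂ _ => ?_
      rw [map_smul, h, smul_eq_mul]
      ring
    rw [LinearMap.sum_apply]
    simp only [LinearMap.smul_apply, h1, smul_eq_mul]
    have h2 : ∀ x : E × E, be j i.1 x.1 * be j i.2 x.2 * (j x.1 ^ (l.1 : ℕ) * j x.2 ^ (l.2 : ℕ)) =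
        (be j i.1 x.1 * j x.1 ^ (l.1 : ℕ)) * (be j i.2 x.2 * j x.2 ^ (l.2 : ℕ)) := by
      intro x; ring
    simp only [h2]
    have hb : ∀ (n : ℕ) (m : SS p (red (Fintype.card E) n)), (m : ℕ) ≤ Fintype.card E - 1 := by
      intro n m
      have h3 := (mem_SS.1 m.2).1
      have h4 := red_le hq n
      omega
    rw [Fintype.sum_prod_type]
    dsimp only
    rw [← Finset.sum_mul_sum, sum_be j (hb _ _) (hb _ _), sum_be j (hb _ _) (hb _ _)]
    by_cases h5 : i = l
    · rw [if_pos h5, h5, if_pos rfl, if_pos rfl, mul_one]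
    · rw [if_neg h5]
      by_cases h6 : i.1 = l.1
      · have h7 : (i.2 : ℕ) ≠ l.2 := fun h8 => h5 (Prod.ext h6 (Subtype.ext h8))
        rw [if_neg h7, mul_zero]
      · have h7 : (i.1 : ℕ) ≠ l.1 := fun h8 => h6 (Subtype.ext h8)
        rw [if_neg h7, zero_mul]

variable [FiniteDimensional k V]

theorem block_le (f : E × E → Module.Dual k V) (v : E × E → V) {n₁ n₂ : ℕ}
    (h : ∀ x y, f x (v y) = j (1 + x.1 * y.1) ^ n₁ * j (1 + x.2 * y.2) ^ n₂) :
    Rk p (Fintype.card E) n₁ * Rk p (Fintype.card E) n₂ ≤ Module.finrank k V := by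
  classical
  obtain ⟨G, W, -, -, hGW⟩ := block j p f v h
  have := le_of_biorth G W one_ne_zero hGW
  rwa [Fintype.card_prod, Fintype.card_coe, Fintype.card_coe] at this

/-- two blocks -/
theorem two_block_le (f f' : E × E → Module.Dual k V) (v v' : E × E → V) {n₁ n₂ n₁' n₂' : ℕ}
    (h : ∀ x y, f x (v y) = j (1 + x.1 * y.1) ^ n₁ * j (1 + x.2 * y.2) ^ n₂)
    (h' : ∀ x y, f' x (v' y) = j (1 + x.1 * y.1) ^ n₁' * j (1 + x.2 * y.2) ^ n₂')
    (h1 : ∀ x y, f x (v' y) = 0) (h2 : ∀ x y, f' x (v y) = 0) :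
    Rk p (Fintype.card E) n₁ * Rk p (Fintype.card E) n₂ +
      Rk p (Fintype.card E) n₁' * Rk p (Fintype.card E) n₂' ≤ Module.finrank k V := by
  classical
  obtain ⟨G, W, hG, hW, hGW⟩ := block j p f v h
  obtain ⟨G', W', hG', hW', hGW'⟩ := block j p f' v' h'
  have key : ∀ {f : E × E → Module.Dual k V} {v : E × E → V} (_ : ∀ x y, f x (v y) = 0)
      {g : Module.Dual k V} (_ : g ∈ Submodule.span k (Set.range f)) {w : V}
      (_ : w ∈ Submodule.span k (Set.range v)), g w = 0 := by
    intro f v hfv g hg w hw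
    induction hg using Submodule.span_induction with
    | mem g hg =>
      obtain ⟨x, rfl⟩ := hg
      induction hw using Submodule.span_induction with
      | mem w hw => obtain ⟨y, rfl⟩ := hw; exact hfv x y
      | zero => exact map_zero _
      | add a b _ _ ha hb => rw [map_add, ha, hb, add_zero]
      | smul c a _ ha => rw [map_smul, ha, smul_zero]
    | zero => rfl
    | add a b _ _ ha hb => rw [LinearMap.add_apply, ha, hb, add_zero]
    | smul c a _ ha => rw [LinearMap.smul_apply, ha, smul_zero]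
  have := le_of_biorth (Sum.elim G G') (Sum.elim W W') (one_ne_zero (α := k)) (by
    rintro (i | i) (l | l)
    · simp only [Sum.elim_inl, hGW, Sum.inl.injEq]
    · simp only [Sum.elim_inl, Sum.elim_inr, reduceCtorEq, if_false]
      exact key h1 (hG i) (hW' l)
    · simp only [Sum.elim_inl, Sum.elim_inr, reduceCtorEq, if_false]
      exact key h2 (hG' i) (hW l)
    · simp only [Sum.elim_inr, hGW', Sum.inr.injEq])
  rwa [Fintype.card_sum, Fintype.card_prod, Fintype.card_prod, Fintype.card_coe, Fintype.card_coe,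
    Fintype.card_coe, Fintype.card_coe] at this

end dual

end Cfsg.Agent.H909.Sp4Ker
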