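import Mathlib
import Cfsg.Agent.H909.Sp4KerBase

/-!
# Arithmetic of the exponents for `Sp₄`, defining characteristic, dimension at most 12 (helper909)
-/

set_option autoImplicit false
set_option linter.unusedSectionVars false

namespace Cfsg.Agent.H909.Sp4Ker

open Cfsg.Agent.H875.Fn

variable {p : ℕ} [hp : Fact p.Prime]

theorem card_SS_zero : (SS p 0).card = 1 := card_SS_lt hp.out.pos

theorem exists_of_card_le_three {c : ℕ} (hc : c ≠ 0) (h : (SS p c).card ≤ 3) :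
    ∃ e t : ℕ, (e = 1 ∨ e = 2) ∧ e < p ∧ c = p ^ t * e ∧ (SS p c).card = e + 1 := by
  obtain ⟨t, e, x, he, hep, hcx⟩ := exists_digit (p := p) hc
  have h1 : p ^ t * e < p ^ (t + 1) := by
    rw [pow_succ]
    exact Nat.mul_lt_mul_of_pos_left hep (pow_pos hp.out.pos t)
  have h2 : (SS p c).card = (e + 1) * (SS p x).card := by
    rw [hcx, card_SS_add h1 (Dvd.intro _ rfl), card_SS_digit hep, card_SS_pow_mul]
  by_cases hx : x = 0
  · rw [hx, card_SS_zero, mul_one] at h2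
    refine ⟨e, t, by omega, hep, ?_, h2⟩
    rw [hcx, hx, mul_zero, add_zero]
  · have h3 := two_le_card_SS (p := p) hx
    have h4 : 2 * 2 ≤ (e + 1) * (SS p x).card := Nat.mul_le_mul (by omega) h3
    omega

theorem card_pair {c d a b : ℕ} (hc : c < p) (hd : d < p) (hab : a ≠ b) :
    (SS p (p ^ a * c + p ^ b * d)).card = (c + 1) * (d + 1) := by
  have key : ∀ {c d a b : ℕ}, c < p → d < p → a < b →
      (SS p (p ^ a * c + p ^ b * d)).card = (c + 1) * (d + 1) := by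
    intro c d a b hc hd hab
    have h1 : p ^ a * c < p ^ (a + 1) := by
      rw [pow_succ]
      exact Nat.mul_lt_mul_of_pos_left hc (pow_pos hp.out.pos a)
    have h2 : p ^ (a + 1) ∣ p ^ b * d := Dvd.dvd.mul_right (pow_dvd_pow p hab) d
    rw [card_SS_add h1 h2, card_SS_digit hc, card_SS_digit hd]
  rcases lt_or_gt_of_ne hab with h | h
  · exact key hc hd h
  · rw [add_comm, key hd hc h, mul_comm]

theorem card_same {c d a : ℕ} (h : c + d < p) : (SS p (p ^ a * c + p ^ a * d)).card = c + d + 1 := by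
  rw [← mul_add, card_SS_digit h]

theorem le_card_pred {n : ℕ} (hn : n ≠ 0) : p ≤ (SS p (p ^ n - 1)).card := by
  obtain ⟨m, rfl⟩ := Nat.exists_eq_succ_of_ne_zero hn
  have hp1 := hp.out.pos
  have h0 : 0 < p ^ m := pow_pos hp1 m
  have h1 : p ^ (m + 1) - 1 = (p - 1) + p * (p ^ m - 1) := by
    rw [Nat.mul_sub, mul_one, pow_succ']
    have : p * 1 ≤ p * p ^ m := Nat.mul_le_mul_left p h0
    omega
  rw [Nat.succ_eq_add_one, h1, card_SS_add (t := 1) (by rw [pow_one]; omega)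
    (by rw [pow_one]; exact Dvd.intro _ rfl), card_SS_lt (by omega)]
  have h3 := card_SS_pos (p := p) (p * (p ^ m - 1))
  have h4 : p - 1 + 1 = p := by omega
  rw [h4]
  exact Nat.le_mul_of_pos_right p h3

/-- bounds -/
theorem lt_of_pow_mul_le {n t e : ℕ} (he : e ≠ 0) (h : p ^ t * e ≤ p ^ n - 1) : t < n := by
  have hp1 := hp.out.one_lt
  have h0 : 0 < p ^ n := pow_pos hp.out.pos n
  have h1 : p ^ t < p ^ n := by
    calc p ^ t ≤ p ^ t * e := Nat.le_mul_of_pos_right _ (by omega)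
      _ < p ^ n := by omega
  exact (Nat.pow_lt_pow_iff_right hp1).1 h1

theorem sum_le {n a b c d : ℕ} (ha : a < n) (hb : b < n) (h : c + d < p) :
    p ^ a * c + p ^ b * d ≤ p ^ n - 1 := by
  obtain ⟨m, rfl⟩ := Nat.exists_eq_succ_of_ne_zero (show n ≠ 0 by omega)
  have h0 : 0 < p ^ m := pow_pos hp.out.pos m
  have h1 : p ^ a ≤ p ^ m := Nat.pow_le_pow_right hp.out.pos (by omega)
  have h2 : p ^ b ≤ p ^ m := Nat.pow_le_pow_right hp.out.pos (by omega)
  have h3 : p ^ a * c + p ^ b * d ≤ p ^ m * (c + d) := by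
    rw [mul_add]
    exact Nat.add_le_add (Nat.mul_le_mul_right c h1) (Nat.mul_le_mul_right d h2)
  have h4 : p ^ m * (c + d) ≤ p ^ m * (p - 1) := Nat.mul_le_mul_left _ (by omega)
  have h5 : p ^ m * (p - 1) + p ^ m = p ^ (m + 1) := by
    rw [pow_succ, ← Nat.mul_succ, Nat.succ_eq_add_one, Nat.sub_add_cancel hp.out.pos]
  rw [Nat.succ_eq_add_one]
  omega

theorem Rk_eq {q c : ℕ} (h : c ≤ q - 1) : Rk p q c = (SS p c).card := by rw [Rk, red_eq h]

theorem two_le_Rk {q c : ℕ} (h : c ≠ 0) : 2 ≤ Rk p q c := two_le_card_SS (red_ne_zero h)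

/-- **The exponents for `p ≥ 5`.** -/
theorem eq_pow_pow (h5 : 5 ≤ p) {n c₁ c₂ : ℕ} (h₁ : c₁ ≤ p ^ n - 1) (h₂ : c₂ ≤ p ^ n - 1)
    (h₁0 : c₁ ≠ 0) (h₂0 : c₂ ≠ 0)
    (hA : 2 * (Rk p (p ^ n) (c₁ + c₂) * Rk p (p ^ n) c₂) ≤ 12)
    (hB : Rk p (p ^ n) c₁ * Rk p (p ^ n) (c₁ + 2 * c₂) ≤ 12) :
    ∃ m, c₁ = p ^ m ∧ c₂ = p ^ m := by
  have hn : n ≠ 0 := by
    rintro rfl
    rw [pow_zero] at h₁
    omega
  rw [Rk_eq h₂] at hA
  rw [Rk_eq h₁] at hB
  have hs2 := two_le_card_SS (p := p) h₂0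
  have hs1 := two_le_card_SS (p := p) h₁0
  have hs12 : 2 ≤ Rk p (p ^ n) (c₁ + c₂) := two_le_Rk (by omega)
  have hx0 : red (p ^ n) (c₁ + c₂) ≠ 0 := red_ne_zero (by omega)
  have h2q : 2 ≤ p ^ n := (show 2 ≤ p by omega).trans (Nat.le_self_pow hn p)
  obtain ⟨e₂, m, he₂, he₂p, hc₂, hs2'⟩ := exists_of_card_le_three (p := p) h₂0 (by nlinarith)
  have hx : ∃ x, x = red (p ^ n) (c₁ + c₂) := ⟨_, rfl⟩
  obtain ⟨x, hx⟩ := hx
  have hR : Rk p (p ^ n) (c₁ + c₂) = (SS p x).card := by rw [Rk, hx]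
  rw [hR] at hA hs12
  obtain ⟨e, l, he, hep, hxe, hsx⟩ := exists_of_card_le_three (p := p) (hx ▸ hx0) (by nlinarith)
  have hm : m < n := lt_of_pow_mul_le (by omega) (hc₂ ▸ h₂)
  have hxq : x ≤ p ^ n - 1 := hx ▸ red_le h2q _
  have hl : l < n := lt_of_pow_mul_le (by omega) (hxe ▸ hxq)
  have hR2 : Rk p (p ^ n) (c₁ + 2 * c₂) = (SS p (x + c₂)).card := by
    rw [Rk, show c₁ + 2 * c₂ = (c₁ + c₂) + c₂ by ring, red_add (by omega), ← hx, red_eq]
    rw [hxe, hc₂]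
    exact sum_le hl hm (by omega)
  rw [hR2] at hB
  have hnot : ¬ (e = 2 ∧ e₂ = 2) := by
    rintro ⟨rfl, rfl⟩
    rw [hsx, hs2'] at hA
    omega
  -- `|SS c₁| ≤ 3`
  have hs1' : (SS p c₁).card ≤ 3 := by
    by_cases hlm : l = m
    · subst hlm
      have h3 : (SS p (x + c₂)).card = e + e₂ + 1 := by
        rw [hxe, hc₂]; exact card_same (by omega)
      by_cases h4 : e = 1 ∧ e₂ = 1
      · -- `c₁ = q - 1`
        exfalso
        obtain ⟨rfl, rfl⟩ := h4
        have h6 : c₁ + c₂ ≡ 0 + c₂ [MOD p ^ n - 1] := by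
          have h7 := red_modEq (p ^ n) (c₁ + c₂)
          rw [← hx, hxe, ← hc₂] at h7
          rw [zero_add]
          exact h7.symm
        have h8 : c₁ ≡ 0 [MOD p ^ n - 1] := Nat.ModEq.add_right_cancel' _ h6
        have h9 : p ^ n - 1 ∣ c₁ := (Nat.modEq_zero_iff_dvd).1 h8
        have h10 : c₁ = p ^ n - 1 := le_antisymm h₁ (Nat.le_of_dvd (by omega) h9)
        have h11 := le_card_pred (p := p) hn
        rw [← h10] at h11
        rw [h3] at hB
        nlinarith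
      · have h5' : 4 ≤ (SS p (x + c₂)).card := by omega
        nlinarith
    · have h3 : (SS p (x + c₂)).card = (e + 1) * (e₂ + 1) := by
        rw [hxe, hc₂]; exact card_pair hep he₂p hlm
      have h5' : 2 * 2 ≤ (e + 1) * (e₂ + 1) := Nat.mul_le_mul (by omega) (by omega)
      rw [h3] at hB
      nlinarith
  obtain ⟨e₁, a, he₁, he₁p, hc₁, hs1''⟩ := exists_of_card_le_three (p := p) h₁0 hs1'
  have ha : a < n := lt_of_pow_mul_le (by omega) (hc₁ ▸ h₁)
  have hx2 : x = c₁ + c₂ := by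
    rw [hx, red_eq]
    rw [hc₁, hc₂]
    exact sum_le ha hm (by omega)
  by_cases ham : a = m
  · subst ham
    have h3 : (SS p x).card = e₁ + e₂ + 1 := by
      rw [hx2, hc₁, hc₂]; exact card_same (by omega)
    have h4 : e₁ = 1 ∧ e₂ = 1 := by omega
    exact ⟨a, by rw [hc₁, h4.1, mul_one], by rw [hc₂, h4.2, mul_one]⟩
  · exfalso
    have h3 : (SS p x).card = (e₁ + 1) * (e₂ + 1) := by
      rw [hx2, hc₁, hc₂]; exact card_pair he₁p he₂p ham
    have h4 : 2 * 2 ≤ (e₁ + 1) * (e₂ + 1) := Nat.mul_le_mul (by omega) (by omega)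
    omega

end Cfsg.Agent.H909.Sp4Ker
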