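import Mathlib
import Cfsg.Agent.H909.Sp4KerArith

/-!
# Ternary digits for the kernel of the Ree groups (helper909)
-/

set_option autoImplicit false
set_option linter.unusedSectionVars false

namespace Cfsg.Agent.H909.ReeKer

open Cfsg.Agent.H875.Fn Cfsg.Agent.H909.Sp4Ker

/-- digits -/
def dg (c i : ℕ) : ℕ := c / 3 ^ i % 3

theorem dg_lt (c i : ℕ) : dg c i < 3 := Nat.mod_lt _ (by norm_num)

instance : Fact (Nat.Prime 3) := ⟨Nat.prime_three⟩

theorem choose_ne {n c x : ℕ} (hc : c < 3 ^ n) (hx : x < 3 ^ n) :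
    ¬ 3 ∣ c.choose x ↔ ∀ i < n, dg x i ≤ dg c i := by
  have h := Choose.lucas_theorem_nat (p := 3) hc hx
  have key : ∀ a b : ℕ, a < 3 → b < 3 → (¬ 3 ∣ a.choose b ↔ b ≤ a) := by
    intro a b ha hb
    interval_cases a <;> interval_cases b <;> decide
  rw [Nat.ModEq.dvd_iff h (dvd_refl 3), Prime.dvd_finsetProd_iff Nat.prime_three.prime]
  push Not
  constructor
  · intro h1 i hi
    exact (key _ _ (dg_lt c i) (dg_lt x i)).1 (h1 i (Finset.mem_range.2 hi))
  · intro h1 i hi
    exact (key _ _ (dg_lt c i) (dg_lt x i)).2 (h1 i (Finset.mem_range.1 hi))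

/-- `(3^r - 1) / 2` -/
def H : ℕ → ℕ
  | 0 => 0
  | r + 1 => 3 * H r + 1

theorem two_H (r : ℕ) : 2 * H r + 1 = 3 ^ r := by
  induction r with
  | zero => rfl
  | succ r ih => rw [H, pow_succ, ← ih]; ring

theorem H_lt (r : ℕ) : H r < 3 ^ r := by have := two_H r; omega

theorem H_add (a b : ℕ) : H (a + b) = 3 ^ a * H b + H a := by
  have h1 := two_H (a + b)
  have h2 := two_H a
  have h3 := two_H b
  have h4 : 2 * H (a + b) + 1 = 2 * (3 ^ a * H b + H a) + 1 := by
    rw [h1, pow_add, ← h3]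
    calc 3 ^ a * (2 * H b + 1) = 2 * (3 ^ a * H b) + 3 ^ a := by ring
      _ = 2 * (3 ^ a * H b) + (2 * H a + 1) := by rw [h2]
      _ = 2 * (3 ^ a * H b + H a) + 1 := by ring
  omega

theorem dg_H {n i : ℕ} (hi : i < n) : dg (H n) i = 1 := by
  obtain ⟨b, rfl⟩ := Nat.exists_eq_add_of_lt hi
  rw [dg, show i + b + 1 = i + (b + 1) by ring, H_add, Nat.mul_add_div (pow_pos (by norm_num) i),
    Nat.div_eq_of_lt (H_lt i), add_zero, H]
  omega

theorem dg_one_add {l : ℕ} (hl : l ≠ 0) (t : ℕ) :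
    dg (1 + 3 ^ l) t = if t = 0 ∨ t = l then 1 else 0 := by
  have h3 : (3 : ℕ) ^ l = 3 * 3 ^ (l - 1) := by
    rw [← pow_succ']; congr 1; omega
  have h1 : 1 < 3 ^ l := Nat.one_lt_pow hl (by norm_num)
  rcases Nat.eq_zero_or_pos t with rfl | ht
  · rw [if_pos (Or.inl rfl), dg, pow_zero, Nat.div_one, h3]
    omega
  · rcases lt_trichotomy t l with h | h | h
    · rw [if_neg (by omega), dg]
      have h4 : (3 : ℕ) ^ l = 3 ^ t * (3 * 3 ^ (l - t - 1)) := by
        rw [← pow_succ', ← pow_add]; congr 1; omega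
      have h5 : 1 < 3 ^ t := Nat.one_lt_pow (by omega) (by norm_num)
      rw [h4, add_comm, Nat.mul_add_div (by omega), Nat.div_eq_of_lt h5, add_zero]
      exact Nat.mul_mod_right _ _
    · rw [if_pos (Or.inr h), dg, h]
      have h4 : (1 + 3 ^ l) / 3 ^ l = 1 := by
        rw [Nat.add_div_right _ (by omega), Nat.div_eq_of_lt h1]
      rw [h4]
    · rw [if_neg (by omega), dg]
      have h4 : 3 ^ (l + 1) ≤ 3 ^ t := Nat.pow_le_pow_right (by norm_num) h
      have h5 : 1 + 3 ^ l < 3 ^ t := by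
        refine lt_of_lt_of_le ?_ h4
        rw [pow_succ]; omega
      rw [Nat.div_eq_of_lt h5]

theorem mod_of_dg {x p : ℕ} (h : dg x p = 0) : x % 3 ^ (p + 1) = x % 3 ^ p := by
  rw [Nat.mod_pow_succ]
  rw [dg] at h
  rw [h, mul_zero, add_zero]

/-- no collision when a digit of `c` vanishes -/
theorem no_shift {n p x : ℕ} (hp : p < n) (h1 : dg x p = 0) (h2 : dg (x + H n) p = 0) : False := by
  have h3 := mod_of_dg h1
  have h4 := mod_of_dg h2
  have h5 : H n = 3 ^ (p + 1) * H (n - p - 1) + H (p + 1) := by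
    rw [← H_add]; congr 1; omega
  have h6 : H (p + 1) = 3 ^ p + H p := by
    rw [H_add, H, H]; ring
  have h7 : (x + H n) % 3 ^ (p + 1) = x % 3 ^ p + (3 ^ p + H p) := by
    rw [h5, ← add_assoc, add_comm x, add_assoc, Nat.add_comm (3 ^ (p + 1) * H (n - p - 1)),
      Nat.add_mul_mod_self_left, Nat.add_mod, h3, h6, Nat.mod_eq_of_lt (a := 3 ^ p + H p)]
    · apply Nat.mod_eq_of_lt
      have h8 : x % 3 ^ p < 3 ^ p := Nat.mod_lt _ (pow_pos (by norm_num) p)
      have h9 := H_lt p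
      rw [pow_succ]; omega
    · have h9 := H_lt p
      rw [pow_succ]; omega
  have h8 : (x + H n) % 3 ^ p < 3 ^ p := Nat.mod_lt _ (pow_pos (by norm_num) p)
  rw [h4] at h7
  omega

/-- uniqueness of `δ` -/
theorem no_collision {n p c x y : ℕ} (hc : c < 3 ^ n) (hp : p < n) (hcp : dg c p = 0)
    (hx : x ≤ c) (hy : y ≤ c) (hcx : ¬ 3 ∣ c.choose x) (hcy : ¬ 3 ∣ c.choose y)
    (h : red (3 ^ n) (2 * x) = red (3 ^ n) (2 * y)) : x = y := by
  have key : ∀ {x y : ℕ}, x ≤ c → y ≤ c → ¬ 3 ∣ c.choose x → ¬ 3 ∣ c.choose y →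
      red (3 ^ n) (2 * x) = red (3 ^ n) (2 * y) → x ≤ y → x = y := by
    intro x y hx hy hcx hcy h hxy
    have hH := two_H n
    have hdx : dg x p = 0 := by
      have := (choose_ne hc (lt_of_le_of_lt hx hc)).1 hcx p hp
      omega
    have hdy : dg y p = 0 := by
      have := (choose_ne hc (lt_of_le_of_lt hy hc)).1 hcy p hp
      omega
    by_cases hx0 : x = 0
    · subst hx0
      rw [mul_zero, red_zero] at h
      by_contra hne
      exact red_ne_zero (q := 3 ^ n) (n := 2 * y) (by omega) h.symm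
    · have hq : 3 ^ n - 1 = 2 * H n := by omega
      have h1 : 2 * x ≡ 2 * y [MOD 2 * H n] := by
        rw [← hq]
        exact (red_modEq (3 ^ n) (2 * x)).symm.trans (h ▸ red_modEq (3 ^ n) (2 * y))
      have h2 : x ≡ y [MOD H n] := by
        have := Nat.ModEq.mul_left_cancel' (c := 2) (by norm_num) h1
        exact this
      have h3 : H n ∣ y - x := (Nat.modEq_iff_dvd' hxy).1 h2
      obtain ⟨d, hd⟩ := h3
      have hHpos : 0 < H n := by
        have : 3 ^ 1 ≤ 3 ^ n := Nat.pow_le_pow_right (by norm_num) (by omega)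
        omega
      have hd2 : d < 2 := by
        by_contra hcon
        have : H n * 2 ≤ H n * d := Nat.mul_le_mul_left _ (by omega)
        omega
      interval_cases d
      · omega
      · exfalso
        have h5 : y = x + H n := by omega
        rw [h5] at hdy
        exact no_shift hp hdx hdy
  rcases le_total x y with h1 | h1
  · exact key hx hy hcx hcy h h1
  · exact (key hy hx hcy hcx h.symm h1).symm

theorem card4 {a b c d : ℕ} (hab : a < b) (hbc : b < c) (hcd : c < d) :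
    (SS 3 (3 ^ a + (3 ^ b + (3 ^ c + 3 ^ d)))).card = 16 := by
  have h1 : ∀ t, (SS 3 (3 ^ t)).card = 2 := by
    intro t
    have := card_SS_digit (p := 3) (c := 1) (by norm_num) t
    rwa [mul_one] at this
  have hlt : ∀ {x y : ℕ}, x < y → 3 ^ x < 3 ^ y := fun h => Nat.pow_lt_pow_right (by norm_num) h
  rw [card_SS_add (hlt hab), card_SS_add (hlt hbc), card_SS_add (hlt hcd) (dvd_refl _), h1, h1, h1, h1]
  · exact Dvd.dvd.add (dvd_refl _) (pow_dvd_pow 3 hcd.le) |>.trans (dvd_refl _)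
  · exact (dvd_refl _).add ((pow_dvd_pow 3 hbc.le).add (pow_dvd_pow 3 (hbc.le.trans hcd.le)))

end Cfsg.Agent.H909.ReeKer
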