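import Mathlib
import Cfsg.Agent.H909.ReeDig
import Cfsg.Agent.H141.ReeK.Poly

/-!
# The kernel of the Ree groups: functionals with power function values (helper909)
-/

set_option autoImplicit false
set_option linter.unusedSectionVars false

namespace Cfsg.Agent.H909.ReeKer

open Cfsg.Agent.H875.Fn Cfsg.Agent.H909.Sp4Ker

universe u v w

variable {E : Type u} [Field E] [Fintype E] {k : Type v} [Field k] (j : E →+* k)
variable {V : Type w} [AddCommGroup V] [Module k V]

/-- functionals with pairwise distinct power functions as values -/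
theorem le_of_powers [FiniteDimensional k V] {ι : Type*} [Fintype ι] (g : ι → Module.Dual k V) (w : E → V)
    (a : ι → k) (n : ι → ℕ) (ha : ∀ i, a i ≠ 0) (h : ∀ i y, g i (w y) = a i * j y ^ n i)
    (hn : Function.Injective fun i => red (Fintype.card E) (n i)) :
    Fintype.card ι ≤ Module.finrank k V := by
  classical
  have hq := two_le_card (E := E)
  refine le_of_biorth (fun i => (a i)⁻¹ • g i)
    (fun l => ∑ y : E, be j (red (Fintype.card E) (n l)) y • w y) one_ne_zero fun i l => ?_
  rw [LinearMap.smul_apply, map_sum, smul_eq_mul]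
  have h1 : ∀ y : E, g i (be j (red (Fintype.card E) (n l)) y • w y) =
      a i * (be j (red (Fintype.card E) (n l)) y * j y ^ red (Fintype.card E) (n i)) := by
    intro y
    rw [map_smul, smul_eq_mul, h, ← map_pow, pow_red y (n i), map_pow]
    ring
  simp only [h1]
  rw [← Finset.mul_sum, sum_be j (red_le hq _) (red_le hq _), ← mul_assoc, inv_mul_cancel₀ (ha i), one_mul]
  by_cases h2 : i = l
  · rw [if_pos h2, h2, if_pos rfl]
  · rw [if_neg h2, if_neg]
    intro h3
    exact h2 (hn h3.symm)

/-- a kernel which is a polynomial in `t t'` -/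
theorem curve_le [FiniteDimensional k V] {ι : Type*} [Fintype ι] (f : E → Module.Dual k V) (w : E → V)
    (a : ι → k) (n : ι → ℕ) (S : Finset ι) (h : ∀ t t', f t (w t') = ∑ i, a i * j (t * t') ^ n i)
    (ha : ∀ i ∈ S, a i ≠ 0)
    (hS : ∀ i ∈ S, ∀ l, red (Fintype.card E) (n i) = red (Fintype.card E) (n l) → i = l) :
    S.card ≤ Module.finrank k V := by
  classical
  have hq := two_le_card (E := E)
  rw [← Fintype.card_coe]
  refine le_of_powers j (fun i : S => ∑ t : E, be j (red (Fintype.card E) (n i)) t • f t) w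
    (fun i : S => a i) (fun i : S => n i) (fun i => ha i i.2) (fun i y => ?_)
    (fun i l hil => Subtype.ext (hS i i.2 l hil))
  rw [LinearMap.sum_apply]
  have h1 : ∀ t : E, (be j (red (Fintype.card E) (n i)) t • f t) (w y) =
      ∑ l : ι, (a l * j y ^ n l) * (be j (red (Fintype.card E) (n i)) t * j t ^ red (Fintype.card E) (n l)) := by
    intro t
    rw [LinearMap.smul_apply, smul_eq_mul, h, Finset.mul_sum]
    refine Finset.sum_congr rfl fun l _ => ?_
    rw [map_mul, mul_pow, ← map_pow j t (n l), pow_red t (n l), map_pow]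
    ring
  simp only [h1]
  rw [Finset.sum_comm]
  rw [Finset.sum_eq_single (i : ι)]
  · rw [← Finset.mul_sum, sum_be j (red_le hq _) (red_le hq _), if_pos rfl, mul_one]
  · intro l _ hl
    rw [← Finset.mul_sum, sum_be j (red_le hq _) (red_le hq _), if_neg, mul_zero]
    intro h3
    exact hl (hS i i.2 l h3).symm
  · intro h3
    exact absurd (Finset.mem_univ _) h3

/-- the functionals for the rows `(0, u, v)` -/
theorem exists_fun [CharP k 3] {e c : ℕ} (f : E → E → Module.Dual k V) (w : E → V)
    (h : ∀ u v y, f u v (w y) = j ((1 - u * y) ^ (1 + e) + v ^ 2 * y ^ (1 + e)) ^ c)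
    {δ κ : ℕ} (hδ : δ ≤ c) (hκ : κ ∈ SS 3 (red (Fintype.card E) ((1 + e) * (c - δ))))
    (hcol : ∀ δ' ≤ c, ¬ 3 ∣ c.choose δ' → red (Fintype.card E) (2 * δ') = red (Fintype.card E) (2 * δ) →
      δ' = δ ∨ (δ' = c ∧ κ ≠ 0)) :
    ∃ G : Module.Dual k V, ∀ y, G (w y) = (c.choose δ : k) * j y ^ ((1 + e) * δ + κ) := by
  classical
  have hq := two_le_card (E := E)
  obtain ⟨α, hα⟩ := exists_al j 3 ((1 + e) * (c - δ)) hκ
  refine ⟨∑ t : E, ∑ v : E, (α t * be j (red (Fintype.card E) (2 * δ)) v) • f (-t) v, fun y => ?_⟩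
  have h1 : ∀ t v : E, ((α t * be j (red (Fintype.card E) (2 * δ)) v) • f (-t) v) (w y) =
      ∑ d ∈ Finset.range (c + 1), (α t * j (1 + y * t) ^ ((1 + e) * (c - d))) * ((c.choose d : k) *
        j y ^ ((1 + e) * d)) * (be j (red (Fintype.card E) (2 * δ)) v *
          j v ^ red (Fintype.card E) (2 * d)) := by
    intro t v
    rw [LinearMap.smul_apply, smul_eq_mul, h, map_add, add_comm (j ((1 - -t * y) ^ (1 + e))), add_pow,
      Finset.mul_sum]
    refine Finset.sum_congr rfl fun d _ => ?_
    have h2 : j (v ^ 2 * y ^ (1 + e)) ^ d = j y ^ ((1 + e) * d) * j v ^ red (Fintype.card E) (2 * d) := by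
      rw [← map_pow j v (red _ _), ← pow_red v (2 * d), map_pow, map_mul, map_pow, map_pow, mul_pow,
        ← pow_mul, ← pow_mul, mul_comm]
    have h3 : j ((1 - -t * y) ^ (1 + e)) ^ (c - d) = j (1 + y * t) ^ ((1 + e) * (c - d)) := by
      rw [map_pow, ← pow_mul]
      congr 2
      ring
    rw [h2, h3]
    ring
  rw [LinearMap.sum_apply]
  simp only [LinearMap.sum_apply, h1]
  have h4 : ∀ t : E, ∑ v : E, ∑ d ∈ Finset.range (c + 1),
      (α t * j (1 + y * t) ^ ((1 + e) * (c - d))) * ((c.choose d : k) *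
        j y ^ ((1 + e) * d)) * (be j (red (Fintype.card E) (2 * δ)) v *
          j v ^ red (Fintype.card E) (2 * d)) =
      ∑ d ∈ Finset.range (c + 1), (α t * j (1 + y * t) ^ ((1 + e) * (c - d))) * ((c.choose d : k) *
        j y ^ ((1 + e) * d)) * (if red (Fintype.card E) (2 * δ) = red (Fintype.card E) (2 * d) then 1 else 0) := by
    intro t
    rw [Finset.sum_comm]
    refine Finset.sum_congr rfl fun d _ => ?_
    rw [← Finset.mul_sum, sum_be j (red_le hq _) (red_le hq _)]
  simp only [h4]
  rw [Finset.sum_comm]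
  rw [Finset.sum_eq_single δ]
  · simp only [if_true, mul_one]
    rw [← Finset.sum_mul, hα, pow_add]
    ring
  · intro d hd hne
    rw [Finset.mem_range] at hd
    by_cases h5 : red (Fintype.card E) (2 * δ) = red (Fintype.card E) (2 * d)
    · by_cases h6 : 3 ∣ c.choose d
      · have h7 : (c.choose d : k) = 0 := (CharP.cast_eq_zero_iff k 3 _).2 h6
        simp only [h7, zero_mul, mul_zero, Finset.sum_const_zero]
      · rcases hcol d (by omega) h6 h5.symm with h8 | ⟨h8, h9⟩
        · exact absurd h8 hne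
        · have h10 := hα 0
          simp only [zero_mul, add_zero, map_one, one_pow, mul_one, map_zero, zero_pow h9] at h10
          rw [h8]
          simp only [Nat.sub_self, mul_zero, pow_zero, mul_one]
          rw [← Finset.sum_mul, ← Finset.sum_mul, h10, zero_mul, zero_mul]
    · simp only [h5, if_false, mul_zero, Finset.sum_const_zero]
  · intro h5
    exact absurd (Finset.mem_range.2 (by omega)) h5

end Cfsg.Agent.H909.ReeKer
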