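import Mathlib
import Cfsg.Agent.H909.ReeBase

/-!
# The kernel of the Ree groups: the formulas and the curve `(t, 0, 0)` (helper909)
-/

set_option autoImplicit false
set_option linter.unusedSectionVars false

namespace Cfsg.Agent.H909.ReeKer

open Cfsg.Agent.H875.Fn Cfsg.Agent.H909.Sp4Ker Cfsg.Agent.H141.ReeK

universe u v w

section formulas

variable {K : Type u} [Field K]

theorem ker_uv {e : ℕ} (he : e ≠ 0) (u v y : K) :
    ker e 0 u v 0 y 0 = 1 - u * y - u ^ e * y ^ e + u * y * (u ^ e * y ^ e) + (v ^ e) ^ 2 * y ^ (1 + e) := by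
  rw [ker, Fin.sum_univ_seven]
  simp [frow, fcol, Fin.rev, zero_pow he]
  ring

theorem ker_uv' [CharP K 3] {m : ℕ} (u V y : K) (hV : V ^ (3 ^ m * 3 ^ m * 3) = V) :
    ker (3 ^ m) 0 u (V ^ (3 ^ m * 3)) 0 y 0 =
      (1 - u * y) ^ (1 + 3 ^ m) + V ^ 2 * y ^ (1 + 3 ^ m) := by
  rw [ker_uv (pow_ne_zero _ (by norm_num)), ← pow_mul V, show 3 ^ m * 3 * 3 ^ m = 3 ^ m * 3 ^ m * 3 by ring, hV]
  congr 1
  rw [pow_add, pow_one, sub_pow_char_pow, one_pow, mul_pow]
  ring

theorem ker_t {e : ℕ} (he : e ≠ 0) (t t' : K) :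
    ker e t 0 0 t' 0 0 = 1 - (t * t') ^ e - (t * t') * ((t * t') ^ e) ^ 3 + (t * t') ^ 2 * ((t * t') ^ e) ^ 3 +
      (t * t') ^ 2 * ((t * t') ^ e) ^ 4 := by
  rw [ker, Fin.sum_univ_seven]
  simp [frow, fcol, Fin.rev, zero_pow he]
  ring

end formulas

/-! ### the exponents on the curve -/

def A2 : Fin 13 → ℕ := ![0, 0, 0, 1, 2, 1, 2, 2, 3, 4, 3, 4, 4]
def B2 : Fin 13 → ℕ := ![0, 1, 2, 3, 3, 4, 5, 6, 6, 6, 7, 7, 8]

def A18 : Fin 18 → ℕ := ![0, 1, 0, 1, 1, 2, 3, 2, 3, 4, 5, 3, 4, 5, 4, 6, 5, 6]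
def B18 : Fin 18 → ℕ := ![0, 0, 1, 1, 3, 3, 3, 4, 6, 6, 6, 7, 7, 7, 9, 9, 10, 10]

theorem mono2 {e : ℕ} (he : 9 ≤ e) : StrictMono fun i => A2 i + B2 i * e := by
  rw [Fin.strictMono_iff_lt_succ]
  intro i
  fin_cases i <;> simp [A2, B2] <;> omega

theorem mono18 {e : ℕ} (he : 9 ≤ e) : StrictMono fun i => A18 i + B18 i * e := by
  rw [Fin.strictMono_iff_lt_succ]
  intro i
  fin_cases i <;> simp [A18, B18] <;> omega

theorem le2 {e q : ℕ} (he : 9 ≤ e) (hq : q = 3 * (e * e)) (i : Fin 13) : A2 i + B2 i * e ≤ q - 1 := by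
  have h1 : 27 * e ≤ 3 * (e * e) := by nlinarith
  fin_cases i <;> simp [A2, B2] <;> omega

theorem le18 {e q : ℕ} (he : 9 ≤ e) (hq : q = 3 * (e * e)) (i : Fin 18) : A18 i + B18 i * e ≤ q - 1 := by
  have h1 : 27 * e ≤ 3 * (e * e) := by nlinarith
  fin_cases i <;> simp [A18, B18] <;> omega

theorem inj2_three : ∀ i l : Fin 13, red 27 (A2 i + B2 i * 3) = red 27 (A2 l + B2 l * 3) → i = l := by
  decide

theorem inj18_three : ∀ i l : Fin 18, i ≠ 4 → i ≠ 17 →
    red 27 (A18 i + B18 i * 3) = red 27 (A18 l + B18 l * 3) → i = l := by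
  decide

section curve

variable {K : Type u} [Field K] [Fintype K] {k : Type v} [Field k] (j : K →+* k)
variable {V : Type w} [AddCommGroup V] [Module k V] [FiniteDimensional k V]

theorem three_pow_cases {m : ℕ} (hm : 1 ≤ m) : (m = 1) ∨ 9 ≤ 3 ^ m := by
  rcases Nat.eq_or_lt_of_le hm with h | h
  · exact Or.inl h.symm
  · exact Or.inr (by
      calc 9 = 3 ^ 2 := by norm_num
        _ ≤ 3 ^ m := Nat.pow_le_pow_right (by norm_num) h)

theorem t_two [CharP k 3] {m : ℕ} (hm : 1 ≤ m) (hK : Fintype.card K = 3 ^ (2 * m + 1))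
    (f : K → Module.Dual k V) (w : K → V)
    (h : ∀ t t', f t (w t') = j (ker (3 ^ m) t 0 0 t' 0 0) ^ 2) : 13 ≤ Module.finrank k V := by
  have h2 : (2 : k) ≠ 0 := by
    intro h0
    have h1 : ((2 : ℕ) : k) = 0 := by exact_mod_cast h0
    rw [CharP.cast_eq_zero_iff k 3] at h1
    omega
  have h0 : (3 : ℕ) ^ m ≠ 0 := pow_ne_zero _ (by norm_num)
  have hq : Fintype.card K = 3 * (3 ^ m * 3 ^ m) := by rw [hK, pow_succ, two_mul, pow_add]; ring
  have h1 := curve_le j f w (![1, -2, 1, -2, 2, 2, -2, 1, -2, 1, -2, 2, 1] : Fin 13 → k)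
    (fun i => A2 i + B2 i * 3 ^ m) Finset.univ (by
      intro t t'
      rw [h, ker_t h0]
      simp only [map_add, map_sub, map_mul (f := j) _ ((_ : K) ^ 3), map_mul (f := j) _ ((_ : K) ^ 4), map_pow,
        map_one]
      generalize j (t * t') = x
      simp only [pow_add, mul_comm (B2 _), pow_mul x]
      generalize x ^ 3 ^ m = y
      simp [Fin.sum_univ_succ, A2, B2]
      ring) (by
      intro i _
      fin_cases i <;> simp [h2]) (by
      intro i _ l hil
      rcases three_pow_cases hm with rfl | h9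
      · apply inj2_three
        rw [hK] at hil
        exact hil
      · rw [red_eq (le2 h9 hq i), red_eq (le2 h9 hq l)] at hil
        exact (mono2 h9).injective hil)
  rwa [Finset.card_univ, Fintype.card_fin] at h1

theorem t_succ [CharP k 3] {m : ℕ} (hm : 1 ≤ m) (hK : Fintype.card K = 3 ^ (2 * m + 1))
    (f : K → Module.Dual k V) (w : K → V)
    (h : ∀ t t', f t (w t') = j (ker (3 ^ m) t 0 0 t' 0 0) ^ (1 + 3 ^ (m + 1))) : 13 ≤ Module.finrank k V := by
  have h2 : (2 : k) ≠ 0 := by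
    intro h0
    have h1 : ((2 : ℕ) : k) = 0 := by exact_mod_cast h0
    rw [CharP.cast_eq_zero_iff k 3] at h1
    omega
  have h0 : (3 : ℕ) ^ m ≠ 0 := pow_ne_zero _ (by norm_num)
  have hq : Fintype.card K = 3 * (3 ^ m * 3 ^ m) := by rw [hK, pow_succ, two_mul, pow_add]; ring
  have h13 : 13 ≤ ({4, 17}ᶜ : Finset (Fin 18)).card := by decide
  refine h13.trans (curve_le j f w (![1, -1, -1, 1, -1, 2, -2, 1, 1, 2, -1, -1, -1, -1, -1, 1, 1, 1] : Fin 18 → k)
    (fun i => A18 i + B18 i * 3 ^ m) ({4, 17}ᶜ : Finset (Fin 18)) (by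
      intro t t'
      rw [h, ker_t h0]
      have hx : j (t * t') ^ 3 ^ (2 * m + 1) = j (t * t') := by
        rw [← map_pow, ← hK, FiniteField.pow_card]
      simp only [map_add, map_sub, map_mul (f := j) _ ((_ : K) ^ 3), map_mul (f := j) _ ((_ : K) ^ 4), map_pow,
        map_one]
      revert hx
      generalize j (t * t') = x
      intro hx
      simp only [pow_add _ (A18 _), mul_comm (B18 _), pow_mul x]
      have hy1 : (x ^ 3 ^ m) ^ 3 ^ (m + 1) = x := by
        rw [← pow_mul, ← pow_add, show m + (m + 1) = 2 * m + 1 by ring, hx]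
      have hy2 : x ^ 3 ^ (m + 1) = (x ^ 3 ^ m) ^ 3 := by
        rw [← pow_mul, pow_succ]
      rw [pow_add _ 1, pow_one, add_pow_char_pow, add_pow_char_pow, sub_pow_char_pow, sub_pow_char_pow, mul_pow,
        mul_pow, mul_pow, one_pow, pow_right_comm (x ^ 3 ^ m) 3, pow_right_comm (x ^ 3 ^ m) 4,
        pow_right_comm x 2, hy1, hy2]
      generalize x ^ 3 ^ m = y
      simp [Fin.sum_univ_succ, A18, B18]
      ring) (by
      intro i _
      fin_cases i <;> simp [h2]) (by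
      intro i hi l hil
      rw [Finset.mem_compl, Finset.mem_insert, Finset.mem_singleton, not_or] at hi
      rcases three_pow_cases hm with rfl | h9
      · apply inj18_three i l hi.1 hi.2
        rw [hK] at hil
        exact hil
      · rw [red_eq (le18 h9 hq i), red_eq (le18 h9 hq l)] at hil
        exact (mono18 h9).injective hil))

end curve

end Cfsg.Agent.H909.ReeKer
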