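import Mathlib
import Cfsg.Agent.H909.ReeKer

/-!
# The exponents for the Ree groups, dimension at most 12 (helper909)
-/

set_option autoImplicit false
set_option linter.unusedSectionVars false

namespace Cfsg.Agent.H909.ReeKer

open Cfsg.Agent.H875.Fn Cfsg.Agent.H909.Sp4Ker Cfsg.Agent.H141.ReeK

universe u v w

/-! ### digits -/

theorem eq_dg_zero {n c : ℕ} (hn : 1 ≤ n) (hc : c < 3 ^ n) (h : ∀ l, 1 ≤ l → l < n → dg c l = 0) :
    c = dg c 0 := by
  have h1 : ∀ l, l < n → c % 3 ^ (l + 1) = c % 3 := by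
    intro l
    induction l with
    | zero => intro _; rw [zero_add, pow_one]
    | succ l ih =>
      intro hl
      rw [mod_of_dg (h (l + 1) (by omega) hl), ih (by omega)]
  have h2 := h1 (n - 1) (by omega)
  rw [Nat.sub_add_cancel hn, Nat.mod_eq_of_lt hc] at h2
  rw [dg, pow_zero, Nat.div_one]
  exact h2

theorem dg_pred {n i : ℕ} (hi : i < n) : dg (3 ^ n - 1) i = 2 := by
  have h1 : 3 ^ n - 1 = 3 ^ i * (3 ^ (n - i) - 1) + (3 ^ i - 1) := by
    have h2 : 3 ^ n = 3 ^ i * 3 ^ (n - i) := by rw [← pow_add]; congr 1; omega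
    have h3 : 1 ≤ 3 ^ i := Nat.one_le_pow _ _ (by norm_num)
    have h4 : 3 ^ i * 1 ≤ 3 ^ i * 3 ^ (n - i) := Nat.mul_le_mul_left _ (Nat.one_le_pow _ _ (by norm_num))
    rw [h2, Nat.mul_sub, mul_one]
    omega
  have h3 : 1 ≤ 3 ^ i := Nat.one_le_pow _ _ (by norm_num)
  have h4 : 3 ^ (n - i) = 3 * 3 ^ (n - i - 1) := by rw [← pow_succ']; congr 1; omega
  have h5 : 1 ≤ 3 ^ (n - i - 1) := Nat.one_le_pow _ _ (by norm_num)
  rw [dg, h1, Nat.mul_add_div (by omega), Nat.div_eq_of_lt (a := 3 ^ i - 1) (by omega)]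
  omega

theorem dg_zero_ne {c : ℕ} (h : ¬ 3 ∣ c) : dg c 0 ≠ 0 := by
  rw [dg, pow_zero, Nat.div_one]
  omega

/-- three digits `1, 1, 2` or a permutation -/
theorem card3 {a b c x y z : ℕ} (hab : a < b) (hbc : b < c) (hx : x < 3) (hy : y < 3) (hz : z < 3) :
    (SS 3 (3 ^ a * x + (3 ^ b * y + 3 ^ c * z))).card = (x + 1) * ((y + 1) * (z + 1)) := by
  have h1 : ∀ {x y : ℕ} (c : ℕ), c < 3 → x < y → 3 ^ x * c < 3 ^ y := by
    intro x y c hc h
    calc 3 ^ x * c < 3 ^ x * 3 := Nat.mul_lt_mul_of_pos_left hc (pow_pos (by norm_num) x)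
      _ = 3 ^ (x + 1) := (pow_succ 3 x).symm
      _ ≤ 3 ^ y := Nat.pow_le_pow_right (by norm_num) h
  rw [card_SS_add (h1 x hx hab) (((dvd_refl _).mul_right y).add ((pow_dvd_pow 3 hbc.le).mul_right z)),
    card_SS_add (h1 y hy hbc) ((dvd_refl _).mul_right z), card_SS_digit hx, card_SS_digit hy, card_SS_digit hz]

/-- the exponent `(1 + 3 ^ m) (1 + 3 ^ l)` -/
theorem red_case {m l : ℕ} (hm : 1 ≤ m) (hl : 1 ≤ l) (hl2 : l < 2 * m + 1) :
    red (3 ^ (2 * m + 1)) ((1 + 3 ^ m) * (1 + 3 ^ l)) < 3 ^ (2 * m + 1) - 1 ∧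
    12 ≤ (SS 3 (red (3 ^ (2 * m + 1)) ((1 + 3 ^ m) * (1 + 3 ^ l)))).card ∧
    (l ≠ m → l ≠ m + 1 → 13 ≤ (SS 3 (red (3 ^ (2 * m + 1)) ((1 + 3 ^ m) * (1 + 3 ^ l)))).card) := by
  have hlt : ∀ {x y : ℕ}, x < y → 3 * 3 ^ x ≤ 3 ^ y := by
    intro x y h
    rw [← pow_succ']
    exact Nat.pow_le_pow_right (by norm_num) h
  rcases lt_trichotomy l m with h | h | h
  · -- positions `0, l, m, m + l`
    have h1 : (1 + 3 ^ m) * (1 + 3 ^ l) = 3 ^ 0 + (3 ^ l + (3 ^ m + 3 ^ (m + l))) := by
      rw [pow_add]; ring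
    have h2 := hlt (show 0 < l by omega)
    have h3 := hlt h
    have h4 := hlt (show m < m + l by omega)
    have h5 := hlt (show m + l < 2 * m + 1 by omega)
    have h6 : (3 : ℕ) ^ 0 = 1 := pow_zero 3
    have h7 := card4 (show 0 < l by omega) h (show m < m + l by omega)
    rw [h1, red_eq (by omega), h7]
    exact ⟨by omega, by norm_num, fun _ _ => by norm_num⟩
  · subst h
    have h1 : (1 + 3 ^ l) * (1 + 3 ^ l) = 3 ^ 0 * 1 + (3 ^ l * 2 + 3 ^ (2 * l) * 1) := by
      rw [two_mul, pow_add]; ring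
    have h2 := hlt (show 0 < l by omega)
    have h3 := hlt (show l < 2 * l by omega)
    have h4 := hlt (show 2 * l < 2 * l + 1 by omega)
    have h6 : (3 : ℕ) ^ 0 = 1 := pow_zero 3
    have h7 := card3 (x := 1) (y := 2) (z := 1) (show 0 < l by omega) (show l < 2 * l by omega)
      (by norm_num) (by norm_num) (by norm_num)
    rw [h1, red_eq (by omega), h7]
    exact ⟨by omega, by norm_num, fun h _ => absurd rfl h⟩
  · obtain ⟨r, rfl⟩ := Nat.exists_eq_add_of_lt h
    have h8 : 1 ≤ 3 ^ (2 * m + 1) := Nat.one_le_pow _ _ (by norm_num)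
    have h1 : red (3 ^ (2 * m + 1)) ((1 + 3 ^ m) * (1 + 3 ^ (m + r + 1))) =
        red (3 ^ (2 * m + 1)) (1 + (3 ^ r + (3 ^ m + 3 ^ (m + r + 1)))) := by
      apply red_congr
      · positivity
      · positivity
      · have h9 : (1 + 3 ^ m) * (1 + 3 ^ (m + r + 1)) =
            (1 + (3 ^ r + (3 ^ m + 3 ^ (m + r + 1)))) + (3 ^ (2 * m + 1) - 1) * 3 ^ r := by
          zify [h8]
          ring
        rw [h9]
        exact (Nat.modEq_zero_iff_dvd.2 (Dvd.intro _ rfl)).add_left _ |>.trans (by rw [add_zero])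
    rw [h1]
    rcases Nat.eq_zero_or_pos r with rfl | hr
    · have h2 : 1 + (3 ^ 0 + (3 ^ m + 3 ^ (m + 0 + 1))) = 3 ^ 0 * 2 + (3 ^ m * 1 + 3 ^ (m + 1) * 1) := by ring
      have h3 := hlt (show 0 < m by omega)
      have h4 := hlt (show m < m + 1 by omega)
      have h5 := hlt (show m + 1 < 2 * m + 1 by omega)
      have h6 : (3 : ℕ) ^ 0 = 1 := pow_zero 3
      have h7 := card3 (x := 2) (y := 1) (z := 1) (show 0 < m by omega) (show m < m + 1 by omega)
        (by norm_num) (by norm_num) (by norm_num)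
      rw [h2, red_eq (by omega), h7]
      exact ⟨by omega, by norm_num, fun _ h => absurd rfl h⟩
    · have h2 : 1 + (3 ^ r + (3 ^ m + 3 ^ (m + r + 1))) = 3 ^ 0 + (3 ^ r + (3 ^ m + 3 ^ (m + r + 1))) := by
        rw [pow_zero]
      have h3 := hlt hr
      have h4 := hlt (show r < m by omega)
      have h5 := hlt (show m < m + r + 1 by omega)
      have h6 := hlt (show m + r + 1 < 2 * m + 1 by omega)
      have h9 : (3 : ℕ) ^ 0 = 1 := pow_zero 3
      have h7 := card4 hr (show r < m by omega) (show m < m + r + 1 by omega)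
      rw [h2, red_eq (by omega), h7]
      exact ⟨by omega, by norm_num, fun _ _ => by norm_num⟩

theorem inj_aux {q D x y : ℕ} (hx : x < q - 1) (hy : y < q - 1) (h : red q (D + x) = red q (D + y)) : x = y := by
  have h1 : D + x ≡ D + y [MOD q - 1] := (red_modEq q (D + x)).symm.trans (h ▸ red_modEq q (D + y))
  exact Nat.ModEq.eq_of_lt_of_lt (Nat.ModEq.add_left_cancel' D h1) hx hy

/-- the collisions when no digit of `c` vanishes -/
theorem collision {n c x : ℕ} (hc : c ≤ 3 ^ n - 1) (hHc : H n ≤ c) (hx : x ≤ c)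
    (h : red (3 ^ n) (2 * x) = red (3 ^ n) (2 * (c - H n))) : x = c - H n ∨ x = c := by
  have hH := two_H n
  have hq : 3 ^ n - 1 = 2 * H n := by omega
  by_cases hx0 : x = 0
  · left
    rw [hx0, mul_zero, red_zero] at h
    by_contra hne
    exact red_ne_zero (q := 3 ^ n) (n := 2 * (c - H n)) (by omega) h.symm
  by_cases hδ0 : c - H n = 0
  · rw [hδ0, mul_zero, red_zero] at h
    exact absurd h (red_ne_zero (by omega))
  have h1 : 2 * x ≡ 2 * (c - H n) [MOD 2 * H n] := by
    rw [← hq]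
    exact (red_modEq (3 ^ n) (2 * x)).symm.trans (h ▸ red_modEq (3 ^ n) (2 * (c - H n)))
  have h2 : x ≡ c - H n [MOD H n] := Nat.ModEq.mul_left_cancel' (c := 2) (by norm_num) h1
  rcases le_total x (c - H n) with h3 | h3
  · left
    have h4 : H n ∣ c - H n - x := (Nat.modEq_iff_dvd' h3).1 h2
    have h5 : c - H n - x = 0 := Nat.eq_zero_of_dvd_of_lt h4 (by omega)
    omega
  · have h4 : H n ∣ x - (c - H n) := (Nat.modEq_iff_dvd' h3).1 h2.symm
    obtain ⟨d, hd⟩ := h4
    have hHpos : 0 < H n := by omega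
    have hd2 : d < 2 := by
      by_contra hcon
      have : H n * 2 ≤ H n * d := Nat.mul_le_mul_left _ (by omega)
      omega
    interval_cases d
    · left; omega
    · right; omega

section main

variable {K : Type u} [Field K] [Fintype K] {k : Type v} [Field k] (j : K →+* k)
variable {V : Type w} [AddCommGroup V] [Module k V] [FiniteDimensional k V]

theorem thirteen_le {m : ℕ} (hm : 1 ≤ m) (hK : Fintype.card K = 3 ^ (2 * m + 1)) {c : ℕ} (hc : 2 ≤ c)
    (hc3 : ¬ 3 ∣ c) (hcq : c ≤ Fintype.card K - 1) (f : K → K → K → Module.Dual k V) (w : K → K → K → V)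
    (h : ∀ t u v t' u' v', f t u v (w t' u' v') = j (ker (3 ^ m) t u v t' u' v') ^ c) :
    13 ≤ Module.finrank k V := by
  have h27 : 27 ≤ 3 ^ (2 * m + 1) := by
    calc 27 = 3 ^ 3 := by norm_num
      _ ≤ 3 ^ (2 * m + 1) := Nat.pow_le_pow_right (by norm_num) (by omega)
  have : CharP K 3 := charP_of_card_eq_prime_pow hK
  have : CharP k 3 := charP_of_injective_ringHom j.injective 3
  have hcq' : c < 3 ^ (2 * m + 1) := by omega
  have huv : ∀ u V y, f 0 u (V ^ (3 ^ m * 3)) (w 0 y 0) =
      j ((1 - u * y) ^ (1 + 3 ^ m) + V ^ 2 * y ^ (1 + 3 ^ m)) ^ c := by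
    intro u V y
    rw [h, ker_uv']
    rw [show 3 ^ m * 3 ^ m * 3 = Fintype.card K by rw [hK]; ring]
    exact FiniteField.pow_card V
  by_cases hall : ∀ p < 2 * m + 1, dg c p ≠ 0
  · -- no digit vanishes
    have hC : ¬ 3 ∣ c.choose (H (2 * m + 1)) := (choose_ne hcq' (H_lt _)).2 fun i hi => by
      rw [dg_H hi]
      exact Nat.one_le_iff_ne_zero.2 (hall i hi)
    have hHc : H (2 * m + 1) ≤ c := by
      by_contra hcon
      apply hC
      rw [Nat.choose_eq_zero_of_lt (by omega)]
      exact dvd_zero _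
    have hH2 := two_H (2 * m + 1)
    have hred : red (Fintype.card K) ((1 + 3 ^ m) * (c - (c - H (2 * m + 1)))) = 3 ^ (2 * m + 1) - 1 := by
      rw [hK, Nat.sub_sub_self hHc]
      have h1 : 2 * H (2 * m + 1) = 3 ^ (2 * m + 1) - 1 := by omega
      have h2 : (1 + 3 ^ m) * H (2 * m + 1) = (3 ^ (2 * m + 1) - 1) * (1 + H m) := by
        rw [← h1, ← two_H m]; ring
      rw [h2, red_congr (m := 3 ^ (2 * m + 1) - 1) _ (by omega), red_eq le_rfl]
      · exact (Nat.modEq_zero_iff_dvd.2 (Dvd.intro _ rfl)).trans (Nat.modEq_zero_iff_dvd.2 (dvd_refl _)).symm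
      · exact Nat.mul_ne_zero (by omega) (by omega)
    have hex : ∀ i : Fin 13, ∃ G : Module.Dual k V, ∀ y, G (w 0 y 0) = (c.choose (c - H (2 * m + 1)) : k) *
        j y ^ ((1 + 3 ^ m) * (c - H (2 * m + 1)) + ((i : ℕ) + 1)) := by
      intro i
      refine exists_fun j (fun u V => f 0 u (V ^ (3 ^ m * 3))) (fun y => w 0 y 0) huv
        (Nat.sub_le _ _) ?_ ?_
      · rw [hred, mem_SS']
        have := i.2
        refine (choose_ne (n := 2 * m + 1) (by omega) (by omega)).2 fun l hl => ?_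
        rw [dg_pred hl]
        have := dg_lt ((i : ℕ) + 1) l
        omega
      · intro d hd _ hcol
        rw [hK] at hcol
        rcases collision (by omega) hHc hd hcol with h1 | h1
        · exact Or.inl h1
        · exact Or.inr ⟨h1, by omega⟩
    choose G hG using hex
    have h1 := le_of_powers j G (fun y => w 0 y 0) (fun _ => (c.choose (c - H (2 * m + 1)) : k))
      (fun i => (1 + 3 ^ m) * (c - H (2 * m + 1)) + ((i : ℕ) + 1)) (fun _ => by
        rw [Nat.choose_symm hHc]
        intro h2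
        exact hC ((CharP.cast_eq_zero_iff k 3 _).1 h2)) hG (by
        intro i l hil
        rw [hK] at hil
        have := i.2
        have := l.2
        have h2 := inj_aux (by omega) (by omega) hil
        exact Fin.ext (by omega))
    rwa [Fintype.card_fin] at h1
  · push Not at hall
    obtain ⟨p, hp, hcp⟩ := hall
    by_cases hl : ∀ l, 1 ≤ l → l < 2 * m + 1 → dg c l = 0
    · have h1 := eq_dg_zero (by omega) hcq' hl
      have h2 := dg_lt c 0
      have h3 : c = 2 := by omega
      subst h3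
      exact t_two j hm hK (fun t => f t 0 0) (fun t => w t 0 0) fun t t' => h t 0 0 t' 0 0
    · push Not at hl
      obtain ⟨l, hl1, hl2, hcl⟩ := hl
      have h3l : 3 ^ (l + 1) ≤ 3 ^ (2 * m + 1) := Nat.pow_le_pow_right (by norm_num) hl2
      have h3l' : 3 ^ 1 ≤ 3 ^ l := Nat.pow_le_pow_right (by norm_num) hl1
      rw [pow_succ] at h3l
      have hC : ¬ 3 ∣ c.choose (1 + 3 ^ l) := (choose_ne hcq' (by omega)).2 fun i hi => by
        rw [dg_one_add (by omega)]
        split_ifs with h1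
        · rcases h1 with rfl | rfl
          · exact Nat.one_le_iff_ne_zero.2 (dg_zero_ne hc3)
          · exact Nat.one_le_iff_ne_zero.2 hcl
        · exact Nat.zero_le _
      have hcc : 1 + 3 ^ l ≤ c := by
        by_contra hcon
        apply hC
        rw [Nat.choose_eq_zero_of_lt (by omega)]
        exact dvd_zero _
      obtain ⟨hR, h12, h13⟩ := red_case hm hl1 hl2
      have hex : ∀ κ : SS 3 (red (3 ^ (2 * m + 1)) ((1 + 3 ^ m) * (1 + 3 ^ l))), ∃ G : Module.Dual k V,
          ∀ y, G (w 0 y 0) = (c.choose (c - (1 + 3 ^ l)) : k) *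
            j y ^ ((1 + 3 ^ m) * (c - (1 + 3 ^ l)) + (κ : ℕ)) := by
        intro κ
        refine exists_fun j (fun u V => f 0 u (V ^ (3 ^ m * 3))) (fun y => w 0 y 0) huv
          (Nat.sub_le _ _) ?_ ?_
        · rw [hK, Nat.sub_sub_self hcc]
          exact κ.2
        · intro d hd hCd hcol
          rw [hK] at hcol
          exact Or.inl (no_collision hcq' hp hcp hd (Nat.sub_le _ _) hCd
            (by rwa [Nat.choose_symm hcc]) hcol)
      choose G hG using hex
      have hκ : ∀ κ : SS 3 (red (3 ^ (2 * m + 1)) ((1 + 3 ^ m) * (1 + 3 ^ l))), (κ : ℕ) < 3 ^ (2 * m + 1) - 1 :=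
        fun κ => lt_of_le_of_lt (mem_SS.1 κ.2).1 hR
      have hCk : (c.choose (c - (1 + 3 ^ l)) : k) ≠ 0 := by
        rw [Nat.choose_symm hcc]
        intro h2
        exact hC ((CharP.cast_eq_zero_iff k 3 _).1 h2)
      by_cases hδ : c - (1 + 3 ^ l) = 0
      · by_cases hlm : l = m
        · subst hlm
          refine t_succ (j.comp (iterateFrobenius K 3 l)) hm hK (fun t => f t 0 0) (fun t => w t 0 0) fun t t' => ?_
          rw [h, RingHom.comp_apply, iterateFrobenius_def, show c = 1 + 3 ^ l by omega]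
          generalize ker (3 ^ l) t 0 0 t' 0 0 = x
          have hx : x ^ 3 ^ (2 * l + 1) = x := by
            rw [← hK, FiniteField.pow_card]
          rw [← map_pow, ← map_pow]
          congr 1
          rw [pow_add, pow_add, pow_one, pow_one, ← pow_mul, ← pow_add 3, show l + (l + 1) = 2 * l + 1 by ring, hx,
            mul_comm]
        · by_cases hlm1 : l = m + 1
          · subst hlm1
            refine t_succ j hm hK (fun t => f t 0 0) (fun t => w t 0 0) fun t t' => ?_
            rw [h, show c = 1 + 3 ^ (m + 1) by omega]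
          · refine (h13 hlm hlm1).trans ?_
            rw [← Fintype.card_coe]
            exact le_of_powers j G (fun y => w 0 y 0) (fun _ => (c.choose (c - (1 + 3 ^ l)) : k))
              (fun κ => (1 + 3 ^ m) * (c - (1 + 3 ^ l)) + (κ : ℕ)) (fun _ => hCk) hG (by
              intro i l hil
              rw [hK] at hil
              exact Subtype.ext (inj_aux (hκ i) (hκ l) hil))
      · have h1 := le_of_powers j (ι := Option (SS 3 (red (3 ^ (2 * m + 1)) ((1 + 3 ^ m) * (1 + 3 ^ l)))))
          (fun o => o.elim (f 0 0 (0 ^ (3 ^ m * 3))) G) (fun y => w 0 y 0)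
          (fun o => o.elim 1 fun _ => (c.choose (c - (1 + 3 ^ l)) : k))
          (fun o => o.elim 0 fun κ => (1 + 3 ^ m) * (c - (1 + 3 ^ l)) + (κ : ℕ)) (by
            rintro (_ | κ)
            · exact one_ne_zero
            · exact hCk) (by
            rintro (_ | κ) y
            · change f 0 0 (0 ^ (3 ^ m * 3)) (w 0 y 0) = 1 * j y ^ 0
              rw [huv]
              simp
            · exact hG κ y) (by
            rintro (_ | κ) (_ | κ') hil
            · rfl
            · exfalso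
              change red _ 0 = red _ ((1 + 3 ^ m) * (c - (1 + 3 ^ l)) + (κ' : ℕ)) at hil
              rw [red_zero] at hil
              refine red_ne_zero ?_ hil.symm
              have : 0 < (1 + 3 ^ m) * (c - (1 + 3 ^ l)) := by positivity
              omega
            · exfalso
              change red _ ((1 + 3 ^ m) * (c - (1 + 3 ^ l)) + (κ : ℕ)) = red _ 0 at hil
              rw [red_zero] at hil
              refine red_ne_zero ?_ hil
              have : 0 < (1 + 3 ^ m) * (c - (1 + 3 ^ l)) := by positivity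
              omega
            · change red _ ((1 + 3 ^ m) * (c - (1 + 3 ^ l)) + (κ : ℕ)) =
                red _ ((1 + 3 ^ m) * (c - (1 + 3 ^ l)) + (κ' : ℕ)) at hil
              rw [hK] at hil
              rw [Subtype.ext (inj_aux (hκ κ) (hκ κ') hil)])
        rw [Fintype.card_option, Fintype.card_coe] at h1
        omega

/-- **The exponents for the Ree groups in dimension at most 12.** -/
theorem ree_bound {m : ℕ} (hm : 1 ≤ m) (hK : Fintype.card K = 3 ^ (2 * m + 1)) {c : ℕ} (hc1 : 1 ≤ c)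
    (hc2 : c ≤ Fintype.card K - 1) (f : K → K → K → Module.Dual k V) (w : K → K → K → V)
    (h : ∀ t u v t' u' v', f t u v (w t' u' v') = j (ker (3 ^ m) t u v t' u' v') ^ c)
    (hd : Module.finrank k V ≤ 12) : ∃ i, c = 3 ^ i := by
  obtain ⟨i, c₁, hc₁, hcc⟩ := Nat.exists_eq_pow_mul_and_not_dvd (show c ≠ 0 by omega) 3 (by norm_num)
  refine ⟨i, ?_⟩
  by_contra hne
  have : CharP K 3 := charP_of_card_eq_prime_pow hK
  have h0 : c₁ ≠ 0 := by
    rintro rfl
    exact hc₁ (dvd_zero 3)
  have h1 : c₁ ≠ 1 := by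
    rintro rfl
    rw [mul_one] at hcc
    exact hne hcc
  have h2 : c₁ ≤ c := by
    rw [hcc]
    exact Nat.le_mul_of_pos_left _ (pow_pos (by norm_num) i)
  have h3 := thirteen_le (j.comp (iterateFrobenius K 3 i)) hm hK (c := c₁) (by omega) hc₁ (by omega) f w (by
    intro t u v t' u' v'
    rw [h, RingHom.comp_apply, iterateFrobenius_def, map_pow, ← pow_mul, ← hcc])
  omega

end main

end Cfsg.Agent.H909.ReeKer
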