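import Mathlib
import Cfsg.Prelude.Def_GeometricClasses
import Cfsg.Agent.S5787

/-!
# The maximal subgroups of `Sp₄(q)`, `q` odd: interface (helper909)

Predicates `T1`..`T7` for the geometric types of S5787, `ResL` for the conclusion of S5788, and the reduction
`maximal_of` of maximality to "every maximal overgroup is equal".
-/

set_option autoImplicit false

namespace Cfsg.Agent.H909.Sp4List

open Cfsg Cfsg.Geo Matrix

universe u

variable {F : Type u} [Field F]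

/-- the 4-dimensional index type -/
abbrev I4 : Type := Fin 2 ⊕ Fin 2

/-- totally isotropic subspace -/
def T1 (H : Subgroup (GL I4 F)) : Prop :=
  ∃ W : Submodule F (I4 → F), W ≠ ⊥ ∧ IsTotallySingularFor (sympForm 2 F) W ∧
    H = subspaceStabilizer W ⊓ spGL 2 F

/-- two orthogonal non-degenerate 2-spaces -/
def T2 (H : Subgroup (GL I4 F)) : Prop :=
  ∃ D : Fin 2 → Submodule F (I4 → F), IsNondegenerateMDecomposition (sympForm 2 F) 2 D ∧
    H = decompositionStabilizer D ⊓ spGL 2 F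

/-- two totally isotropic 2-spaces -/
def T3 [Fintype F] (H : Subgroup (GL I4 F)) : Prop :=
  5 ≤ Fintype.card F ∧ ∃ D : Fin 2 → Submodule F (I4 → F), IsMDecomposition 2 D ∧
    (∀ i, IsTotallySingularFor (sympForm 2 F) (D i)) ∧ H = decompositionStabilizer D ⊓ spGL 2 F

/-- `Sp₂(q²).2` -/
def T4 (H : Subgroup (GL I4 F)) : Prop :=
  ∃ K : Subalgebra F (Matrix I4 I4 F), IsFieldSubalgebra 2 K ∧ IsSelfAdjointFor (sympForm 2 F) K ∧
    (∀ k ∈ K, ∀ v : I4 → F, (sympForm 2 F) (Matrix.mulVec k v) v = 0) ∧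
    H = subalgebraNormalizer K ⊓ spGL 2 F

/-- `GU₂(q).2` -/
def T5 [Fintype F] (H : Subgroup (GL I4 F)) : Prop :=
  5 ≤ Fintype.card F ∧ ∃ K : Subalgebra F (Matrix I4 I4 F), IsFieldSubalgebra 2 K ∧
    IsAdjointClosedFor (sympForm 2 F) K ∧ ¬ IsSelfAdjointFor (sympForm 2 F) K ∧
    H = subalgebraNormalizer K ⊓ spGL 2 F

/-- subfield groups -/
def T6 [Fintype F] (H : Subgroup (GL I4 F)) : Prop :=
  ∃ (F₀ : Subfield F) (r : ℕ) (P : GL I4 F) (ζ : F), r.Prime ∧
    Fintype.card F = Nat.card F₀ ^ r ∧ ζ ≠ 0 ∧ IsFormRationalStructure (sympForm 2 F) F₀ ζ P ∧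
    H = subfieldSubgroup F₀ P ⊓ spGL 2 F

/-- `2^{1+4}_-.Ω₄⁻(2)` or `.O₄⁻(2)` -/
def T7 [Fintype F] (H : Subgroup (GL I4 F)) : Prop :=
  ∃ (p : ℕ) (R : Subgroup (GL I4 F)), p.Prime ∧ Fintype.card F = p ∧ IsSymplecticTypeGroup 2 R ∧
    ActsAbsolutelyIrreducibly (matrixSet R) ∧ R ≤ similarityGroup (sympForm 2 F) ∧
    Nat.card R = 32 ∧ Nat.card (Subgroup.center R) = 2 ∧ IsOfMinusType 2 R ∧
    H = subgroupNormalizer R ⊓ spGL 2 F

/-- the residual types (conclusion of S5788) -/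
def ResL [Fintype F] (H : Subgroup (GL I4 F)) : Prop :=
  ∃ (P : Subgroup (GL I4 F)) (p : ℕ), IsResidualCore H P ∧ p.Prime ∧ CharP F p ∧
    ((Nonempty ((P ⧸ (scalars I4 F).subgroupOf P) ≃* alternatingGroup (Fin 6)) ∧
        Fintype.card F = p ∧ 5 ≤ p ∧ p ≠ 7) ∨
     (Nonempty ((P ⧸ (scalars I4 F).subgroupOf P) ≃* alternatingGroup (Fin 7)) ∧
        Fintype.card F = 7) ∨
     (Nonempty ((P ⧸ (scalars I4 F).subgroupOf P) ≃* Matrix.ProjectiveSpecialLinearGroup (Fin 2) F) ∧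
        5 ≤ p ∧ 7 < Fintype.card F))

/-- S5788 for `F` -/
def Res88 (F : Type u) [Field F] [Fintype F] : Prop :=
  ∀ H : Subgroup (GL I4 F), IsMaximalIn (spGL 2 F) H → InSymplecticResidualClass H → ResL H

/-- The list of the maximal subgroups. -/
theorem list [Fintype F] (hodd : Odd (Fintype.card F)) (h88 : Res88 F)
    {H : Subgroup (GL I4 F)} (hH : IsMaximalIn (spGL 2 F) H) :
    T1 H ∨ T2 H ∨ T3 H ∨ T4 H ∨ T5 H ∨ T6 H ∨ T7 H ∨ ResL H := by
  rcases Cfsg.Agent.S5787.result hodd H hH with h | h | h | h | h | h | h | h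
  · exact Or.inl h
  · exact Or.inr (Or.inl h)
  · exact Or.inr (Or.inr (Or.inl h))
  · exact Or.inr (Or.inr (Or.inr (Or.inl h)))
  · exact Or.inr (Or.inr (Or.inr (Or.inr (Or.inl h))))
  · exact Or.inr (Or.inr (Or.inr (Or.inr (Or.inr (Or.inl h)))))
  · exact Or.inr (Or.inr (Or.inr (Or.inr (Or.inr (Or.inr (Or.inl h))))))
  · exact Or.inr (Or.inr (Or.inr (Or.inr (Or.inr (Or.inr (Or.inr (h88 H hH h)))))))

/-- Maximality follows if every maximal overgroup is equal. -/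
theorem maximal_of {G : Type*} [Group G] [Finite G] {K M : Subgroup G} (hM : M ≤ K) (hne : M ≠ K)
    (h : ∀ L : Subgroup G, IsMaximalIn K L → M ≤ L → M = L) : IsMaximalIn K M := by
  classical
  refine ⟨lt_of_le_of_ne hM hne, fun N hMN hNK => ?_⟩
  by_cases hNK' : N = K
  · exact Or.inr hNK'
  · left
    -- a maximal proper overgroup of `N`
    let S : Set (Subgroup G) := {L | N ≤ L ∧ L ≤ K ∧ L ≠ K}
    have hfin : S.Finite := Set.toFinite S
    obtain ⟨L, hL, hmax⟩ := hfin.exists_le_maximal (show N ∈ S from ⟨le_rfl, hNK, hNK'⟩)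
    have hLmax : IsMaximalIn K L := by
      refine ⟨lt_of_le_of_ne hmax.prop.2.1 hmax.prop.2.2, fun M' hLM' hM'K => ?_⟩
      by_cases h1 : M' = K
      · exact Or.inr h1
      · left
        have h2 : M' ∈ S := ⟨hmax.prop.1.trans hLM', hM'K, h1⟩
        exact le_antisymm (hmax.le_of_ge h2 hLM') hLM'
    have h3 := h L hLmax (hMN.trans hL)
    exact le_antisymm (h3 ▸ hL) hMN

end Cfsg.Agent.H909.Sp4List
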