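import Cfsg.Agent.H909.Sp4GeomB
import Cfsg.Agent.H909.Sp4Main
import Cfsg.Agent.H97.Sp4Ext

/-!
# The geometric maximal subgroups of `Sp₄(q)`, `q` odd: assembly (helper909)
-/

set_option autoImplicit false

namespace Cfsg.Agent.H909.Sp4Geom

open Cfsg Cfsg.Geo Matrix
open Cfsg.Agent.H909.Sp4List Cfsg.Agent.H909.Sp4Arith

universe u

variable {F : Type u} [Field F] [Fintype F]

theorem res88 (hodd : Odd (Fintype.card F)) : Res88 F := fun _ hH hS =>
  Cfsg.Agent.H909.Sp4Main.main hodd hH hS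

end Cfsg.Agent.H909.Sp4Geom
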