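import Mathlib
import Cfsg.Agent.H909.ReeBound

/-!
# The kernel of the Ree groups, periodic exponents (helper909)

`|K| = 3 ^ (2 m + 1) = q ^ s`, `q = 3 ^ g`, `r = t (1 + q + ... + q ^ (s - 1))`, `1 ≤ t ≤ q - 1`: the rank of the kernel
is at least `4 ^ s` or at least `|K| - 2`.
-/

set_option autoImplicit false
set_option linter.unusedSectionVars false

namespace Cfsg.Agent.H909.ReeKer

open Cfsg.Agent.H875.Fn Cfsg.Agent.H909.Sp4Ker Cfsg.Agent.H141.ReeK

universe u v w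

/-- `1 + q + ... + q ^ (s - 1)`, `q = 3 ^ g` -/
def Gm (g s : ℕ) : ℕ := ∑ i ∈ Finset.range s, (3 ^ g) ^ i

theorem Gm_succ (g s : ℕ) : Gm g (s + 1) = 1 + 3 ^ g * Gm g s := by
  unfold Gm
  rw [Finset.sum_range_succ', pow_zero, Finset.mul_sum, add_comm]
  congr 1
  exact Finset.sum_congr rfl fun i _ => pow_succ' _ _

theorem Gm_mul (g s : ℕ) : Gm g s * (3 ^ g - 1) + 1 = 3 ^ (g * s) := by
  have h1 : 3 ^ g = 3 ^ g - 1 + 1 := by
    have : 1 ≤ 3 ^ g := Nat.one_le_pow _ _ (by norm_num)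
    omega
  have h2 := geom_sum_mul_add (3 ^ g - 1) s
  rw [← h1, ← pow_mul] at h2
  exact h2

theorem Gm_pos {g s : ℕ} (hs : 1 ≤ s) : 1 ≤ Gm g s := by
  obtain ⟨s', rfl⟩ : ∃ s', s = s' + 1 := ⟨s - 1, by omega⟩
  rw [Gm_succ]
  exact Nat.le_add_right _ _

theorem mul_Gm_le {g s t : ℕ} (ht : t ≤ 3 ^ g - 1) : t * Gm g s ≤ 3 ^ (g * s) - 1 := by
  have h1 := Gm_mul g s
  have h2 : t * Gm g s ≤ (3 ^ g - 1) * Gm g s := Nat.mul_le_mul_right _ ht
  rw [mul_comm (3 ^ g - 1)] at h2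
  omega

theorem dg_geom {g s t i l : ℕ} (hi : i < s) (hl : l < g) (ht : t < 3 ^ g) :
    dg (t * Gm g s) (l + g * i) = dg t l := by
  induction i generalizing s with
  | zero =>
    obtain ⟨s', rfl⟩ : ∃ s', s = s' + 1 := ⟨s - 1, by omega⟩
    have h1 : t * Gm g (s' + 1) = 3 ^ l * (3 * (3 ^ (g - l - 1) * (t * Gm g s'))) + t := by
      rw [Gm_succ]
      have h2 : (3 : ℕ) ^ g = 3 ^ l * (3 * 3 ^ (g - l - 1)) := by
        rw [← pow_succ', ← pow_add]; congr 1; omega
      rw [h2]; ring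
    rw [mul_zero, add_zero, dg, h1, Nat.mul_add_div (pow_pos (by norm_num) l), Nat.mul_add_mod]
    rfl
  | succ i ih =>
    obtain ⟨s', rfl⟩ : ∃ s', s = s' + 1 := ⟨s - 1, by omega⟩
    rw [← ih (s := s') (by omega)]
    have h1 : t * Gm g (s' + 1) = 3 ^ g * (t * Gm g s') + t := by rw [Gm_succ]; ring
    rw [dg, dg, h1, show l + g * (i + 1) = g + (l + g * i) by ring, pow_add, ← Nat.div_div_eq_div_mul,
      Nat.mul_add_div (pow_pos (by norm_num) g), Nat.div_eq_of_lt ht, add_zero]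

theorem exists_coord {g s i : ℕ} (hi : i < g * s) : ∃ l a, l < g ∧ a < s ∧ i = l + g * a := by
  have hg : 0 < g := Nat.pos_of_ne_zero (by rintro rfl; omega)
  refine ⟨i % g, i / g, Nat.mod_lt _ hg, ?_, (Nat.mod_add_div i g).symm⟩
  rw [Nat.div_lt_iff_lt_mul hg, mul_comm]
  exact hi

theorem dg_one (i : ℕ) : dg 1 i = if i = 0 then 1 else 0 := by
  rcases Nat.eq_zero_or_pos i with rfl | h
  · simp [dg]
  · rw [if_neg (by omega), dg, Nat.div_eq_of_lt (Nat.one_lt_pow (by omega) (by norm_num))]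

theorem four_mul_le {s : ℕ} (hs : 3 ≤ s) : 12 * s ≤ 4 ^ s := by
  induction s, hs using Nat.le_induction with
  | base => norm_num
  | succ s hs ih => rw [pow_succ]; omega

theorem three_mul_le {s : ℕ} (hs : 4 ≤ s) : 12 * s ≤ 3 ^ s - 2 := by
  induction s, hs using Nat.le_induction with
  | base => norm_num
  | succ s hs ih =>
    have : 27 ≤ 3 ^ s := by
      calc 27 = 3 ^ 3 := by norm_num
        _ ≤ 3 ^ s := Nat.pow_le_pow_right (by norm_num) (by omega)
    rw [pow_succ]; omega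

section main

variable {K : Type u} [Field K] [Fintype K] {k : Type v} [Field k] (j : K →+* k)
variable {V : Type w} [AddCommGroup V] [Module k V] [FiniteDimensional k V]

/-- the rows `(0, u, v)` and the columns `(0, y, 0)` -/
theorem rows_eq {m : ℕ} (hK : Fintype.card K = 3 ^ (2 * m + 1)) {c : ℕ} {f : K → K → K → Module.Dual k V}
    {w : K → K → K → V} (h : ∀ t u v t' u' v', f t u v (w t' u' v') = j (ker (3 ^ m) t u v t' u' v') ^ c)
    (u V y : K) : f 0 u (V ^ (3 ^ m * 3)) (w 0 y 0) = j ((1 - u * y) ^ (1 + 3 ^ m) + V ^ 2 * y ^ (1 + 3 ^ m)) ^ c := by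
  have : CharP K 3 := charP_of_card_eq_prime_pow hK
  rw [h, ker_uv']
  rw [show 3 ^ m * 3 ^ m * 3 = Fintype.card K by rw [hK]; ring]
  exact FiniteField.pow_card V

/-- no digit vanishes -/
theorem full_le {m : ℕ} (hm : 1 ≤ m) (hK : Fintype.card K = 3 ^ (2 * m + 1)) {c : ℕ}
    (hcq : c ≤ Fintype.card K - 1) (hall : ∀ p < 2 * m + 1, dg c p ≠ 0) {f : K → K → K → Module.Dual k V}
    {w : K → K → K → V}
    (h : ∀ t u v t' u' v', f t u v (w t' u' v') = j (ker (3 ^ m) t u v t' u' v') ^ c) :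
    Fintype.card K - 2 ≤ Module.finrank k V := by
  have h27 : 27 ≤ 3 ^ (2 * m + 1) := by
    calc 27 = 3 ^ 3 := by norm_num
      _ ≤ 3 ^ (2 * m + 1) := Nat.pow_le_pow_right (by norm_num) (by omega)
  have : CharP K 3 := charP_of_card_eq_prime_pow hK
  have : CharP k 3 := charP_of_injective_ringHom j.injective 3
  have hcq' : c < 3 ^ (2 * m + 1) := by omega
  have huv := rows_eq j hK h
  have hC : ¬ 3 ∣ c.choose (H (2 * m + 1)) := (choose_ne hcq' (H_lt _)).2 fun i hi => by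
    rw [dg_H hi]
    exact Nat.one_le_iff_ne_zero.2 (hall i hi)
  have hHc : H (2 * m + 1) ≤ c := by
    by_contra hcon
    apply hC
    rw [Nat.choose_eq_zero_of_lt (by omega)]
    exact dvd_zero _
  have hH2 := two_H (2 * m + 1)
  have hred : red (Fintype.card K) ((1 + 3 ^ m) * (c - (c - H (2 * m + 1)))) = 3 ^ (2 * m + 1) - 1 := by
    rw [hK, Nat.sub_sub_self hHc]
    have h1 : 2 * H (2 * m + 1) = 3 ^ (2 * m + 1) - 1 := by omega
    have h2 : (1 + 3 ^ m) * H (2 * m + 1) = (3 ^ (2 * m + 1) - 1) * (1 + H m) := by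
      rw [← h1, ← two_H m]; ring
    rw [h2, red_congr (m := 3 ^ (2 * m + 1) - 1) _ (by omega), red_eq le_rfl]
    · exact (Nat.modEq_zero_iff_dvd.2 (Dvd.intro _ rfl)).trans (Nat.modEq_zero_iff_dvd.2 (dvd_refl _)).symm
    · exact Nat.mul_ne_zero (by omega) (by omega)
  have hex : ∀ i : Fin (Fintype.card K - 2), ∃ G : Module.Dual k V, ∀ y, G (w 0 y 0) =
      (c.choose (c - H (2 * m + 1)) : k) * j y ^ ((1 + 3 ^ m) * (c - H (2 * m + 1)) + ((i : ℕ) + 1)) := by
    intro i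
    refine exists_fun j (fun u V => f 0 u (V ^ (3 ^ m * 3))) (fun y => w 0 y 0) huv
      (Nat.sub_le _ _) ?_ ?_
    · rw [hred, mem_SS']
      have := i.2
      refine (choose_ne (n := 2 * m + 1) (by omega) (by omega)).2 fun l hl => ?_
      rw [dg_pred hl]
      have := dg_lt ((i : ℕ) + 1) l
      omega
    · intro d hd _ hcol
      rw [hK] at hcol
      rcases collision (by omega) hHc hd hcol with h1 | h1
      · exact Or.inl h1
      · exact Or.inr ⟨h1, by omega⟩
  choose G hG using hex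
  have h1 := le_of_powers j G (fun y => w 0 y 0) (fun _ => (c.choose (c - H (2 * m + 1)) : k))
    (fun i => (1 + 3 ^ m) * (c - H (2 * m + 1)) + ((i : ℕ) + 1)) (fun _ => by
      rw [Nat.choose_symm hHc]
      intro h2
      exact hC ((CharP.cast_eq_zero_iff k 3 _).1 h2)) hG (by
      intro i l hil
      have := i.2
      have := l.2
      have h2 := inj_aux (q := Fintype.card K) (by omega) (by omega) hil
      exact Fin.ext (by omega))
  rwa [Fintype.card_fin] at h1

/-- some digit vanishes, `3 ∤ t` -/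
theorem zero_le {m : ℕ} (hm : 1 ≤ m) (hK : Fintype.card K = 3 ^ (2 * m + 1)) {g s t : ℕ} (hgs : g * s = 2 * m + 1)
    (ht3 : ¬ 3 ∣ t) (ht : t ≤ 3 ^ g - 1) {p : ℕ} (hp : p < 2 * m + 1) (hcp : dg (t * Gm g s) p = 0)
    {f : K → K → K → Module.Dual k V} {w : K → K → K → V}
    (h : ∀ t' u v t'' u' v', f t' u v (w t'' u' v') = j (ker (3 ^ m) t' u v t'' u' v') ^ (t * Gm g s)) :
    4 ^ s ≤ Module.finrank k V := by
  have h27 : 27 ≤ 3 ^ (2 * m + 1) := by
    calc 27 = 3 ^ 3 := by norm_num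
      _ ≤ 3 ^ (2 * m + 1) := Nat.pow_le_pow_right (by norm_num) (by omega)
  have : CharP K 3 := charP_of_card_eq_prime_pow hK
  have : CharP k 3 := charP_of_injective_ringHom j.injective 3
  have huv := rows_eq j hK h
  have hg0 : 0 < g := Nat.pos_of_ne_zero (by rintro rfl; omega)
  have hs0 : 0 < s := Nat.pos_of_ne_zero (by rintro rfl; omega)
  have hG3 : 0 < 3 ^ g := pow_pos (by norm_num) g
  have htg : t < 3 ^ g := by omega
  have hcq' : t * Gm g s < 3 ^ (2 * m + 1) := by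
    have := mul_Gm_le (s := s) ht
    rw [hgs] at this
    omega
  -- `g ≥ 2`
  have hg2 : 2 ≤ g := by
    by_contra hcon
    have hg1 : g = 1 := by omega
    subst hg1
    obtain ⟨l, a, hl, ha, rfl⟩ := exists_coord (g := 1) (s := s) (i := p) (by omega)
    rw [dg_geom ha hl htg] at hcp
    have hl0 : l = 0 := by omega
    subst hl0
    exact dg_zero_ne ht3 hcp
  have hGle : Gm g s ≤ t * Gm g s := Nat.le_mul_of_pos_left _ (Nat.pos_of_ne_zero (by rintro rfl; exact ht3 (dvd_zero _)))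
  have h1G : ∀ i, i < 2 * m + 1 → dg (Gm g s) i ≤ dg (t * Gm g s) i := by
    intro i hi
    obtain ⟨l, a, hl, ha, rfl⟩ := exists_coord (g := g) (s := s) (i := i) (by omega)
    have h1 := dg_geom (t := 1) ha hl (by
      calc 1 < 3 ^ 1 := by norm_num
        _ ≤ 3 ^ g := Nat.pow_le_pow_right (by norm_num) (by omega))
    rw [one_mul] at h1
    rw [h1, dg_geom ha hl htg, dg_one]
    split_ifs with h2
    · subst h2
      exact Nat.one_le_iff_ne_zero.2 (dg_zero_ne ht3)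
    · exact Nat.zero_le _
  have hC : ¬ 3 ∣ (t * Gm g s).choose (Gm g s) := (choose_ne hcq' (lt_of_le_of_lt hGle hcq')).2 h1G
  -- the exponent
  obtain ⟨a, b, ha, hmab⟩ : ∃ a b, a < g ∧ m = a + g * b := ⟨m % g, m / g, Nat.mod_lt _ hg0, (Nat.mod_add_div m g).symm⟩
  have ha0 : a ≠ 0 := by
    rintro rfl
    rw [zero_add] at hmab
    have h1 : g ∣ 1 := by
      have h2 : g ∣ 2 * m + 1 := Dvd.intro _ hgs
      have h3 : g ∣ 2 * m := by rw [hmab]; exact Dvd.dvd.mul_left (Dvd.intro _ rfl) 2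
      exact (Nat.dvd_add_right h3).1 h2
    have := Nat.le_of_dvd (by norm_num) h1
    omega
  have hGq : Gm g s * (3 ^ g - 1) = 3 ^ (2 * m + 1) - 1 := by
    have := Gm_mul g s
    rw [hgs] at this
    omega
  have hshift : ∀ b : ℕ, (3 ^ g) ^ b * Gm g s ≡ Gm g s [MOD 3 ^ (2 * m + 1) - 1] := by
    intro b
    induction b with
    | zero => rw [pow_zero, one_mul]
    | succ b ih =>
      rw [pow_succ' (3 ^ g) b, mul_assoc]
      refine (Nat.ModEq.mul_left _ ih).trans ?_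
      have h1 : 3 ^ g * Gm g s = Gm g s + Gm g s * (3 ^ g - 1) := by
        obtain ⟨x, hx⟩ : ∃ x, 3 ^ g = x + 1 := ⟨3 ^ g - 1, by omega⟩
        rw [hx, Nat.add_sub_cancel]; ring
      rw [h1, hGq]
      exact (Nat.modEq_zero_iff_dvd.2 (dvd_refl _)).add_left _ |>.trans (by rw [add_zero])
  have hG0 : Gm g s ≠ 0 := by have := Gm_pos (g := g) (s := s) hs0; omega
  have hag : 3 * 3 ^ a ≤ 3 ^ g := by
    rw [← pow_succ']; exact Nat.pow_le_pow_right (by norm_num) ha
  have ha3 : 3 ^ 1 ≤ 3 ^ a := Nat.pow_le_pow_right (by norm_num) (by omega)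
  have hred : red (3 ^ (2 * m + 1)) ((1 + 3 ^ m) * Gm g s) = (1 + 3 ^ a) * Gm g s := by
    rw [← red_eq (q := 3 ^ (2 * m + 1)) (n := (1 + 3 ^ a) * Gm g s)]
    · apply red_congr
      · exact Nat.mul_ne_zero (by positivity) hG0
      · exact Nat.mul_ne_zero (by positivity) hG0
      · have hm3 : 3 ^ m * Gm g s = 3 ^ a * ((3 ^ g) ^ b * Gm g s) := by
          rw [← mul_assoc, ← pow_mul, ← pow_add, ← hmab]
        rw [add_mul, add_mul, one_mul, hm3]
        exact Nat.ModEq.add_left _ (Nat.ModEq.mul_left _ (hshift b))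
    · rw [← hGq, mul_comm]
      exact Nat.mul_le_mul_left _ (by omega)
  have hRlt : (1 + 3 ^ a) * Gm g s < 3 ^ (2 * m + 1) - 1 := by
    rw [← hGq, mul_comm]
    exact Nat.mul_lt_mul_of_pos_left (by omega) (Nat.pos_of_ne_zero hG0)
  have hcard : (SS 3 ((1 + 3 ^ a) * Gm g s)).card = 4 ^ s := by
    unfold Gm
    rw [card_SS_geom (by omega)]
    have h1 : (SS 3 (1 + 3 ^ a)).card = 4 := by
      have h2 := card_SS_add (p := 3) (t := a) (r₁ := 1) (r₂ := 3 ^ a) (by omega) (dvd_refl _)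
      rw [h2, card_SS_lt (by norm_num)]
      have h3 := card_SS_digit (p := 3) (c := 1) (by norm_num) a
      rw [mul_one] at h3
      rw [h3]
    rw [h1]
  have hsub : t * Gm g s - (t * Gm g s - Gm g s) = Gm g s := Nat.sub_sub_self hGle
  have hex : ∀ κ : SS 3 ((1 + 3 ^ a) * Gm g s), ∃ G : Module.Dual k V,
      ∀ y, G (w 0 y 0) = ((t * Gm g s).choose (t * Gm g s - Gm g s) : k) *
        j y ^ ((1 + 3 ^ m) * (t * Gm g s - Gm g s) + (κ : ℕ)) := by
    intro κ
    refine exists_fun j (fun u V => f 0 u (V ^ (3 ^ m * 3))) (fun y => w 0 y 0) huv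
      (Nat.sub_le _ _) ?_ ?_
    · rw [hK, hsub, hred]
      exact κ.2
    · intro d hd hCd hcol
      rw [hK] at hcol
      exact Or.inl (no_collision hcq' hp hcp hd (Nat.sub_le _ _) hCd
        (by rwa [Nat.choose_symm hGle]) hcol)
  choose G hG using hex
  have h1 := le_of_powers j G (fun y => w 0 y 0) (fun _ => ((t * Gm g s).choose (t * Gm g s - Gm g s) : k))
    (fun κ => (1 + 3 ^ m) * (t * Gm g s - Gm g s) + (κ : ℕ)) (fun _ => by
      rw [Nat.choose_symm hGle]
      intro h2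
      exact hC ((CharP.cast_eq_zero_iff k 3 _).1 h2)) hG (by
      intro i l hil
      rw [hK] at hil
      have hi := (mem_SS.1 i.2).1
      have hl := (mem_SS.1 l.2).1
      exact Subtype.ext (inj_aux (by omega) (by omega) hil))
  rwa [Fintype.card_coe, hcard] at h1

/-- **Periodic exponents.** -/
theorem per_le {m : ℕ} (hm : 1 ≤ m) (hK : Fintype.card K = 3 ^ (2 * m + 1)) {g s t : ℕ} (hgs : g * s = 2 * m + 1)
    (ht1 : 1 ≤ t) (ht : t ≤ 3 ^ g - 1) {f : K → K → K → Module.Dual k V} {w : K → K → K → V}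
    (h : ∀ t' u v t'' u' v', f t' u v (w t'' u' v') = j (ker (3 ^ m) t' u v t'' u' v') ^ (t * Gm g s)) :
    4 ^ s ≤ Module.finrank k V ∨ Fintype.card K - 2 ≤ Module.finrank k V := by
  have : CharP K 3 := charP_of_card_eq_prime_pow hK
  obtain ⟨i, t₁, ht₁, htt⟩ := Nat.exists_eq_pow_mul_and_not_dvd (show t ≠ 0 by omega) 3 (by norm_num)
  have h0 : 0 < t₁ := Nat.pos_of_ne_zero (by rintro rfl; exact ht₁ (dvd_zero 3))
  have h2 : t₁ ≤ t := by
    rw [htt]
    exact Nat.le_mul_of_pos_left _ (pow_pos (by norm_num) i)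
  have h' : ∀ t' u v t'' u' v', f t' u v (w t'' u' v') =
      (j.comp (iterateFrobenius K 3 i)) (ker (3 ^ m) t' u v t'' u' v') ^ (t₁ * Gm g s) := by
    intro t' u v t'' u' v'
    rw [h, RingHom.comp_apply, iterateFrobenius_def, map_pow, ← pow_mul, ← mul_assoc, ← htt]
  by_cases hall : ∀ p < 2 * m + 1, dg (t₁ * Gm g s) p ≠ 0
  · right
    refine full_le (j.comp (iterateFrobenius K 3 i)) hm hK ?_ hall h'
    rw [hK, ← hgs]
    exact mul_Gm_le (h2.trans ht)
  · push Not at hall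
    obtain ⟨p, hp, hcp⟩ := hall
    left
    exact zero_le (j.comp (iterateFrobenius K 3 i)) hm hK hgs ht₁ (h2.trans ht) hp hcp h'

end main

end Cfsg.Agent.H909.ReeKer
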