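import Mathlib
import Cfsg.Agent.H905.Sp4Def
import Cfsg.Agent.H909.Sp4KerBase

/-!
# Blocks of the kernel of the modules of `Sp₄(K)` (helper909)
-/

set_option autoImplicit false
set_option linter.unusedSectionVars false

namespace Cfsg.Agent.H909.Sp4Ker

open Cfsg.Agent.H875.Fn Cfsg.Agent.H905.Sp4 Matrix

universe u v w

section pairs

variable {K : Type u} [Field K]

theorem ind_of {a b : Fin 4 → K} (i l : Fin 4) (h : a i * b l - a l * b i ≠ 0) :
    LinearIndependent K ![a, b] := by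
  rw [LinearIndependent.pair_iff]
  intro s t hst
  have h1 : s * a i + t * b i = 0 := congrFun hst i
  have h2 : s * a l + t * b l = 0 := congrFun hst l
  constructor
  · have h3 : s * (a i * b l - a l * b i) = 0 := by
      linear_combination b l * h1 - b i * h2
    exact (mul_eq_zero.1 h3).resolve_right h
  · have h3 : t * (a i * b l - a l * b i) = 0 := by
      linear_combination a i * h2 - a l * h1
    exact (mul_eq_zero.1 h3).resolve_right h

/-- family (A) -/
def rA (x : K × K) : IsoPair K where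
  a := ![1, 0, 0, x.1]
  b := ![0, 1, x.2, 0]
  iso := by simp [om]
  ind := ind_of 0 1 (by simp)

/-- family (A), exchanged -/
def rA' (x : K × K) : IsoPair K where
  a := ![0, 1, x.2, 0]
  b := ![1, 0, 0, x.1]
  iso := by simp [om]
  ind := ind_of 0 1 (by simp)

/-- family (B) -/
def rB (x : K × K) : IsoPair K where
  a := ![1, x.1, x.2, x.1 * x.2]
  b := ![0, 1, 0, x.2]
  iso := by simp [om]
  ind := ind_of 0 1 (by simp)

theorem dot4 (x y : Fin 4 → K) : x ⬝ᵥ y = x 0 * y 0 + x 1 * y 1 + x 2 * y 2 + x 3 * y 3 := by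
  rw [dotProduct, Fin.sum_univ_four]

theorem D1_AA (x y : K × K) : D1 (rA x) (rA y) = 1 + x.1 * y.1 := by
  simp [D1, rA, dot4]

theorem D2_AA (x y : K × K) : D2 (rA x) (rA y) = (1 + x.1 * y.1) * (1 + x.2 * y.2) := by
  simp [D2, rA, dot4]

theorem D1_A'A' (x y : K × K) : D1 (rA' x) (rA' y) = 1 + x.2 * y.2 := by
  simp [D1, rA', dot4]

theorem D2_A'A' (x y : K × K) : D2 (rA' x) (rA' y) = (1 + x.2 * y.2) * (1 + x.1 * y.1) := by
  simp [D2, rA', dot4]

theorem D1_AA' (x y : K × K) : D1 (rA x) (rA' y) = 0 := by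
  simp [D1, rA, rA', dot4]

theorem D1_A'A (x y : K × K) : D1 (rA' x) (rA y) = 0 := by
  simp [D1, rA, rA', dot4]

theorem D1_BB (x y : K × K) : D1 (rB x) (rB y) = (1 + x.1 * y.1) * (1 + x.2 * y.2) := by
  simp [D1, rB, dot4]
  ring

theorem D2_BB (x y : K × K) : D2 (rB x) (rB y) = (1 + x.2 * y.2) ^ 2 := by
  simp [D2, rB, dot4]
  ring

/-- every non-zero vector is the first of an isotropic pair -/
theorem exists_pair {a : Fin 4 → K} (ha : a ≠ 0) : ∃ r : IsoPair K, r.a = a := by
  by_cases h1 : a 1 = 0 ∧ a 2 = 0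
  · -- `b = e₁`
    have h2 : a 0 ≠ 0 ∨ a 3 ≠ 0 := by
      by_contra hcon
      push Not at hcon
      apply ha
      funext i
      fin_cases i
      · exact hcon.1
      · exact h1.1
      · exact h1.2
      · exact hcon.2
    refine ⟨⟨a, ![0, 1, 0, 0], by simp [om, h1], ?_⟩, rfl⟩
    rcases h2 with h2 | h2
    · exact ind_of 0 1 (by simpa using h2)
    · exact ind_of 3 1 (by simpa using h2)
  · by_cases h2 : a 0 = 0 ∧ a 3 = 0
    · refine ⟨⟨a, ![1, 0, 0, 0], by simp [om, h2], ?_⟩, rfl⟩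
      rw [not_and_or] at h1
      rcases h1 with h1 | h1
      · exact ind_of 0 1 (by simpa using h1)
      · exact ind_of 0 2 (by simpa using h1)
    · refine ⟨⟨a, ![a 0, 0, 0, a 3], by simp [om]; ring, ?_⟩, rfl⟩
      rw [not_and_or] at h1 h2
      rcases h1 with h1 | h1 <;> rcases h2 with h2 | h2
      · exact ind_of 0 1 (by simp [h1, h2])
      · exact ind_of 3 1 (by simp [h1, h2])
      · exact ind_of 0 2 (by simp [h1, h2])
      · exact ind_of 3 2 (by simp [h1, h2])

end pairs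

section bounds

variable {p : ℕ} [hp : Fact p.Prime] {K : Type u} [Field K] [Fintype K] {k : Type v}
  [Field k] [CharP k p] (j : K →+* k) {c₁ c₂ : ℕ}
  {V : Type w} [AddCommGroup V] [Module k V] [FiniteDimensional k V]
  (φ : IsoPair K → Module.Dual k V) (v : IsoPair K → V)
  (H : ∀ r s, φ r (v s) = j (D1 r s) ^ c₁ * j (D2 r s) ^ c₂)

include H

/-- the bound (A) -/
theorem bound_A (h₁ : c₁ ≠ 0) :
    2 * (Rk p (Fintype.card K) (c₁ + c₂) * Rk p (Fintype.card K) c₂) ≤ Module.finrank k V := by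
  have h := two_block_le j p (fun x => φ (rA x)) (fun x => φ (rA' x)) (fun x => v (rA x))
    (fun x => v (rA' x)) (n₁ := c₁ + c₂) (n₂ := c₂) (n₁' := c₂) (n₂' := c₁ + c₂)
    (fun x y => by
      rw [H, D1_AA, D2_AA, map_mul, mul_pow, pow_add]; ring)
    (fun x y => by
      rw [H, D1_A'A', D2_A'A', map_mul, mul_pow, pow_add]; ring)
    (fun x y => by rw [H, D1_AA', map_zero, zero_pow h₁, zero_mul])
    (fun x y => by rw [H, D1_A'A, map_zero, zero_pow h₁, zero_mul])
  rw [mul_comm (Rk p (Fintype.card K) c₂)] at h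
  rw [two_mul]
  exact h

/-- the bound (A0) -/
theorem bound_A0 :
    Rk p (Fintype.card K) (c₁ + c₂) * Rk p (Fintype.card K) c₂ ≤ Module.finrank k V :=
  block_le j p (fun x => φ (rA x)) (fun x => v (rA x)) (n₁ := c₁ + c₂) (n₂ := c₂)
    (fun x y => by rw [H, D1_AA, D2_AA, map_mul, mul_pow, pow_add]; ring)

/-- the bound (B) -/
theorem bound_B :
    Rk p (Fintype.card K) c₁ * Rk p (Fintype.card K) (c₁ + 2 * c₂) ≤ Module.finrank k V :=
  block_le j p (fun x => φ (rB x)) (fun x => v (rB x)) (n₁ := c₁) (n₂ := c₁ + 2 * c₂)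
    (fun x y => by rw [H, D1_BB, D2_BB, map_mul, mul_pow, map_pow, pow_add, pow_mul]; ring)

end bounds

end Cfsg.Agent.H909.Sp4Ker
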