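import Mathlib
import Cfsg.Agent.H909.Sp4KerBlocks

/-!
# The kernel `(x · y)^c` on `K⁴` (helper909)
-/

set_option autoImplicit false
set_option linter.unusedSectionVars false

namespace Cfsg.Agent.H909.Sp4Ker

open Cfsg.Agent.H875.Fn Cfsg.Agent.H905.Sp4 Matrix

universe u v w

section mono4

variable {K : Type u} [Field K] [Fintype K] {k : Type v} [Field k] (j : K →+* k)
  {V : Type w} [AddCommGroup V] [Module k V] [FiniteDimensional k V]

/-- a family of vectors with monomial values -/
theorem card_le_of_mono {J : Type*} [Fintype J] (f : (Fin 4 → K) → Module.Dual k V)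
    (ν : J → Fin 4 → ℕ) (hν : Function.Injective ν) (hq : ∀ i t, ν i t ≤ Fintype.card K - 1)
    (W : J → V) (hW : ∀ i x, f x (W i) = ∏ t, j (x t) ^ ν i t) :
    Fintype.card J ≤ Module.finrank k V := by
  classical
  refine le_of_biorth (fun i => ∑ x : Fin 4 → K, (∏ t, be j (ν i t) (x t)) • f x) W
    (one_ne_zero (α := k)) (fun i l => ?_)
  rw [LinearMap.sum_apply]
  simp only [LinearMap.smul_apply, hW, smul_eq_mul, ← Finset.prod_mul_distrib]
  have h1 : ∑ x : Fin 4 → K, ∏ t, be j (ν i t) (x t) * j (x t) ^ ν l t =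
      ∏ t, ∑ y : K, be j (ν i t) y * j y ^ ν l t := by
    rw [Finset.prod_univ_sum, Fintype.piFinset_univ]
  rw [h1]
  by_cases h : i = l
  · rw [if_pos h, h]
    refine Finset.prod_eq_one fun t _ => ?_
    rw [sum_be j (hq _ _) (hq _ _), if_pos rfl]
  · rw [if_neg h]
    have h2 : ν i ≠ ν l := fun h3 => h (hν h3)
    obtain ⟨t, ht⟩ := Function.ne_iff.1 h2
    refine Finset.prod_eq_zero (Finset.mem_univ t) ?_
    rw [sum_be j (hq _ _) (hq _ _), if_neg ht]

end mono4

/-- exponents -/
def nu (c : ℕ) : Fin 4 ⊕ ({x : Fin 4 × Fin 4 // x.1 < x.2} × ℕ) → Fin 4 → ℕ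
  | Sum.inl i => fun t => if t = i then c else 0
  | Sum.inr x => fun t => if t = x.1.1.1 then x.2 else if t = x.1.1.2 then c - x.2 else 0

theorem nu_inj {c : ℕ} (hc : c ≠ 0) {x y : Fin 4 ⊕ ({x : Fin 4 × Fin 4 // x.1 < x.2} × ℕ)}
    (hx : ∀ z, x = Sum.inr z → z.2 ≠ 0 ∧ z.2 < c) (hy : ∀ z, y = Sum.inr z → z.2 ≠ 0 ∧ z.2 < c)
    (h : nu c x = nu c y) : x = y := by
  rcases x with i | ⟨⟨⟨i, l⟩, hil⟩, m⟩ <;> rcases y with i' | ⟨⟨⟨i', l'⟩, hil'⟩, m'⟩
  · have h1 := congrFun h i
    simp only [nu, if_true] at h1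
    by_cases h2 : i = i'
    · rw [h2]
    · rw [if_neg h2] at h1; exact absurd h1 hc
  · exfalso
    obtain ⟨h0, h1⟩ := hy _ rfl
    simp only at h0 h1 hil'
    have h2 := congrFun h i'
    have h3 := congrFun h l'
    simp only [nu, if_true] at h2 h3
    rw [if_neg (ne_of_gt hil')] at h3
    by_cases h4 : i' = i
    · rw [if_pos h4] at h2; omega
    · rw [if_neg h4] at h2; omega
  · exfalso
    obtain ⟨h0, h1⟩ := hx _ rfl
    simp only at h0 h1 hil
    have h2 := congrFun h i
    simp only [nu, if_true] at h2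
    by_cases h4 : i = i'
    · rw [if_pos h4] at h2; omega
    · rw [if_neg h4] at h2; omega
  · obtain ⟨h0, h1⟩ := hx _ rfl
    obtain ⟨h0', h1'⟩ := hy _ rfl
    simp only at h0 h1 hil h0' h1' hil'
    have e1 := congrFun h i
    have e2 := congrFun h l
    simp only [nu, if_true] at e1 e2
    rw [if_neg (ne_of_gt hil)] at e2
    have h3 : i = i' ∨ i = l' := by
      by_contra hcon
      push Not at hcon
      rw [if_neg hcon.1, if_neg hcon.2] at e1
      omega
    have h4 : l = i' ∨ l = l' := by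
      by_contra hcon
      push Not at hcon
      rw [if_neg hcon.1, if_neg hcon.2] at e2
      omega
    have h5 : i = i' := by
      rcases h3 with h3 | h3
      · exact h3
      · exfalso
        rcases h4 with h4 | h4
        · rw [h3, h4] at hil; exact absurd hil (not_lt.2 hil'.le)
        · rw [h3, h4] at hil; exact absurd hil (lt_irrefl _)
    have h6 : l = l' := by
      rcases h4 with h4 | h4
      · exfalso; rw [h5, h4] at hil; exact absurd hil (lt_irrefl _)
      · exact h4
    subst h5 h6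
    rw [if_pos rfl] at e1
    rw [e1]

section bounds

variable {p : ℕ} [hp : Fact p.Prime] {K : Type u} [Field K] [Fintype K] {k : Type v}
  [Field k] [CharP k p] (j : K →+* k) {c : ℕ}
  {V : Type w} [AddCommGroup V] [Module k V] [FiniteDimensional k V]

/-- the bound (C0) -/
theorem bound_C0 (φ : IsoPair K → Module.Dual k V) (v : IsoPair K → V)
    (H : ∀ r s, φ r (v s) = j (D1 r s) ^ c) (hc : c ≠ 0) (hcq : c ≤ Fintype.card K - 1) :
    4 + 6 * ((SS p c).card - 2) ≤ Module.finrank k V := by
  classical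
  have hq := two_le_card (E := K)
  -- extension to all vectors
  choose r hr using fun a : {a : Fin 4 → K // a ≠ 0} => exists_pair a.2
  let f : (Fin 4 → K) → Module.Dual k V := fun x => if h : x ≠ 0 then φ (r ⟨x, h⟩) else 0
  let g : (Fin 4 → K) → V := fun x => if h : x ≠ 0 then v (r ⟨x, h⟩) else 0
  have hfg : ∀ x y, f x (g y) = j (x ⬝ᵥ y) ^ c := by
    intro x y
    by_cases hx : x ≠ 0
    · by_cases hy : y ≠ 0
      · simp only [f, g, dif_pos hx, dif_pos hy]
        rw [H, D1, hr, hr]
      · push Not at hy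
        simp [f, g, hy, zero_pow hc]
    · push Not at hx
      simp [f, hx, zero_pow hc]
  -- the index set
  let A : Finset ℕ := ((SS p c).erase 0).erase c
  have hA : A.card = (SS p c).card - 2 := by
    rw [Finset.card_erase_of_mem, Finset.card_erase_of_mem (zero_mem_SS c)]
    · omega
    · exact Finset.mem_erase.2 ⟨hc, self_mem_SS c⟩
  let ι : Fin 4 ⊕ ({x : Fin 4 × Fin 4 // x.1 < x.2} × A) →
      Fin 4 ⊕ ({x : Fin 4 × Fin 4 // x.1 < x.2} × ℕ) := Sum.map id (Prod.map id Subtype.val)
  have hι : Function.Injective ι :=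
    Sum.map_injective.2 ⟨Function.injective_id, Function.injective_id.prodMap Subtype.val_injective⟩
  have hAm : ∀ m : A, (m : ℕ) ≠ 0 ∧ (m : ℕ) < c ∧ (m : ℕ) ∈ SS p c := by
    intro m
    have h1 := Finset.mem_erase.1 m.2
    have h2 := Finset.mem_erase.1 h1.2
    exact ⟨h2.1, lt_of_le_of_ne (mem_SS.1 h2.2).1 h1.1, h2.2⟩
  have hιz : ∀ x z, ι x = Sum.inr z → z.2 ≠ 0 ∧ z.2 < c := by
    rintro (i | ⟨il, m⟩) z hz
    · simp [ι] at hz
    · have : z = (il, (m : ℕ)) := by
        simp only [ι, Sum.map_inr, Prod.map_apply, id_eq, Sum.inr.injEq] at hz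
        exact hz.symm
      rw [this]
      exact ⟨(hAm m).1, (hAm m).2.1⟩
  have hW : ∀ x : Fin 4 ⊕ ({x : Fin 4 × Fin 4 // x.1 < x.2} × A), ∃ W : V, ∀ y : Fin 4 → K,
      f y W = ∏ t, j (y t) ^ nu c (ι x) t := by
    rintro (i | ⟨⟨⟨i, l⟩, hil⟩, m⟩)
    · refine ⟨g (Pi.single i 1), fun y => ?_⟩
      rw [hfg, dotProduct_single_one, Finset.prod_eq_single i]
      · simp [ι, nu]
      · intro t _ ht
        simp [ι, nu, ht]
      · intro h; exact absurd (Finset.mem_univ i) h
    · obtain ⟨hm0, hmc, hmS⟩ := hAm m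
      simp only at hil
      have hC : ((c.choose m : ℕ) : k) ≠ 0 := choose_ne_zero p hmS
      refine ⟨∑ t : K, (((c.choose m : ℕ) : k)⁻¹ * be j m t) • g (Pi.single i t + Pi.single l 1),
        fun y => ?_⟩
      rw [map_sum]
      simp only [map_smul, hfg, smul_eq_mul, dotProduct_add, dotProduct_single, mul_one]
      have h1 : ∀ t : K, j (y i * t + y l) ^ c = ∑ a ∈ Finset.range (c + 1),
          (j (y i) ^ a * j (y l) ^ (c - a) * (c.choose a : k)) * j t ^ a := by
        intro t
        rw [map_add, map_mul, add_pow]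
        refine Finset.sum_congr rfl fun a _ => ?_
        rw [mul_pow]
        ring
      simp only [h1, Finset.mul_sum]
      rw [Finset.sum_comm, Finset.sum_eq_single (m : ℕ)]
      · have h2 : ∀ t : K, ((c.choose m : ℕ) : k)⁻¹ * be j m t *
            (j (y i) ^ (m : ℕ) * j (y l) ^ (c - m) * (c.choose m : k) * j t ^ (m : ℕ)) =
            (((c.choose m : ℕ) : k)⁻¹ * (c.choose m : k) * (j (y i) ^ (m : ℕ) *
              j (y l) ^ (c - m))) * (be j m t * j t ^ (m : ℕ)) := by
          intro t; ring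
        simp only [h2]
        rw [← Finset.mul_sum, sum_be j (by omega) (by omega), if_pos rfl, inv_mul_cancel₀ hC,
          one_mul, mul_one]
        rw [← Finset.mul_prod_erase Finset.univ _ (Finset.mem_univ i),
          ← Finset.mul_prod_erase _ _ (Finset.mem_erase.2 ⟨ne_of_gt hil, Finset.mem_univ l⟩)]
        rw [Finset.prod_eq_one, mul_one]
        · simp [ι, nu, ne_of_gt hil]
        · intro t ht
          have h3 := (Finset.mem_erase.1 ht).1
          have h4 := (Finset.mem_erase.1 (Finset.mem_erase.1 ht).2).1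
          simp [ι, nu, h3, h4]
      · intro a ha hne
        rw [Finset.mem_range] at ha
        have h2 : ∀ t : K, ((c.choose m : ℕ) : k)⁻¹ * be j m t *
            (j (y i) ^ a * j (y l) ^ (c - a) * (c.choose a : k) * j t ^ a) =
            (((c.choose m : ℕ) : k)⁻¹ * (c.choose a : k) * (j (y i) ^ a *
              j (y l) ^ (c - a))) * (be j m t * j t ^ a) := by
          intro t; ring
        simp only [h2]
        rw [← Finset.mul_sum, sum_be j (by omega) (by omega), if_neg (Ne.symm hne), mul_zero]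
      · intro h
        exact absurd (Finset.mem_range.2 (by omega)) h
  choose W hW using hW
  have key := card_le_of_mono j f (fun x => nu c (ι x))
    (fun x y hxy => hι (nu_inj hc (hιz x) (hιz y) hxy)) (fun x t => by
      rcases x with i | ⟨⟨⟨i, l⟩, hil⟩, m⟩
      · simp only [ι, Sum.map_inl, id_eq, nu]
        split_ifs <;> omega
      · obtain ⟨hm0, hmc, hmS⟩ := hAm m
        simp only [ι, Sum.map_inr, Prod.map_apply, id_eq, nu]
        split_ifs <;> omega) W hW
  rw [Fintype.card_sum, Fintype.card_prod, Fintype.card_fin, Fintype.card_coe, hA] at key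
  have h6 : Fintype.card {x : Fin 4 × Fin 4 // x.1 < x.2} = 6 := by decide
  rw [h6] at key
  exact key

end bounds

end Cfsg.Agent.H909.Sp4Ker
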