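import Mathlib
import Cfsg.Agent.H909.Sp4KerBlocks

/-!
# Certificates for the kernel of the modules of `Sp₄(K)` (helper909)

Integer points of the big cell, and matrices `X` with `X * A = d` (or `= 1` modulo `2`, `3`).
-/

set_option autoImplicit false
set_option linter.unusedSectionVars false

namespace Cfsg.Agent.H909.Sp4Ker

open Cfsg.Agent.H875.Fn Cfsg.Agent.H905.Sp4 Matrix

universe u v w

/-- integer points -/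
abbrev Pt : Type := ℤ × ℤ × ℤ × ℤ

/-- `D1` on integer points -/
def zD1 (x y : Pt) : ℤ := 1 + x.1 * y.1 + x.2.1 * y.2.1 + x.2.2.1 * y.2.2.1

/-- `D2` on integer points -/
def zD2 (x y : Pt) : ℤ :=
  zD1 x y * (1 + x.2.2.2 * y.2.2.2 + (x.2.1 - x.1 * x.2.2.2) * (y.2.1 - y.1 * y.2.2.2)) -
    (x.1 + x.2.1 * y.2.2.2 + x.2.2.1 * (y.2.1 - y.1 * y.2.2.2)) *
      (y.1 + x.2.2.2 * y.2.1 + (x.2.1 - x.1 * x.2.2.2) * y.2.2.1)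

/-- entries -/
def ent (e₁ e₂ : ℕ) (x y : Pt) : ℤ := zD1 x y ^ e₁ * zD2 x y ^ e₂

section pt

variable {K : Type u} [Field K]

/-- the isotropic pair of an integer point -/
def pt (x : Pt) : IsoPair K where
  a := ![1, x.1, x.2.1, x.2.2.1]
  b := ![0, 1, x.2.2.2, x.2.1 - x.1 * x.2.2.2]
  iso := by simp [om]
  ind := ind_of 0 1 (by simp)

theorem D1_pt (x y : Pt) : D1 (pt x : IsoPair K) (pt y) = ((zD1 x y : ℤ) : K) := by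
  simp [D1, pt, zD1]
  ring

theorem D2_pt (x y : Pt) : D2 (pt x : IsoPair K) (pt y) = ((zD2 x y : ℤ) : K) := by
  simp [D2, pt, zD2, zD1]
  ring

end pt

section cert

variable {K : Type u} [Field K] {k : Type v} [Field k] (j : K →+* k) {c₁ c₂ : ℕ}
  {V : Type w} [AddCommGroup V] [Module k V] [FiniteDimensional k V]
  (φ : IsoPair K → Module.Dual k V) (v : IsoPair K → V)
  (H : ∀ r s, φ r (v s) = j (D1 r s) ^ c₁ * j (D2 r s) ^ c₂)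

include H

/-- the certificate bound -/
theorem cert {N : ℕ} {e₁ e₂ : ℕ} (R C : Fin N → Pt) (X : Fin N → Fin N → ℤ) {P d : ℤ}
    (hX : ∀ i l, (∑ t, X i t * ent e₁ e₂ (R t) (C l) - (if i = l then d else 0)) % P = 0)
    (hP : (P : k) = 0) (hd : (d : k) ≠ 0)
    (he₁ : ∀ z : ℤ, (z : k) ^ c₁ = (z : k) ^ e₁) (he₂ : ∀ z : ℤ, (z : k) ^ c₂ = (z : k) ^ e₂) :
    N ≤ Module.finrank k V := by
  classical
  have h := le_of_biorth (fun i => ∑ t, (X i t : k) • φ (pt (R t))) (fun l => v (pt (C l))) hd (by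
    intro i l
    rw [LinearMap.sum_apply]
    simp only [LinearMap.smul_apply, H, D1_pt, D2_pt, map_intCast, he₁, he₂, smul_eq_mul]
    obtain ⟨m, hm⟩ := Int.dvd_of_emod_eq_zero (hX i l)
    have h1 : ∑ t, X i t * ent e₁ e₂ (R t) (C l) = (if i = l then d else 0) + P * m := by
      rw [← hm]; ring
    have h2 : ∑ t, (X i t : k) * ((zD1 (R t) (C l) : k) ^ e₁ * (zD2 (R t) (C l) : k) ^ e₂) =
        ((∑ t, X i t * ent e₁ e₂ (R t) (C l) : ℤ) : k) := by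
      push_cast [ent]
      rfl
    rw [h2, h1]
    push_cast
    rw [hP, zero_mul, add_zero])
  rwa [Fintype.card_fin] at h

end cert

def R11a : Fin 12 → Pt := ![(0, 0, 0, 0), (-1, 0, 0, 0), (0, -1, 0, 0), (0, 0, -1, 0), (0, 0, 0, -1), (-1, -1, 0, 0), (-1, 0, -1, 0), (-1, 0, 0, -1), (0, -1, -1, 0), (0, -1, 0, -1), (0, 1, 1, -1), (0, -1, -1, -1)]

def C11a : Fin 12 → Pt := ![(0, 0, 0, 0), (-1, 0, 0, 0), (0, 1, 0, 0), (0, 0, 1, 0), (0, 0, 0, -1), (-1, 0, -1, 0), (0, -1, -1, 0), (1, 0, 0, -1), (0, 0, 1, -1), (0, -1, 0, -1), (0, 1, 1, -1), (-1, 1, 0, -1)]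

def X11a : Fin 12 → Fin 12 → ℤ :=
  ![![-606, -84, 598, -100, 746, 130, 198, -246, -132, -494, -40, 32],
    ![-96, -36, 106, -46, 160, 38, 54, -54, -20, -98, -9, 1],
    ![-88, 44, 52, 50, 14, -18, -22, -4, -18, -22, 0, 12],
    ![664, 74, -638, 92, -788, -132, -202, 260, 142, 522, 42, -36],
    ![-200, -24, 192, -32, 242, 40, 64, -80, -42, -158, -13, 11],
    ![152, 10, -142, 14, -170, -26, -40, 56, 32, 114, 9, -9],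
    ![-22, -8, 24, -10, 36, 8, 12, -12, -4, -22, -2, 0],
    ![150, 12, -142, 16, -170, -26, -42, 56, 32, 114, 9, -9],
    ![-106, -44, 120, -52, 180, 42, 62, -60, -22, -110, -10, 0],
    ![78, 28, -86, 34, -126, -28, -42, 42, 16, 78, 7, -1],
    ![-16, -12, 22, -14, 36, 10, 14, -12, -4, -22, -2, 0],
    ![92, 40, -106, 48, -160, -38, -56, 54, 20, 98, 9, -1]]

theorem cert11a : ∀ i l, (∑ t, X11a i t * ent 1 1 (R11a t) (C11a l) -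
    (if i = l then 2 else 0)) % 0 = 0 := by
  decide +kernel

def R11b : Fin 13 → Pt := ![(0, 0, 0, 0), (-1, 0, 0, 0), (0, -1, 0, 0), (0, 0, -1, 0), (0, 0, 0, -1), (-1, -1, 0, 0), (-1, 0, -1, 0), (-1, 0, 0, -1), (0, -1, -1, 0), (0, -1, 0, -1), (0, 1, 1, -1), (0, -1, -1, -1), (0, 0, -1, -1)]

def C11b : Fin 13 → Pt := ![(0, 0, 0, 0), (-1, 0, 0, 0), (0, 1, 0, 0), (0, 0, 1, 0), (0, 0, 0, -1), (-1, 0, -1, 0), (0, -1, -1, 0), (1, 0, 0, -1), (0, 0, 1, -1), (0, -1, 0, -1), (0, 1, 1, -1), (-1, 1, 0, -1), (1, -1, -1, -1)]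

def X11b : Fin 13 → Fin 13 → ℤ :=
  ![![-13818, -420, 12662, -748, 14518, 2014, 3222, -4826, -2892, -9910, -758, 842, 124],
    ![-6570, -180, 5990, -370, 6890, 960, 1530, -2300, -1360, -4690, -360, 390, 70],
    ![7216, 220, -6604, 426, -7586, -1058, -1694, 2532, 1494, 5170, 396, -424, -88],
    ![12716, 370, -11614, 676, -13336, -1848, -2954, 4432, 2654, 9090, 696, -774, -108],
    ![-3784, -120, 3456, -224, 3994, 552, 896, -1328, -786, -2710, -209, 231, 32],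
    ![1978, 50, -1802, 98, -2068, -284, -452, 686, 412, 1410, 108, -122, -14],
    ![-1502, -40, 1368, -82, 1572, 216, 348, -524, -308, -1070, -82, 88, 16],
    ![2142, 60, -1958, 112, -2242, -306, -498, 744, 448, 1530, 117, -133, -16],
    ![-7838, -220, 7152, -428, 8208, 1134, 1822, -2736, -1622, -5590, -428, 462, 84],
    ![4914, 140, -4486, 274, -5154, -712, -1146, 1718, 1016, 3510, 269, -291, -52],
    ![-1820, -60, 1670, -110, 1920, 270, 430, -640, -380, -1310, -100, 110, 20],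
    ![6550, 200, -5990, 380, -6890, -960, -1540, 2300, 1360, 4690, 360, -390, -70],
    ![-174, 0, 156, -4, 174, 22, 36, -58, -36, -120, -9, 11, 2]]

theorem cert11b : ∀ i l, (∑ t, X11b i t * ent 1 1 (R11b t) (C11b l) -
    (if i = l then 10 else 0)) % 0 = 0 := by
  decide +kernel

def R02 : Fin 13 → Pt := ![(0, 0, 0, 0), (0, -1, 0, 0), (0, 0, -1, 0), (0, 0, 0, -1), (-1, -1, 0, 0), (-1, 0, 0, -1), (0, -1, 0, -1), (0, 0, -1, -1), (0, 0, 0, 1), (0, 0, 1, 0), (-1, -1, -1, -1), (0, 1, 0, 0), (-1, 0, 0, 1)]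

def C02 : Fin 13 → Pt := ![(0, 0, 0, 0), (0, 1, 0, 0), (0, 0, 1, 0), (0, 0, 0, 1), (-1, 1, 0, 0), (-1, 0, 0, 1), (0, 0, 1, -1), (0, -1, 0, 1), (0, 0, 0, -1), (0, 0, -1, 0), (0, 0, 1, 1), (0, -1, 0, 0), (0, 0, -1, 1)]

def X02 : Fin 13 → Fin 13 → ℤ :=
  ![![312, 216, 28, 268, -264, -92, -104, -168, 28, -212, 80, -16, -44],
    ![-128, -152, -30, -186, 184, 34, 80, 124, -38, 118, -52, 8, 38],
    ![-178, -151, -15, -185, 194, 57, 70, 116, -41, 145, -58, 5, 41],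
    ![-10, 45, 17, 43, -54, 17, -26, -40, 27, -15, 10, 1, -15],
    ![108, 126, 18, 150, -156, -22, -68, -104, 38, -94, 44, -2, -38],
    ![0, 4, 8, 8, 0, -8, 0, 0, -8, -8, 0, -4, 8],
    ![74, 87, 23, 105, -106, -33, -38, -64, 17, -73, 30, -5, -17],
    ![12, 14, 2, 14, -12, -14, -4, 0, -2, -14, 4, -2, 2],
    ![-90, -87, -23, -93, 106, 33, 38, 64, -13, 73, -30, 5, 17],
    ![-18, -3, 9, -17, 2, 1, 6, 12, -1, 9, -2, 1, 1],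
    ![-20, -66, -30, -78, 68, 6, 36, 52, -6, 42, -16, 6, 6],
    ![-32, -36, -10, -46, 40, 22, 16, 20, -2, 34, -12, 4, 2],
    ![2, 3, 3, 17, -2, -1, -6, -12, 1, -5, 2, -1, -1]]

theorem cert02 : ∀ i l, (∑ t, X02 i t * ent 0 2 (R02 t) (C02 l) -
    (if i = l then 32 else 0)) % 0 = 0 := by
  decide +kernel

def R01 : Fin 5 → Pt := ![(0, 0, 0, 0), (0, -1, 0, 0), (0, 0, -1, 0), (0, 0, 0, -1), (-1, 0, 0, -1)]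

def C01 : Fin 5 → Pt := ![(0, 0, 0, 0), (0, 1, 0, 0), (0, 0, -1, 0), (0, 0, 0, -1), (-1, 0, 0, -1)]

def X01 : Fin 5 → Fin 5 → ℤ :=
  ![![7, 0, -3, -3, 1],
    ![-4, 2, 2, 2, -2],
    ![1, -2, 1, -1, 1],
    ![1, -2, -1, 1, 1],
    ![-3, 2, 1, 1, -1]]

theorem cert01 : ∀ i l, (∑ t, X01 i t * ent 0 1 (R01 t) (C01 l) -
    (if i = l then 2 else 0)) % 0 = 0 := by
  decide +kernel

def R21 : Fin 13 → Pt := ![(0, 0, 0, 0), (-1, 0, 0, 0), (0, -1, 0, 0), (0, 0, -1, 0), (0, 0, 0, -1), (0, 0, 1, 0), (0, 1, 0, 0), (1, 0, 0, 0), (-1, -1, 0, 0), (-1, 0, -1, 0), (-1, 0, 0, -1), (-1, 0, 1, 0), (-1, 1, 0, 0)]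

def C21 : Fin 13 → Pt := ![(0, 0, 0, 0), (1, 0, 0, 0), (0, 1, 0, 0), (0, 0, -1, 0), (0, 0, 0, -1), (-1, -1, -1, 0), (0, -1, 0, 0), (-1, 0, 0, 0), (-1, -1, 0, 0), (-1, 0, -1, 0), (1, -1, 0, 0), (-1, 0, 1, 0), (-1, 1, 0, 0)]

def X21 : Fin 13 → Fin 13 → ℤ :=
  ![![1, 1, 0, 0, 1, 0, 0, 1, -1, 1, 1, -1, 0],
    ![0, 1, 1, -1, -1, 0, -1, 0, 0, 0, 1, 0, 0],
    ![-1, -1, 1, 0, 1, 0, -1, 0, 0, 0, -1, 0, -1],
    ![-1, 0, 1, 0, 0, 1, -1, 0, -1, -1, 0, 1, 1],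
    ![-1, 0, 0, 0, 1, 0, 0, 0, 0, 0, 0, 0, 0],
    ![1, 0, 0, 1, 0, 1, 0, 0, 0, 0, 0, 0, 0],
    ![1, 1, 1, 0, 0, -1, -1, 0, -1, 0, 0, 0, 0],
    ![0, 0, -1, 1, -1, -1, 0, -1, -1, -1, 1, -1, -1],
    ![1, 1, 0, 1, -1, 0, -1, 0, 1, 0, 1, 0, 0],
    ![0, 1, 1, 1, -1, 0, -1, 0, 0, 1, 1, 0, 0],
    ![1, 1, -1, 1, 1, 0, 1, 0, 0, 0, -1, 0, 0],
    ![0, 0, -1, -1, 1, 0, 1, 0, 0, 0, -1, 1, 0],
    ![-1, 1, 1, 0, -1, 0, 1, 0, 0, 0, 1, 0, 1]]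

theorem cert21 : ∀ i l, (∑ t, X21 i t * ent 2 1 (R21 t) (C21 l) -
    (if i = l then 1 else 0)) % 3 = 0 := by
  decide +kernel

def R12 : Fin 13 → Pt := ![(0, 0, 0, 0), (-1, 0, 0, 0), (0, -1, 0, 0), (0, 0, -1, 0), (0, 0, 0, -1), (0, 0, 0, 1), (0, 0, 1, 0), (0, 1, 0, 0), (-1, -1, 0, 0), (-1, 0, -1, 0), (-1, 0, 0, -1), (-1, 0, 0, 1), (-1, 0, 1, 0)]

def C12 : Fin 13 → Pt := ![(0, 0, 0, 0), (-1, 0, 0, 0), (0, -1, 0, 0), (0, 0, -1, 0), (0, 0, 0, 1), (0, 0, 0, -1), (-1, -1, 0, 0), (-1, 0, 0, -1), (0, 0, 1, 0), (-1, 0, 0, 1), (0, 1, 0, 0), (-1, 0, -1, 0), (-1, 0, 1, 0)]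

def X12 : Fin 13 → Fin 13 → ℤ :=
  ![![1, 1, 1, 1, 0, 0, 1, 1, 0, 1, 1, 1, 1],
    ![1, -1, 0, -1, 0, 0, -1, 0, 0, 1, 0, 0, 1],
    ![1, 0, 0, 0, 1, 0, 0, 1, 1, 0, -1, 0, 0],
    ![1, -1, 0, -1, 0, 0, 1, -1, -1, 1, 0, 0, 1],
    ![0, 0, 0, 0, 1, 1, -1, -1, 0, -1, 1, -1, 1],
    ![0, 0, 1, 0, 1, 1, 1, -1, 0, 1, -1, 1, -1],
    ![0, 0, 1, -1, 0, 0, -1, 1, 0, 0, 0, 0, 0],
    ![1, 0, -1, 0, -1, 1, -1, 1, 0, -1, 1, -1, 1],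
    ![1, -1, 0, 1, 1, -1, 1, 0, -1, 0, -1, 1, -1],
    ![1, 0, 0, 0, 1, -1, 1, 1, 0, 1, -1, 1, -1],
    ![1, 0, 1, -1, -1, -1, 0, 1, 1, 1, 1, 1, -1],
    ![1, 1, 0, 1, 1, -1, 0, 1, 0, 1, -1, 1, 1],
    ![1, 1, 0, 1, -1, 1, -1, -1, 0, 1, 1, -1, 1]]

theorem cert12 : ∀ i l, (∑ t, X12 i t * ent 1 2 (R12 t) (C12 l) -
    (if i = l then 1 else 0)) % 3 = 0 := by
  decide +kernel

def R11c : Fin 13 → Pt := ![(0, 0, 0, 0), (0, 0, 0, 1), (0, 0, 1, 0), (0, 1, 0, 0), (1, 0, 0, 0), (0, 0, 1, 1), (0, 1, 0, 1), (0, 1, 1, 0), (1, 0, 0, 1), (1, 0, 1, 0), (1, 1, 0, 0), (0, 1, 1, 1), (1, 0, 1, 1)]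

def C11c : Fin 13 → Pt := ![(0, 0, 0, 0), (0, 0, 0, 1), (0, 0, 1, 0), (0, 1, 0, 0), (1, 0, 0, 0), (0, 1, 1, 0), (0, 1, 0, 1), (0, 0, 1, 1), (1, 0, 1, 0), (1, 0, 0, 1), (0, 1, 1, 1), (1, 1, 0, 0), (1, 1, 0, 1)]

def X11c : Fin 13 → Fin 13 → ℤ :=
  ![![1, 0, 0, 0, 1, 0, 0, 0, 1, 1, 1, 1, 1],
    ![1, 1, 0, 1, 1, 1, 0, 1, 1, 0, 1, 1, 1],
    ![0, 0, 0, 1, 1, 0, 1, 1, 0, 1, 0, 1, 0],
    ![0, 1, 1, 0, 0, 0, 1, 1, 0, 1, 1, 0, 0],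
    ![1, 0, 1, 0, 1, 1, 0, 0, 0, 1, 0, 0, 1],
    ![1, 1, 1, 1, 1, 0, 0, 0, 0, 0, 0, 0, 1],
    ![0, 0, 1, 1, 0, 1, 1, 0, 0, 1, 1, 0, 0],
    ![1, 0, 0, 0, 0, 0, 1, 1, 0, 1, 1, 1, 0],
    ![1, 0, 1, 1, 1, 1, 1, 0, 1, 0, 0, 1, 0],
    ![0, 1, 0, 0, 1, 1, 0, 0, 1, 1, 0, 0, 1],
    ![0, 1, 1, 0, 1, 0, 0, 0, 0, 1, 1, 0, 1],
    ![0, 1, 0, 1, 1, 0, 1, 0, 0, 0, 0, 1, 1],
    ![1, 0, 0, 0, 1, 1, 0, 0, 0, 0, 0, 0, 1]]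

theorem cert11c : ∀ i l, (∑ t, X11c i t * ent 1 1 (R11c t) (C11c l) -
    (if i = l then 1 else 0)) % 2 = 0 := by
  decide +kernel

def R22 : Fin 13 → Pt := ![(0, 0, 0, 0), (0, 0, 0, 1), (0, 0, 0, -1), (0, 0, 1, 0), (0, 0, -1, 0), (0, 1, 0, 0), (0, -1, 0, 0), (1, 0, 0, 0), (-1, 0, 0, 0), (0, 0, 1, 1), (0, 0, 1, -1), (0, 0, -1, 1), (0, 0, -1, -1)]

def C22 : Fin 13 → Pt := ![(0, 0, 0, 0), (0, 0, 0, -1), (0, 0, 0, 1), (0, 0, -1, 0), (0, 0, 1, 0), (0, -1, 0, 0), (0, 1, 0, 0), (-1, 0, 0, 0), (1, 0, 0, 0), (0, 0, 1, 1), (0, 0, -1, 1), (0, 0, 1, -1), (0, 0, -1, -1)]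

def X22 : Fin 13 → Fin 13 → ℤ :=
  ![![1, 0, 0, 0, 0, 1, 1, 1, 1, 0, 1, 1, 0],
    ![0, 0, -1, 0, 0, -1, -1, 0, 0, 0, 0, -1, 1],
    ![0, -1, 0, 0, 0, -1, -1, 0, 0, 1, -1, 0, 0],
    ![0, 0, 0, 0, -1, -1, -1, 0, 0, 0, -1, 0, 1],
    ![0, 0, 0, -1, 0, -1, -1, 0, 0, 1, 0, -1, 0],
    ![1, -1, -1, -1, -1, 0, 1, 0, 0, 1, 0, 0, 1],
    ![1, -1, -1, -1, -1, 1, 0, 0, 0, 1, 0, 0, 1],
    ![1, 0, 0, 0, 0, 0, 0, -1, 0, 0, 0, 0, 0],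
    ![1, 0, 0, 0, 0, 0, 0, 0, -1, 0, 0, 0, 0],
    ![0, 1, 0, 1, 0, 1, 1, 0, 0, -1, 0, 0, 0],
    ![1, 0, -1, -1, 0, 0, 0, 0, 0, 0, 1, 0, 0],
    ![1, -1, 0, 0, -1, 0, 0, 0, 0, 0, 0, 1, 0],
    ![0, 0, 1, 0, 1, 1, 1, 0, 0, 0, 0, 0, -1]]

theorem cert22 : ∀ i l, (∑ t, X22 i t * ent 2 2 (R22 t) (C22 l) -
    (if i = l then 1 else 0)) % 3 = 0 := by
  decide +kernel

end Cfsg.Agent.H909.Sp4Ker
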