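import Mathlib
import Cfsg.Agent.H905.Sp4Def
import Cfsg.Agent.H909.Sp4KerArith
import Cfsg.Agent.H909.Sp4KerBlocks
import Cfsg.Agent.H909.Sp4KerCZero
import Cfsg.Agent.H909.Sp4KerCert

/-!
# `Sp₄(K)` in its own characteristic, dimension at most 12: the numeric half (helper909)

**`kernel_bound`**.
-/

set_option autoImplicit false
set_option linter.unusedSectionVars false
set_option linter.unusedVariables false

namespace Cfsg.Agent.H909.Sp4Ker

open Cfsg.Agent.H875.Fn Cfsg.Agent.H905.Sp4 Matrix

universe u v w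

section ints

variable {k : Type v} [Field k]

theorem int_pow_p {p : ℕ} [hp : Fact p.Prime] [CharP k p] (z : ℤ) : (z : k) ^ p = z := by
  have h := map_intCast (frobenius k p) z
  rwa [frobenius_def] at h

theorem int_pow_pow {p : ℕ} [hp : Fact p.Prime] [CharP k p] (i : ℕ) (z : ℤ) :
    (z : k) ^ (p ^ i) = z := by
  induction i with
  | zero => rw [pow_zero, pow_one]
  | succ i ih => rw [pow_succ, pow_mul, ih, int_pow_p]

theorem int_pow_two [CharP k 2] {n : ℕ} (hn : n ≠ 0) (z : ℤ) : (z : k) ^ n = (z : k) ^ 1 := by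
  have : Fact (Nat.Prime 2) := ⟨Nat.prime_two⟩
  obtain ⟨m, rfl⟩ := Nat.exists_eq_succ_of_ne_zero hn
  induction m with
  | zero => rfl
  | succ m ih =>
    have h1 := ih (by omega)
    have h2 : (z : k) ^ 2 = z := int_pow_p z
    rw [Nat.succ_eq_add_one] at h1 ⊢
    rw [pow_succ, h1, pow_one, ← sq, h2]

theorem int_pow_odd [CharP k 3] {n : ℕ} (hn : Odd n) (z : ℤ) : (z : k) ^ n = (z : k) ^ 1 := by
  have : Fact (Nat.Prime 3) := ⟨Nat.prime_three⟩
  obtain ⟨m, rfl⟩ := hn
  induction m with
  | zero => rfl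
  | succ m ih =>
    have h2 : (z : k) ^ 3 = z := int_pow_p z
    rw [show 2 * (m + 1) + 1 = (2 * m + 1) + 2 by ring, pow_add, ih, pow_one, ← pow_succ', h2]

theorem int_pow_even [CharP k 3] {n : ℕ} (hn : Even n) (h0 : n ≠ 0) (z : ℤ) :
    (z : k) ^ n = (z : k) ^ 2 := by
  obtain ⟨m, rfl⟩ := Nat.exists_eq_succ_of_ne_zero h0
  have hm : Odd m := by
    rw [Nat.succ_eq_add_one] at hn
    exact Nat.not_even_iff_odd.1 (fun h => by
      have := Even.add_one h
      exact (Nat.not_even_iff_odd.2 this) hn)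
  rw [Nat.succ_eq_add_one, pow_succ, int_pow_odd hm, pow_one, sq]

end ints

variable {p : ℕ} [hp : Fact p.Prime] {K : Type u} [Field K] [Fintype K] [CharP K p] {k : Type v}
  [Field k] (j : K →+* k) {c₁ c₂ : ℕ}
  {V : Type w} [AddCommGroup V] [Module k V] [FiniteDimensional k V]

/-- **The numeric half of `PSp₄(K)` in its own characteristic, dimension at most 12.** -/
theorem kernel_bound (h₁ : c₁ ≤ Fintype.card K - 1) (h₂ : c₂ ≤ Fintype.card K - 1)
    (h0 : ¬ (c₁ = 0 ∧ c₂ = 0)) (hq : p = 2 → 4 ≤ Fintype.card K)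
    (φ : IsoPair K → Module.Dual k V) (v : IsoPair K → V)
    (H : ∀ r s, φ r (v s) = j (D1 r s) ^ c₁ * j (D2 r s) ^ c₂)
    (hV : Module.finrank k V ≤ 12) :
    (∃ i, c₁ = p ^ i ∧ c₂ = 0) ∨ (p ≠ 2 ∧ ∃ i, c₁ = 2 * p ^ i ∧ c₂ = 0 ∧ 10 ≤ Module.finrank k V) ∨
    (∃ i, c₁ = 0 ∧ c₂ = p ^ i ∧ (p ≠ 2 → 5 ≤ Module.finrank k V)) ∨
    (p = 5 ∧ ∃ i, c₁ = 5 ^ i ∧ c₂ = 5 ^ i ∧ Module.finrank k V = 12) := by
  classical
  have hk : CharP k p := charP_of_injective_ringHom j.injective p
  have hcast : ∀ n : ℕ, (n : k) = 0 ↔ p ∣ n := fun n => CharP.cast_eq_zero_iff k p n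
  have h2k : p ≠ 2 → ((2 : ℤ) : k) ≠ 0 := by
    intro h h2
    have h3 : ((2 : ℕ) : k) = 0 := by exact_mod_cast h2
    exact h ((Nat.prime_dvd_prime_iff_eq hp.out Nat.prime_two).1 ((hcast 2).1 h3))
  by_cases hc2 : c₂ = 0
  · -- `c₂ = 0`
    subst hc2
    have hc1 : c₁ ≠ 0 := fun h => h0 ⟨h, rfl⟩
    have hb := bound_C0 (p := p) j φ v (fun r s => by rw [H, pow_zero, mul_one]) hc1 h₁
    have h3 : (SS p c₁).card ≤ 3 := by omega
    obtain ⟨e, t, he, hep, hct, hs⟩ := exists_of_card_le_three (p := p) hc1 h3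
    rcases he with rfl | rfl
    · exact Or.inl ⟨t, by rw [hct, mul_one], rfl⟩
    · refine Or.inr (Or.inl ⟨by omega, t, by rw [hct, mul_comm], rfl, by omega⟩)
  · by_cases hc1 : c₁ = 0
    · -- `c₁ = 0`
      subst hc1
      have hb := bound_A0 (p := p) j φ v H
      rw [zero_add, Rk_eq h₂] at hb
      have h3 : (SS p c₂).card ≤ 3 := by nlinarith
      obtain ⟨e, t, he, hep, hct, hs⟩ := exists_of_card_le_three (p := p) hc2 h3
      rcases he with rfl | rfl
      · refine Or.inr (Or.inr (Or.inl ⟨t, rfl, by rw [hct, mul_one], fun hp2 => ?_⟩))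
        exact cert j φ v H R01 C01 X01 cert01 (by simp) (h2k hp2) (fun z => rfl)
          (fun z => by rw [hct, mul_one, pow_one, int_pow_pow])
      · exfalso
        have h13 := cert j φ v H R02 C02 X02 cert02 (by simp) (by
          have := h2k (by omega)
          have h4 : ((32 : ℤ) : k) = ((2 : ℤ) : k) ^ 5 := by norm_num
          rw [h4]; exact pow_ne_zero 5 this) (fun z => rfl)
          (fun z => by rw [hct, pow_mul, int_pow_pow])
        omega
    · -- both non-zero
      obtain ⟨n, -, hn⟩ := FiniteField.card K p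
      rcases Nat.lt_or_ge p 5 with hp5 | hp5
      · exfalso
        have h4 := hp.out.two_le
        have hp4 : p ≠ 4 := by
          rintro rfl
          exact absurd hp.out (by decide)
        have h23 : p = 2 ∨ p = 3 := by omega
        rcases h23 with rfl | rfl
        · have h13 := cert j φ v H R11c C11c X11c cert11c (by
            have := CharP.cast_eq_zero k 2
            exact_mod_cast this) (by simp) (int_pow_two hc1) (int_pow_two hc2)
          omega
        · have h3 : ((3 : ℤ) : k) = 0 := by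
            have := CharP.cast_eq_zero k 3
            exact_mod_cast this
          rcases Nat.even_or_odd c₁ with e₁ | e₁ <;> rcases Nat.even_or_odd c₂ with e₂ | e₂
          · have h13 := cert j φ v H R22 C22 X22 cert22 h3 (by simp) (int_pow_even e₁ hc1)
              (int_pow_even e₂ hc2)
            omega
          · have h13 := cert j φ v H R21 C21 X21 cert21 h3 (by simp) (int_pow_even e₁ hc1)
              (int_pow_odd e₂)
            omega
          · have h13 := cert j φ v H R12 C12 X12 cert12 h3 (by simp) (int_pow_odd e₁)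
              (int_pow_even e₂ hc2)
            omega
          · have h13 := cert j φ v H R11b C11b X11b cert11b (by simp) (by
              have h5 : ((10 : ℕ) : k) ≠ 0 := by rw [Ne, hcast]; decide
              exact_mod_cast h5) (int_pow_odd e₁) (int_pow_odd e₂)
            omega
      · have hA := (bound_A (p := p) j φ v H hc1).trans hV
        have hB := (bound_B (p := p) j φ v H).trans hV
        rw [hn] at hA hB h₁ h₂
        obtain ⟨m, hm1, hm2⟩ := eq_pow_pow hp5 h₁ h₂ hc1 hc2 hA hB
        have e₁ : ∀ z : ℤ, (z : k) ^ c₁ = (z : k) ^ 1 := fun z => by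
          rw [hm1, int_pow_pow, pow_one]
        have e₂ : ∀ z : ℤ, (z : k) ^ c₂ = (z : k) ^ 1 := fun z => by
          rw [hm2, int_pow_pow, pow_one]
        by_cases h5 : p = 5
        · subst h5
          have h12 := cert j φ v H R11a C11a X11a cert11a (by simp) (h2k (by norm_num)) e₁ e₂
          exact Or.inr (Or.inr (Or.inr ⟨rfl, m, hm1, hm2, le_antisymm hV h12⟩))
        · exfalso
          have h13 := cert j φ v H R11b C11b X11b cert11b (by simp) (by
            have h6 : ((10 : ℕ) : k) ≠ 0 := by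
              rw [Ne, hcast, show 10 = 2 * 5 by norm_num, hp.out.dvd_mul]
              rintro (h7 | h7)
              · have := (Nat.prime_dvd_prime_iff_eq hp.out Nat.prime_two).1 h7
                omega
              · exact h5 ((Nat.prime_dvd_prime_iff_eq hp.out Nat.prime_five).1 h7)
            exact_mod_cast h6) e₁ e₂
          omega

end Cfsg.Agent.H909.Sp4Ker
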