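import Mathlib

/-!
# Arithmetic for the maximal subgroups of `Sp₄(q)`, `q` odd (helper909)
-/

set_option autoImplicit false

namespace Cfsg.Agent.H909.Sp4Arith

/-- `|T2|` -/
def a2 (q : ℕ) : ℕ := 2 * (q * (q ^ 2 - 1)) ^ 2
/-- `|T3|` -/
def a3 (q : ℕ) : ℕ := 2 * (q * (q - 1) * (q ^ 2 - 1))
/-- `|T4|` -/
def a4 (q : ℕ) : ℕ := 2 * (q ^ 2 * (q ^ 4 - 1))
/-- `|T5|` -/
def a5 (q : ℕ) : ℕ := 2 * (q * (q + 1) * (q ^ 2 - 1))
/-- a bound for `|T6|` -/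
def a6 (q : ℕ) : ℕ := 2 * (q ^ 4 * (q ^ 2 - 1) * (q ^ 4 - 1))
/-- a bound for the residual type `L_2(q)` -/
def a8 (f q : ℕ) : ℕ := 2 * f * (q * (q ^ 2 - 1))
/-- `|Sp₄(q)|` -/
def aS (q : ℕ) : ℕ := q ^ 4 * ((q ^ 2 - 1) * (q ^ 4 - 1))

theorem sub2 (k : ℕ) : (k + 3) ^ 2 - 1 = (k + 2) * (k + 4) := by
  rw [show (k + 3) ^ 2 = (k + 2) * (k + 4) + 1 by ring, Nat.add_sub_cancel]

theorem sub4 (k : ℕ) : (k + 3) ^ 4 - 1 = (k + 2) * (k + 4) * ((k + 3) ^ 2 + 1) := by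
  rw [show (k + 3) ^ 4 = (k + 2) * (k + 4) * ((k + 3) ^ 2 + 1) + 1 by ring, Nat.add_sub_cancel]

theorem sub1 (k : ℕ) : k + 3 - 1 = k + 2 := by omega

variable {q : ℕ}

theorem pos_sub2 (hq : 2 ≤ q) : 0 < q ^ 2 - 1 := by
  have : 2 ^ 2 ≤ q ^ 2 := Nat.pow_le_pow_left hq 2
  omega

theorem pos_sub4 (hq : 2 ≤ q) : 0 < q ^ 4 - 1 := by
  have : 2 ^ 4 ≤ q ^ 4 := Nat.pow_le_pow_left hq 4
  omega

/-- proper -/
theorem lt_a2 (hq : 3 ≤ q) : a2 q < aS q := by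
  obtain ⟨k, rfl⟩ := Nat.exists_eq_add_of_le' hq
  rw [a2, aS, sub2, sub4]
  have h : (0 : ℕ) ≤ k := Nat.zero_le k
  have h1 : 2 * ((k + 3) * ((k + 2) * (k + 4))) ^ 2 =
    ((k + 3) ^ 2 * ((k + 2) * (k + 4)) ^ 2) * 2 := by ring
  have h2 : (k + 3) ^ 4 * ((k + 2) * (k + 4) * ((k + 2) * (k + 4) * ((k + 3) ^ 2 + 1))) =
    ((k + 3) ^ 2 * ((k + 2) * (k + 4)) ^ 2) * ((k + 3) ^ 2 * ((k + 3) ^ 2 + 1)) := by ring
  rw [h1, h2]
  apply Nat.mul_lt_mul_of_pos_left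
  · nlinarith [pow_nonneg h 3, pow_nonneg h 4]
  · positivity

theorem lt_a3 (hq : 3 ≤ q) : a3 q < a2 q := by
  obtain ⟨k, rfl⟩ := Nat.exists_eq_add_of_le' hq
  rw [a2, a3, sub2, sub1]
  have h : (0 : ℕ) ≤ k := Nat.zero_le k
  nlinarith [sq_nonneg k, pow_pos (show 0 < k + 3 by omega) 2, pow_pos (show 0 < k + 2 by omega) 2,
    pow_nonneg h 3, pow_nonneg h 4, pow_nonneg h 5, pow_nonneg h 6]

theorem lt_a5 (hq : 3 ≤ q) : a5 q < a2 q := by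
  obtain ⟨k, rfl⟩ := Nat.exists_eq_add_of_le' hq
  rw [a2, a5, sub2]
  have h : (0 : ℕ) ≤ k := Nat.zero_le k
  nlinarith [sq_nonneg k, pow_pos (show 0 < k + 3 by omega) 2, pow_pos (show 0 < k + 2 by omega) 2,
    pow_nonneg h 3, pow_nonneg h 4, pow_nonneg h 5, pow_nonneg h 6]

theorem lt_a24 (hq : 3 ≤ q) : a2 q < a4 q := by
  obtain ⟨k, rfl⟩ := Nat.exists_eq_add_of_le' hq
  rw [a2, a4, sub2, sub4]
  have h : (0 : ℕ) ≤ k := Nat.zero_le k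
  nlinarith [sq_nonneg k, pow_pos (show 0 < k + 3 by omega) 2, pow_pos (show 0 < k + 2 by omega) 2,
    pow_nonneg h 3, pow_nonneg h 4, pow_nonneg h 5, pow_nonneg h 6]

theorem lt_a4S (hq : 3 ≤ q) : a4 q < aS q := by
  have h1 := pos_sub4 (q := q) (by omega)
  have h2 : 3 ^ 2 ≤ q ^ 2 := Nat.pow_le_pow_left hq 2
  have h3 : 1 ≤ q ^ 2 - 1 := by omega
  rw [a4, aS]
  have h4 : q ^ 4 * ((q ^ 2 - 1) * (q ^ 4 - 1)) = q ^ 2 * (q ^ 4 - 1) * (q ^ 2 * (q ^ 2 - 1)) := by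
    ring
  have h5 : 2 * (q ^ 2 * (q ^ 4 - 1)) = q ^ 2 * (q ^ 4 - 1) * 2 := by ring
  rw [h4, h5]
  apply Nat.mul_lt_mul_of_pos_left
  · nlinarith
  · positivity

theorem lt_a53 (hq : 3 ≤ q) : a3 q < a5 q := by
  obtain ⟨k, rfl⟩ := Nat.exists_eq_add_of_le' hq
  rw [a3, a5, sub2, sub1]
  have h : (0 : ℕ) ≤ k := Nat.zero_le k
  nlinarith [sq_nonneg k, pow_pos (show 0 < k + 3 by omega) 2, pow_pos (show 0 < k + 2 by omega) 2,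
    pow_nonneg h 3, pow_nonneg h 4, pow_nonneg h 5, pow_nonneg h 6]

/-- subfield groups are smaller -/
theorem lt_a6 {q₀ : ℕ} (h0 : 2 ≤ q₀) (h : q₀ ^ 2 ≤ q) : a6 q₀ < a2 q := by
  have h1 : q₀ ^ 4 ≤ q ^ 2 := by
    calc q₀ ^ 4 = (q₀ ^ 2) ^ 2 := by ring
      _ ≤ q ^ 2 := Nat.pow_le_pow_left h 2
  have h2 : q₀ ^ 4 - 1 ≤ q ^ 2 - 1 := Nat.sub_le_sub_right h1 1
  have h3 : 2 ^ 2 ≤ q₀ ^ 2 := Nat.pow_le_pow_left h0 2
  have h4 : q₀ ^ 2 < q₀ ^ 4 := by nlinarith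
  have h5 : q₀ ^ 2 - 1 < q₀ ^ 4 - 1 := by omega
  have h6 : 0 < q₀ ^ 4 - 1 := by omega
  rw [a6, a2]
  have h7 : 2 * (q * (q ^ 2 - 1)) ^ 2 = 2 * (q ^ 2 * (q ^ 2 - 1) * (q ^ 2 - 1)) := by ring
  rw [h7]
  apply Nat.mul_lt_mul_of_pos_left _ (by norm_num)
  calc q₀ ^ 4 * (q₀ ^ 2 - 1) * (q₀ ^ 4 - 1) < q₀ ^ 4 * (q₀ ^ 4 - 1) * (q₀ ^ 4 - 1) := by
        apply Nat.mul_lt_mul_of_pos_right _ h6
        exact Nat.mul_lt_mul_of_pos_left h5 (by omega)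
    _ ≤ q ^ 2 * (q ^ 2 - 1) * (q ^ 2 - 1) :=
        Nat.mul_le_mul (Nat.mul_le_mul h1 h2) h2

/-- the residual type `L₂(q)` is smaller -/
theorem lt_a8 {f : ℕ} (hq : 3 ≤ q) (hf : f < q) : a8 f q < a2 q := by
  rw [a8, a2]
  have h1 := pos_sub2 (q := q) (by omega)
  have h2 : 2 * (q * (q ^ 2 - 1)) ^ 2 = 2 * (q * (q ^ 2 - 1)) * (q * (q ^ 2 - 1)) := by ring
  have h3 : 2 * f * (q * (q ^ 2 - 1)) = 2 * (q * (q ^ 2 - 1)) * f := by ring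
  rw [h2, h3]
  apply Nat.mul_lt_mul_of_pos_left
  · nlinarith
  · positivity

/-! ### divisibility -/

theorem not_dvd_34 (hq : 5 ≤ q) : ¬ a3 q ∣ a4 q := by
  obtain ⟨k, rfl⟩ := Nat.exists_eq_add_of_le' (show 3 ≤ q by omega)
  rw [a3, a4, sub2, sub4, sub1]
  intro h
  have h1 : 2 * ((k + 3) ^ 2 * ((k + 2) * (k + 4) * ((k + 3) ^ 2 + 1))) =
    2 * (k + 3) * ((k + 2) * (k + 4)) * ((k + 3) * ((k + 3) ^ 2 + 1)) := by ring
  have h2 : 2 * ((k + 3) * (k + 2) * ((k + 2) * (k + 4))) =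
    2 * (k + 3) * ((k + 2) * (k + 4)) * (k + 2) := by ring
  rw [h1, h2] at h
  have h3 := Nat.dvd_of_mul_dvd_mul_left (by positivity) h
  have h4 : (k + 3) * ((k + 3) ^ 2 + 1) = (k + 2) * ((k + 3) ^ 2 + (k + 3) + 2) + 2 := by ring
  rw [h4] at h3
  have h5 := (Nat.dvd_add_right (Nat.dvd_mul_right (k + 2) _)).1 h3
  have h6 := Nat.le_of_dvd (by norm_num) h5
  omega

theorem not_dvd_35 (hq : 5 ≤ q) : ¬ a3 q ∣ a5 q := by
  obtain ⟨k, rfl⟩ := Nat.exists_eq_add_of_le' (show 3 ≤ q by omega)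
  rw [a3, a5, sub2, sub1]
  intro h
  have h1 : 2 * ((k + 3) * (k + 3 + 1) * ((k + 2) * (k + 4))) =
    2 * (k + 3) * ((k + 2) * (k + 4)) * (k + 2 + 2) := by ring
  have h2 : 2 * ((k + 3) * (k + 2) * ((k + 2) * (k + 4))) =
    2 * (k + 3) * ((k + 2) * (k + 4)) * (k + 2) := by ring
  rw [h1, h2] at h
  have h3 := Nat.dvd_of_mul_dvd_mul_left (by positivity) h
  have h5 := (Nat.dvd_add_right (dvd_refl (k + 2))).1 h3
  have h6 := Nat.le_of_dvd (by norm_num) h5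
  omega

theorem not_dvd_38 {f : ℕ} (hq : 3 ≤ q) (hf0 : 0 < f) (hf : f + 1 < q) : ¬ a3 q ∣ a8 f q := by
  obtain ⟨k, rfl⟩ := Nat.exists_eq_add_of_le' hq
  rw [a3, a8, sub2, sub1]
  intro h
  have h1 : 2 * f * ((k + 3) * ((k + 2) * (k + 4))) =
    2 * (k + 3) * ((k + 2) * (k + 4)) * f := by ring
  have h2 : 2 * ((k + 3) * (k + 2) * ((k + 2) * (k + 4))) =
    2 * (k + 3) * ((k + 2) * (k + 4)) * (k + 2) := by ring
  rw [h1, h2] at h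
  have h3 := Nat.dvd_of_mul_dvd_mul_left (by positivity) h
  have h6 := Nat.le_of_dvd hf0 h3
  omega

theorem not_dvd_54 (hq : 3 ≤ q) : ¬ a5 q ∣ a4 q := by
  obtain ⟨k, rfl⟩ := Nat.exists_eq_add_of_le' hq
  rw [a5, a4, sub2, sub4]
  intro h
  have h1 : 2 * ((k + 3) ^ 2 * ((k + 2) * (k + 4) * ((k + 3) ^ 2 + 1))) =
    2 * (k + 3) * ((k + 2) * (k + 4)) * ((k + 3) * ((k + 3) ^ 2 + 1)) := by ring
  have h2 : 2 * ((k + 3) * (k + 3 + 1) * ((k + 2) * (k + 4))) =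
    2 * (k + 3) * ((k + 2) * (k + 4)) * (k + 4) := by ring
  rw [h1, h2] at h
  have h3 := Nat.dvd_of_mul_dvd_mul_left (by positivity) h
  have h4 : (k + 3) * ((k + 3) ^ 2 + 1) + 2 = (k + 4) * ((k + 3) * (k + 2) + 2) := by ring
  have h5 : (k + 4) ∣ (k + 3) * ((k + 3) ^ 2 + 1) + 2 := by rw [h4]; exact Nat.dvd_mul_right _ _
  have h6 := (Nat.dvd_add_right h3).1 h5
  have h7 := Nat.le_of_dvd (by norm_num) h6
  omega

theorem not_dvd_58 {f : ℕ} (hq : 3 ≤ q) (hf0 : 0 < f) (hf : f + 1 < q) : ¬ a5 q ∣ a8 f q := by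
  obtain ⟨k, rfl⟩ := Nat.exists_eq_add_of_le' hq
  rw [a5, a8, sub2]
  intro h
  have h1 : 2 * f * ((k + 3) * ((k + 2) * (k + 4))) =
    2 * (k + 3) * ((k + 2) * (k + 4)) * f := by ring
  have h2 : 2 * ((k + 3) * (k + 3 + 1) * ((k + 2) * (k + 4))) =
    2 * (k + 3) * ((k + 2) * (k + 4)) * (k + 4) := by ring
  rw [h1, h2] at h
  have h3 := Nat.dvd_of_mul_dvd_mul_left (by positivity) h
  have h6 := Nat.le_of_dvd hf0 h3
  omega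

theorem dvd_a2 (q : ℕ) : q ^ 2 ∣ a2 q := by
  rw [a2, mul_pow]; exact Dvd.dvd.mul_left (Nat.dvd_mul_right _ _) 2

theorem dvd_a4 (q : ℕ) : q ^ 2 ∣ a4 q := by
  rw [a4]; exact Dvd.dvd.mul_left (Nat.dvd_mul_right _ _) 2

theorem dvd_a3 (q : ℕ) : q ∣ a3 q := by
  rw [a3, mul_assoc]; exact Dvd.dvd.mul_left (Nat.dvd_mul_right _ _) 2

theorem dvd_a5 (q : ℕ) : q ∣ a5 q := by
  rw [a5, mul_assoc]; exact Dvd.dvd.mul_left (Nat.dvd_mul_right _ _) 2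

theorem lt_pow_self {p f : ℕ} (hp : 5 ≤ p) (hf : 0 < f) : f + 1 < p ^ f := by
  have h1 : 5 ^ f ≤ p ^ f := Nat.pow_le_pow_left hp f
  refine lt_of_lt_of_le ?_ h1
  clear h1
  induction f with
  | zero => omega
  | succ n ih =>
    rcases Nat.eq_zero_or_pos n with rfl | h
    · norm_num
    · have := ih h
      rw [pow_succ]; omega

/-- no odd prime square divides 3840 -/
theorem no_sq_3840 {p : ℕ} (hp : p.Prime) (h2 : p ≠ 2) : ¬ p ^ 2 ∣ 3840 := by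
  intro h
  have h1 : p ∣ 3840 := (Dvd.intro_left (p ^ 1) (by ring)).trans h
  rw [show 3840 = 2 ^ 8 * (3 * 5) by norm_num] at h1
  rcases (Nat.Prime.dvd_mul hp).1 h1 with h3 | h3
  · exact h2 ((Nat.prime_dvd_prime_iff_eq hp Nat.prime_two).1 (hp.dvd_of_dvd_pow h3))
  · rcases (Nat.Prime.dvd_mul hp).1 h3 with h4 | h4
    · rw [(Nat.prime_dvd_prime_iff_eq hp Nat.prime_three).1 h4] at h
      revert h; decide
    · rw [(Nat.prime_dvd_prime_iff_eq hp Nat.prime_five).1 h4] at h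
      revert h; decide

theorem five_of_3840 {p : ℕ} (hp : p.Prime) (h5 : 5 ≤ p) (h : p ∣ 3840) : p = 5 := by
  rw [show 3840 = 2 ^ 8 * (3 * 5) by norm_num] at h
  rcases (Nat.Prime.dvd_mul hp).1 h with h3 | h3
  · have := (Nat.prime_dvd_prime_iff_eq hp Nat.prime_two).1 (hp.dvd_of_dvd_pow h3)
    omega
  · rcases (Nat.Prime.dvd_mul hp).1 h3 with h4 | h4
    · have := (Nat.prime_dvd_prime_iff_eq hp Nat.prime_three).1 h4
      omega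
    · exact (Nat.prime_dvd_prime_iff_eq hp Nat.prime_five).1 h4

theorem five_of_2880 {p : ℕ} (hp : p.Prime) (h5 : 5 ≤ p) (h : p ∣ 2880) : p = 5 := by
  rw [show 2880 = 2 ^ 6 * (3 ^ 2 * 5) by norm_num] at h
  rcases (Nat.Prime.dvd_mul hp).1 h with h3 | h3
  · have := (Nat.prime_dvd_prime_iff_eq hp Nat.prime_two).1 (hp.dvd_of_dvd_pow h3)
    omega
  · rcases (Nat.Prime.dvd_mul hp).1 h3 with h4 | h4
    · have := (Nat.prime_dvd_prime_iff_eq hp Nat.prime_three).1 (hp.dvd_of_dvd_pow h4)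
      omega
    · exact (Nat.prime_dvd_prime_iff_eq hp Nat.prime_five).1 h4

theorem a3_five : a3 5 = 960 := by norm_num [a3]
theorem a5_five : a5 5 = 1440 := by norm_num [a5]
theorem a3_seven : a3 7 = 4032 := by norm_num [a3]
theorem a5_seven : a5 7 = 5376 := by norm_num [a5]

end Cfsg.Agent.H909.Sp4Arith
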