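import Mathlib
import Cfsg.Prelude.Def_GeometricClasses
import Cfsg.Agent.Schreier.ClassBase
import Cfsg.Agent.H909.Sp4List
import Cfsg.Agent.H909.Sp4Arith
import Cfsg.Agent.H955.Sp
import Cfsg.Agent.H909.FieldGen
import Cfsg.Agent.H910.Transv
import Cfsg.Agent.H930.SpOrd
import Cfsg.Agent.H328.Sp4TI
import Cfsg.Agent.H97.Sp4Sub
import Cfsg.Agent.H753.ResCard
import Cfsg.Agent.H64.Sp4Seven

/-!
# The geometric maximal subgroups of `Sp₄(q)`, `q` odd (helper909)
-/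

set_option autoImplicit false

namespace Cfsg.Agent.H909.Sp4Geom

open Cfsg Cfsg.Geo Matrix
open scoped commutatorElement
open Cfsg.Agent.H909.Sp4List Cfsg.Agent.H909.Sp4Arith

universe u

variable {F : Type u} [Field F]

theorem mem_stab_of_map {W : Submodule F (I4 → F)} {g : GL I4 F}
    (h : W.map (Matrix.toLin' (g : Matrix I4 I4 F)) = W) : g ∈ subspaceStabilizer W := by
  intro v
  constructor
  · intro hv
    rw [SetLike.mem_coe] at hv ⊢
    rw [← h]
    exact ⟨v, hv, by rw [Matrix.toLin'_apply]; rfl⟩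
  · intro hv
    rw [SetLike.mem_coe] at hv ⊢
    rw [← h] at hv
    obtain ⟨w, hw, hwv⟩ := hv
    rw [Matrix.toLin'_apply] at hwv
    have h1 : v = w := by
      have h2 : ((g⁻¹ : GL I4 F) : Matrix I4 I4 F) *ᵥ ((g : Matrix I4 I4 F) *ᵥ w) =
        ((g⁻¹ : GL I4 F) : Matrix I4 I4 F) *ᵥ ((g : Matrix I4 I4 F) *ᵥ v) := by
        rw [hwv]; rfl
      rw [Matrix.mulVec_mulVec, Matrix.mulVec_mulVec, ← Units.val_mul, inv_mul_cancel,
        Units.val_one, Matrix.one_mulVec, Matrix.one_mulVec] at h2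
      exact h2.symm
    rw [h1]; exact hw

theorem map_of_mem_stab {W : Submodule F (I4 → F)} {g : GL I4 F}
    (h : g ∈ subspaceStabilizer W) : W.map (Matrix.toLin' (g : Matrix I4 I4 F)) ≤ W := by
  rintro _ ⟨v, hv, rfl⟩
  rw [Matrix.toLin'_apply]
  exact (h v).1 hv

/-- A perfect group permuting two subspaces fixes both. -/
theorem perfect_fix {D : Fin 2 → Submodule F (I4 → F)} {P : Subgroup (GL I4 F)} (hP : ⁅P, P⁆ = P)
    (hle : P ≤ decompositionStabilizer D) (i : Fin 2) : P ≤ subspaceStabilizer (D i) := by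
  rw [← hP, Subgroup.commutator_le]
  intro g hg h hh
  obtain ⟨σ, hσ⟩ := hle hg
  obtain ⟨τ, hτ⟩ := hle hh
  obtain ⟨σ', hσ'⟩ := hle (P.inv_mem hg)
  obtain ⟨τ', hτ'⟩ := hle (P.inv_mem hh)
  have hcomm : ∀ a b : Equiv.Perm (Fin 2), a * b = b * a := by decide
  apply mem_stab_of_map
  have key : ∀ j, (D j).map (Matrix.toLin' ((⁅g, h⁆ : GL I4 F) : Matrix I4 I4 F)) =
      D (σ (τ (σ' (τ' j)))) := by
    intro j
    rw [commutatorElement_def, Units.val_mul, Units.val_mul, Units.val_mul, Matrix.toLin'_mul,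
      Matrix.toLin'_mul, Matrix.toLin'_mul, Submodule.map_comp, Submodule.map_comp,
      Submodule.map_comp, hτ', hσ', hτ, hσ]
  have h1 : ∀ j, D (σ (σ' j)) = D j := by
    intro j
    rw [← hσ, ← hσ', ← Submodule.map_comp, ← Matrix.toLin'_mul, ← Units.val_mul, mul_inv_cancel,
      Units.val_one, Matrix.toLin'_one, Submodule.map_id]
  have h2 : ∀ j, D (τ (τ' j)) = D j := by
    intro j
    rw [← hτ, ← hτ', ← Submodule.map_comp, ← Matrix.toLin'_mul, ← Units.val_mul, mul_inv_cancel,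
      Units.val_one, Matrix.toLin'_one, Submodule.map_id]
  have h3 : ∀ j, τ (σ' j) = σ' (τ j) := by
    intro j
    have := congrArg (fun x : Equiv.Perm (Fin 2) => x j) (hcomm τ σ')
    simpa using this
  rw [key, h3, h1, h2]

theorem not_fix_of_irr {D : Fin 2 → Submodule F (I4 → F)} (hD : IsMDecomposition 2 D)
    {P : Subgroup (GL I4 F)} (hirr : ActsAbsolutelyIrreducibly (matrixSet P)) (hP : ⁅P, P⁆ = P)
    (hle : P ≤ decompositionStabilizer D) : False := by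
  have h1 := perfect_fix hP hle 0
  have h2 := hD.finrank_eq 0
  rcases hirr.1 (D 0) (by
    rintro _ ⟨g, hg, rfl⟩
    exact map_of_mem_stab (h1 hg)) with h | h
  · rw [h, finrank_bot] at h2
    omega
  · rw [h, finrank_top, Module.finrank_fintype_fun_eq_card] at h2
    simp [I4] at h2

/-- A perfect group normalising a quadratic field of unitary type is not absolutely irreducible. -/
theorem not_norm_of_irr (h2 : (2 : F) ≠ 0) {K : Subalgebra F (Matrix I4 I4 F)}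
    (hK : IsFieldSubalgebra 2 K) (hac : IsAdjointClosedFor (sympForm 2 F) K)
    (hns : ¬ IsSelfAdjointFor (sympForm 2 F) K)
    {P : Subgroup (GL I4 F)} (hirr : ActsAbsolutelyIrreducibly (matrixSet P)) (hP : ⁅P, P⁆ = P)
    (hle : P ≤ subalgebraNormalizer K) : False := by
  obtain ⟨s, hsK, b, hs2, hb, -, hgen⟩ := Cfsg.Agent.H909.exists_skew_generator h2 hK hac hns
  have hb0 : b ≠ 0 := fun h => hb ⟨0, by rw [h, mul_zero]⟩
  -- conjugates of `s`
  have hconj : ∀ g ∈ P, (g : Matrix I4 I4 F) * s * ((g⁻¹ : GL I4 F) : Matrix I4 I4 F) = s ∨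
      (g : Matrix I4 I4 F) * s * ((g⁻¹ : GL I4 F) : Matrix I4 I4 F) = -s := by
    intro g hg
    set x := (g : Matrix I4 I4 F) * s * ((g⁻¹ : GL I4 F) : Matrix I4 I4 F) with hx
    have hxK : x ∈ K := ((hle hg) s).1 hsK
    have hgi : ((g⁻¹ : GL I4 F) : Matrix I4 I4 F) * (g : Matrix I4 I4 F) = 1 := by
      rw [← Units.val_mul, inv_mul_cancel, Units.val_one]
    have hgi' : (g : Matrix I4 I4 F) * ((g⁻¹ : GL I4 F) : Matrix I4 I4 F) = 1 := by
      rw [← Units.val_mul, mul_inv_cancel, Units.val_one]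
    have hx2 : x * x = b • 1 := by
      calc x * x = (g : Matrix I4 I4 F) * s * (((g⁻¹ : GL I4 F) : Matrix I4 I4 F) *
            (g : Matrix I4 I4 F)) * s * ((g⁻¹ : GL I4 F) : Matrix I4 I4 F) := by
            rw [hx]; simp only [Matrix.mul_assoc]
        _ = (g : Matrix I4 I4 F) * (s * s) * ((g⁻¹ : GL I4 F) : Matrix I4 I4 F) := by
            rw [hgi, Matrix.mul_one]; simp only [Matrix.mul_assoc]
        _ = b • 1 := by
            rw [hs2, Matrix.mul_smul, Matrix.mul_one, Matrix.smul_mul, hgi']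
    have hprod : (x - s) * (x + s) = 0 := by
      rw [sub_mul, mul_add, mul_add, hx2, hs2, hK.comm x hxK s hsK]
      abel
    by_cases h1 : x - s = 0
    · exact Or.inl (sub_eq_zero.1 h1)
    · right
      obtain ⟨y, hyK, hy⟩ := hK.inv (x - s) (K.sub_mem hxK hsK) h1
      have h3 : y * (x - s) = 1 := by rw [hK.comm y hyK _ (K.sub_mem hxK hsK), hy]
      have h4 : x + s = 0 := by
        calc x + s = y * (x - s) * (x + s) := by rw [h3, one_mul]
          _ = 0 := by rw [mul_assoc, hprod, mul_zero]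
      exact eq_neg_of_add_eq_zero_left h4
  -- the centraliser of `s`
  let C : Subgroup (GL I4 F) :=
    { carrier := {g | (g : Matrix I4 I4 F) * s * ((g⁻¹ : GL I4 F) : Matrix I4 I4 F) = s}
      mul_mem' := by
        intro g h hg hh
        rw [Set.mem_ofPred_eq] at hg hh ⊢
        calc ((g * h : GL I4 F) : Matrix I4 I4 F) * s * (((g * h)⁻¹ : GL I4 F) : Matrix I4 I4 F) =
            (g : Matrix I4 I4 F) * ((h : Matrix I4 I4 F) * s * ((h⁻¹ : GL I4 F) : Matrix I4 I4 F)) *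
              ((g⁻¹ : GL I4 F) : Matrix I4 I4 F) := by
              rw [_root_.mul_inv_rev, Units.val_mul, Units.val_mul]
              simp only [Matrix.mul_assoc]
          _ = s := by rw [hh, hg]
      one_mem' := by simp
      inv_mem' := by
        intro g hg
        rw [Set.mem_ofPred_eq] at hg ⊢
        have hgi : ((g⁻¹ : GL I4 F) : Matrix I4 I4 F) * (g : Matrix I4 I4 F) = 1 := by
          rw [← Units.val_mul, inv_mul_cancel, Units.val_one]
        calc ((g⁻¹ : GL I4 F) : Matrix I4 I4 F) * s * (((g⁻¹)⁻¹ : GL I4 F) : Matrix I4 I4 F) =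
            ((g⁻¹ : GL I4 F) : Matrix I4 I4 F) * ((g : Matrix I4 I4 F) * s *
              ((g⁻¹ : GL I4 F) : Matrix I4 I4 F)) * (g : Matrix I4 I4 F) := by rw [hg, inv_inv]
          _ = (((g⁻¹ : GL I4 F) : Matrix I4 I4 F) * (g : Matrix I4 I4 F)) * s *
              (((g⁻¹ : GL I4 F) : Matrix I4 I4 F) * (g : Matrix I4 I4 F)) := by
              simp only [Matrix.mul_assoc]
          _ = s := by rw [hgi, one_mul, mul_one] }
  have hPC : P ≤ C := by
    rw [← hP, Subgroup.commutator_le]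
    intro g hg h hh
    change ((⁅g, h⁆ : GL I4 F) : Matrix I4 I4 F) * s * (((⁅g, h⁆)⁻¹ : GL I4 F) : Matrix I4 I4 F) = s
    have hact : ∀ a b : GL I4 F, ((a * b : GL I4 F) : Matrix I4 I4 F) * s *
        (((a * b)⁻¹ : GL I4 F) : Matrix I4 I4 F) =
        (a : Matrix I4 I4 F) * ((b : Matrix I4 I4 F) * s * ((b⁻¹ : GL I4 F) : Matrix I4 I4 F)) *
          ((a⁻¹ : GL I4 F) : Matrix I4 I4 F) := by
      intro a b
      rw [_root_.mul_inv_rev, Units.val_mul, Units.val_mul]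
      simp only [Matrix.mul_assoc]
    have hneg : ∀ a : GL I4 F, (a : Matrix I4 I4 F) * (-s) * ((a⁻¹ : GL I4 F) : Matrix I4 I4 F) =
        -((a : Matrix I4 I4 F) * s * ((a⁻¹ : GL I4 F) : Matrix I4 I4 F)) := by
      intro a; rw [mul_neg, neg_mul]
    -- signs
    have hsgn : ∀ a ∈ P, ∃ ε : F, ε * ε = 1 ∧ (a : Matrix I4 I4 F) * s *
        ((a⁻¹ : GL I4 F) : Matrix I4 I4 F) = ε • s := by
      intro a ha
      rcases hconj a ha with h1 | h1
      · exact ⟨1, by ring, by rw [h1, one_smul]⟩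
      · exact ⟨-1, by ring, by rw [h1, neg_smul, one_smul]⟩
    have hinv : ∀ (a : GL I4 F) (ε : F), ε * ε = 1 → (a : Matrix I4 I4 F) * s *
        ((a⁻¹ : GL I4 F) : Matrix I4 I4 F) = ε • s → ((a⁻¹ : GL I4 F) : Matrix I4 I4 F) * s *
        (((a⁻¹)⁻¹ : GL I4 F) : Matrix I4 I4 F) = ε • s := by
      intro a ε hε ha
      have h1 := hact a⁻¹ a
      rw [ha, inv_mul_cancel, Matrix.mul_smul, Matrix.smul_mul, inv_one, Units.val_one, one_mul,
        mul_one] at h1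
      calc _ = (ε * ε) • (((a⁻¹ : GL I4 F) : Matrix I4 I4 F) * s *
          (((a⁻¹)⁻¹ : GL I4 F) : Matrix I4 I4 F)) := by rw [hε, one_smul]
        _ = ε • (ε • (((a⁻¹ : GL I4 F) : Matrix I4 I4 F) * s *
          (((a⁻¹)⁻¹ : GL I4 F) : Matrix I4 I4 F))) := by rw [mul_smul]
        _ = ε • s := by rw [← h1]
    obtain ⟨ε, hε, he⟩ := hsgn g hg
    obtain ⟨δ, hδ, hd⟩ := hsgn h hh
    have he' := hinv g ε hε he
    have hd' := hinv h δ hδ hd
    have hsm : ∀ (a : GL I4 F) (c : F), (a : Matrix I4 I4 F) * (c • s) *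
        ((a⁻¹ : GL I4 F) : Matrix I4 I4 F) = c • ((a : Matrix I4 I4 F) * s *
        ((a⁻¹ : GL I4 F) : Matrix I4 I4 F)) := by
      intro a c; rw [Matrix.mul_smul, Matrix.smul_mul]
    rw [commutatorElement_def, hact, hd', hsm, hact, he', hsm, hact, hd, hsm, he, smul_smul,
      smul_smul, smul_smul]
    have : δ * ε * δ * ε = (δ * δ) * (ε * ε) := by ring
    rw [this, hδ, hε, one_mul, one_smul]
  obtain ⟨c, hc⟩ := hirr.2 s (by
    rintro _ ⟨g, hg, rfl⟩
    have h1 : (g : Matrix I4 I4 F) * s * ((g⁻¹ : GL I4 F) : Matrix I4 I4 F) = s := hPC hg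
    have hgi : ((g⁻¹ : GL I4 F) : Matrix I4 I4 F) * (g : Matrix I4 I4 F) = 1 := by
      rw [← Units.val_mul, inv_mul_cancel, Units.val_one]
    calc s * (g : Matrix I4 I4 F) = (g : Matrix I4 I4 F) * s *
          (((g⁻¹ : GL I4 F) : Matrix I4 I4 F) * (g : Matrix I4 I4 F)) := by
          rw [← Matrix.mul_assoc, h1]
      _ = (g : Matrix I4 I4 F) * s := by rw [hgi, mul_one])
  apply hb
  refine ⟨c, ?_⟩
  have h3 : (c * c) • (1 : Matrix I4 I4 F) = b • 1 := by
    rw [← hs2, hc, Matrix.smul_mul, one_mul, smul_smul]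
  have h4 := congrFun (congrFun h3 (Sum.inl 0)) (Sum.inl 0)
  simpa using h4.symm

/-! ### orders -/

section Orders

variable [Fintype F]

theorem three_le (hodd : Odd (Fintype.card F)) : 3 ≤ Nat.card F := by
  have h1 : 1 < Nat.card F := Finite.one_lt_card
  rw [← Nat.card_eq_fintype_card] at hodd
  obtain ⟨k, hk⟩ := hodd
  omega

theorem card_S : Nat.card (spGL 2 F) = aS (Nat.card F) := by
  rw [Cfsg.Agent.H955.card_spGL, aS]
  simp [Finset.prod_range_succ]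

theorem card_of_T2 (h2 : (2 : F) ≠ 0) {L : Subgroup (GL I4 F)} (h : T2 L) :
    Nat.card L = a2 (Nat.card F) := by
  obtain ⟨D, hD, rfl⟩ := h
  exact Cfsg.Agent.H930.Sp4Ord.card_T2 h2 hD

theorem card_of_T3 (h2 : (2 : F) ≠ 0) {L : Subgroup (GL I4 F)} (h : T3 L) :
    Nat.card L = a3 (Nat.card F) := by
  obtain ⟨-, D, hD, hs, rfl⟩ := h
  exact Cfsg.Agent.H328.Sp4TI.card_T3 h2 hD hs

theorem card_of_T4 (h2 : (2 : F) ≠ 0) {L : Subgroup (GL I4 F)} (h : T4 L) :
    Nat.card L = a4 (Nat.card F) := by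
  obtain ⟨K, hK, hsa, hkv, rfl⟩ := h
  exact Cfsg.Agent.H930.Sp4Ord.card_T4 h2 hK hsa hkv

theorem card_of_T5 (h2 : (2 : F) ≠ 0) {L : Subgroup (GL I4 F)} (h : T5 L) :
    Nat.card L = a5 (Nat.card F) := by
  obtain ⟨-, K, hK, hac, hns, rfl⟩ := h
  exact Cfsg.Agent.H930.Sp4Ord.card_T5 h2 hK hac hns

theorem sub_of_T6 {L : Subgroup (GL I4 F)} (h : T6 L) (h2 : (2 : F) ≠ 0) :
    ∃ F₀ : Subfield F, Nat.card F₀ ^ 2 ≤ Nat.card F ∧ F₀ ≠ ⊤ ∧ 2 ≤ Nat.card F₀ ∧
      Nat.card L ∣ a6 (Nat.card F₀) ∧ ∀ g ∈ L, (g : Matrix I4 I4 F).trace ^ 2 ∈ F₀ := by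
  obtain ⟨F₀, r, P, ζ, hr, hc, hζ, hP, rfl⟩ := h
  have h1 : 1 < Nat.card F₀ := Finite.one_lt_card
  rw [← Nat.card_eq_fintype_card] at hc
  have h3 : Nat.card F₀ ^ 2 ≤ Nat.card F := by
    rw [hc]; exact Nat.pow_le_pow_right (by omega) hr.two_le
  refine ⟨F₀, h3, ?_, h1, Cfsg.Agent.H97.Sp4Sub.card_T6_dvd h2 hζ hP, fun g hg =>
    Cfsg.Agent.H97.Sp4Sub.T6_trace h2 hζ hP hg⟩
  rintro rfl
  have h4 : Nat.card (⊤ : Subfield F) = Nat.card F :=
    Nat.card_congr (Subfield.topEquiv (K := F)).toEquiv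
  rw [h4] at h3 h1
  nlinarith

/-- If all traces occur, the group is not in a subfield group. -/
theorem not_T6_of_trace (h2 : (2 : F) ≠ 0) {M L : Subgroup (GL I4 F)} (hML : M ≤ L) (h : T6 L)
    (ht : ∀ t : F, ∃ g ∈ M, (g : Matrix I4 I4 F).trace = t) : False := by
  obtain ⟨F₀, -, htop, -, -, htr⟩ := sub_of_T6 h h2
  have hsq : ∀ t : F, t ^ 2 ∈ F₀ := by
    intro t
    obtain ⟨g, hg, rfl⟩ := ht t
    exact htr g (hML hg)
  apply htop
  rw [eq_top_iff]
  intro t _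
  have h1 : t = ((t + 1) ^ 2 - t ^ 2 - 1) / 2 := by
    field_simp
    ring
  rw [h1]
  have h3 : (2 : F) ∈ F₀ := by
    have : (2 : F) = 1 + 1 := by norm_num
    rw [this]; exact F₀.add_mem F₀.one_mem F₀.one_mem
  exact F₀.div_mem (F₀.sub_mem (F₀.sub_mem (hsq _) (hsq _)) F₀.one_mem) h3

theorem resl_cases (hodd : Odd (Fintype.card F)) {L : Subgroup (GL I4 F)} (hL : L ≤ spGL 2 F)
    (h : ResL L) :
    (∃ P, IsResidualCore L P ∧ (Nat.card F).Prime ∧ 5 ≤ Nat.card F ∧ Nat.card L ∣ 2880) ∨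
    (Nat.card F = 7 ∧ Nat.card L ∣ 10080) ∨
    (∃ f, 0 < f ∧ f + 1 < Nat.card F ∧ Nat.card L ∣ a8 f (Nat.card F)) := by
  obtain ⟨P, p, hcore, hp, hchar, h | h | h⟩ := h
  · obtain ⟨⟨e⟩, h1, h5, -⟩ := h
    left
    rw [← Nat.card_eq_fintype_card] at h1
    refine ⟨P, hcore, by rw [h1]; exact hp, by omega, Cfsg.Agent.H753.ResCard.card_A6 hL hcore e⟩
  · obtain ⟨⟨e⟩, h1⟩ := h
    right; left
    exact ⟨by rw [Nat.card_eq_fintype_card]; exact h1, Cfsg.Agent.H753.ResCard.card_A7 hL hcore e⟩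
  · obtain ⟨⟨e⟩, h5, h7⟩ := h
    right; right
    obtain ⟨n, -, hn⟩ := FiniteField.card F p
    refine ⟨n, n.2, ?_, ?_⟩
    · rw [Nat.card_eq_fintype_card, hn]
      exact Sp4Arith.lt_pow_self h5 n.2
    · exact Cfsg.Agent.H753.ResCard.card_L2 hp hn hodd (by omega) hL hcore e

end Orders

end Cfsg.Agent.H909.Sp4Geom
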