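import Cfsg.Agent.H909.Sp4Geom

/-!
# The geometric maximal subgroups of `Sp₄(q)`, `q` odd: parts (2)-(5) (helper909)
-/

set_option autoImplicit false

namespace Cfsg.Agent.H909.Sp4Geom

open Cfsg Cfsg.Geo Matrix
open Cfsg.Agent.H909.Sp4List Cfsg.Agent.H909.Sp4Arith

universe u

variable {F : Type u} [Field F] [Fintype F]

/-- the order of `T7` -/
def CardT7 (F : Type u) [Field F] [Fintype F] : Prop :=
  ∀ H : Subgroup (GL I4 F), T7 H → Nat.card H ∣ 3840

theorem eq_of_card {M L : Subgroup (GL I4 F)} (hML : M ≤ L) (h : Nat.card L ≤ Nat.card M) : M = L :=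
  Subgroup.eq_of_le_of_card_ge hML h

theorem prime_of_T7 {L : Subgroup (GL I4 F)} (h : T7 L) : (Nat.card F).Prime := by
  obtain ⟨p, R, hp, hc, -⟩ := h
  rw [Nat.card_eq_fintype_card, hc]; exact hp

theorem two_ne (hodd : Odd (Fintype.card F)) : (2 : F) ≠ 0 := by
  intro h2
  have : CharP F 2 := CharTwo.of_one_ne_zero_of_two_eq_zero one_ne_zero h2
  obtain ⟨n, -, hn⟩ := FiniteField.card F 2
  rw [hn] at hodd
  exact (Nat.not_even_iff_odd.2 hodd) (Even.pow_of_ne_zero even_two n.2.ne')

/-- The large types `T2`, `T4`. -/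
theorem big_maximal (hodd : Odd (Fintype.card F)) (h88 : Res88 F) (h7 : CardT7 F)
    {M : Subgroup (GL I4 F)} (hM : M ≤ spGL 2 F) (hT : T2 M ∨ T4 M) : IsMaximalIn (spGL 2 F) M := by
  have h2 := two_ne hodd
  have hq := three_le hodd
  have hodd' : Odd (Nat.card F) := by rw [Nat.card_eq_fintype_card]; exact hodd
  have hc : Nat.card M = a2 (Nat.card F) ∨ Nat.card M = a4 (Nat.card F) := by
    rcases hT with h | h
    · exact Or.inl (card_of_T2 h2 h)
    · exact Or.inr (card_of_T4 h2 h)
  have hlt : a2 (Nat.card F) ≤ Nat.card M := by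
    rcases hc with h | h
    · exact h.ge
    · rw [h]; exact (lt_a24 hq).le
  have hdvd2 : (Nat.card F) ^ 2 ∣ Nat.card M := by
    rcases hc with h | h
    · rw [h]; exact dvd_a2 (Nat.card F)
    · rw [h]; exact dvd_a4 (Nat.card F)
  refine maximal_of hM ?_ (fun L hL hML => ?_)
  · intro h
    have h1 : Nat.card M = aS (Nat.card F) := by rw [h]; exact card_S
    rcases hc with h3 | h3
    · exact (lt_a2 hq).ne (h3.symm.trans h1)
    · exact (lt_a4S hq).ne (h3.symm.trans h1)
  · have hdvd : Nat.card M ∣ Nat.card L := Subgroup.card_dvd_of_le hML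
    have hle : Nat.card M ≤ Nat.card L := Nat.le_of_dvd Nat.card_pos hdvd
    rcases list hodd h88 hL with h | h | h | h | h | h | h | h
    · exfalso
      refine Cfsg.Agent.H64.Sp4Three.irr_T2 h2 ?_ h hML
      rcases hT with h1 | h1
      · exact Or.inl h1
      · exact Or.inr (Or.inr (Or.inl h1))
    · have h1 := card_of_T2 h2 h
      exact eq_of_card hML (by rw [h1]; exact hlt)
    · have h1 := card_of_T3 h2 h
      have := lt_a3 hq
      exfalso; rw [h1] at hle; omega
    · have h1 := card_of_T4 h2 h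
      rcases hc with h3 | h3
      · exfalso
        rw [h1, h3] at hdvd
        -- `(Nat.card F)² - 1 ∣ (Nat.card F)² + 1`
        obtain ⟨k, hk⟩ := Nat.exists_eq_add_of_le' hq
        rw [hk] at hdvd
        rw [a2, a4, sub2, sub4] at hdvd
        have h4 : 2 * ((k + 3) ^ 2 * ((k + 2) * (k + 4) * ((k + 3) ^ 2 + 1))) =
          2 * (k + 3) ^ 2 * ((k + 2) * (k + 4)) * ((k + 3) ^ 2 + 1) := by ring
        have h5 : 2 * ((k + 3) * ((k + 2) * (k + 4))) ^ 2 =
          2 * (k + 3) ^ 2 * ((k + 2) * (k + 4)) * ((k + 2) * (k + 4)) := by ring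
        rw [h4, h5] at hdvd
        have h6 := Nat.dvd_of_mul_dvd_mul_left (by positivity) hdvd
        have h7 : (k + 3) ^ 2 + 1 = (k + 2) * (k + 4) + 2 := by ring
        rw [h7] at h6
        have h8 := (Nat.dvd_add_right (dvd_refl ((k + 2) * (k + 4)))).1 h6
        have h9 := Nat.le_of_dvd (by norm_num) h8
        nlinarith
      · exact eq_of_card hML (by rw [h1, h3])
    · have h1 := card_of_T5 h2 h
      have := lt_a5 hq
      exfalso; rw [h1] at hle; omega
    · exfalso
      obtain ⟨F₀, h3, -, h4, h5, -⟩ := sub_of_T6 h h2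
      have h6 := lt_a6 h4 h3
      have h8 := Nat.le_of_dvd (by
        rw [a6]
        have := pos_sub2 h4
        have := pos_sub4 h4
        positivity) h5
      exact absurd ((hlt.trans hle).trans h8) (not_le.2 h6)
    · exfalso
      have h3 := prime_of_T7 h
      refine no_sq_3840 h3 ?_ (hdvd2.trans (hdvd.trans (h7 L h)))
      rintro h4
      omega
    · exfalso
      rcases resl_cases hodd hL.1.le h with ⟨P, -, h3, h5, h6⟩ | ⟨h3, h6⟩ | ⟨f, h3, h5, h6⟩
      · have h8 := (hdvd2.trans (hdvd.trans h6))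
        have h9 := five_of_2880 h3 h5 ((Dvd.intro_left ((Nat.card F) ^ 1) (by ring)).trans h8)
        rw [h9] at h8
        revert h8; decide
      · have h8 := (hdvd2.trans (hdvd.trans h6))
        rw [h3] at h8
        revert h8; decide
      · have h8 := lt_a8 (f := f) hq (by omega)
        have h9 := Nat.le_of_dvd (by
          rw [a8]
          have := pos_sub2 (q := Nat.card F) (by omega)
          positivity) h6
        exact absurd ((hlt.trans hle).trans h9) (not_le.2 h8)

/-- the small types -/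
theorem index_le {M L P : Subgroup (GL I4 F)} (hML : M ≤ L) (hP : ⁅P, P⁆ = P) (hPL : P ≤ L)
    (h4 : Nat.card L ≤ 4 * Nat.card M) : P ≤ M := by
  have h1 : (M.subgroupOf L).index ≤ 4 := by
    have h2 := Subgroup.card_mul_index (M.subgroupOf L)
    rw [Nat.card_congr (Subgroup.subgroupOfEquivOfLe hML).toEquiv] at h2
    have h3 : 0 < Nat.card M := Nat.card_pos
    by_contra hcon
    push Not at hcon
    nlinarith
  have hP' : ⁅P.subgroupOf L, P.subgroupOf L⁆ = P.subgroupOf L := by
    apply Subgroup.map_injective L.subtype_injective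
    rw [Subgroup.map_commutator, Subgroup.map_subgroupOf_eq_of_le hPL, hP]
  have h5 := Cfsg.Agent.Schreier.ClassBase.le_of_index_le_four hP' (M.subgroupOf L)
    Subgroup.index_ne_zero_of_finite h1
  intro x hx
  exact h5 (show (⟨x, hPL hx⟩ : L) ∈ P.subgroupOf L from hx)

theorem part3 (hodd : Odd (Fintype.card F)) (h88 : Res88 F) (h7 : CardT7 F)
    (h5 : 5 ≤ Fintype.card F) {D : Fin 2 → Submodule F (I4 → F)} (hD : IsMDecomposition 2 D)
    (hs : ∀ i, IsTotallySingularFor (sympForm 2 F) (D i)) :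
    IsMaximalIn (spGL 2 F) (decompositionStabilizer D ⊓ spGL 2 F) := by
  have h2 := two_ne hodd
  have hq := three_le hodd
  have hq5 : 5 ≤ (Nat.card F) := by rw [Nat.card_eq_fintype_card]; exact h5
  set M := decompositionStabilizer D ⊓ spGL 2 F with hMd
  have hT : T3 M := ⟨h5, D, hD, hs, rfl⟩
  have hc : Nat.card M = a3 (Nat.card F) := card_of_T3 h2 hT
  refine maximal_of inf_le_right ?_ (fun L hL hML => ?_)
  · intro h
    have h1 : Nat.card M = aS (Nat.card F) := by rw [h]; exact card_S
    have h3 := lt_a2 hq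
    have h4 := lt_a3 hq
    omega
  · have hdvd : Nat.card M ∣ Nat.card L := Subgroup.card_dvd_of_le hML
    have hle : Nat.card M ≤ Nat.card L := Nat.le_of_dvd Nat.card_pos hdvd
    rw [hc] at hdvd hle
    rcases list hodd h88 hL with h | h | h | h | h | h | h | h
    · exact (Cfsg.Agent.H64.Sp4Three.irr_T2 h2 (Or.inr (Or.inl hT)) h hML).elim
    · exact (Cfsg.Agent.H64.Sp4Three.T3_T2 h5 hodd hD hs h hML).elim
    · exact eq_of_card hML (by rw [card_of_T3 h2 h, hc])
    · exfalso
      rw [card_of_T4 h2 h] at hdvd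
      exact not_dvd_34 hq5 hdvd
    · exfalso
      rw [card_of_T5 h2 h] at hdvd
      exact not_dvd_35 hq5 hdvd
    · exact (not_T6_of_trace h2 hML h (Cfsg.Agent.H328.Sp4TI.T3_trace h2 hD hs)).elim
    · exfalso
      have h3 := five_of_3840 (prime_of_T7 h) hq5 (((dvd_a3 (Nat.card F)).trans hdvd).trans (h7 L h))
      rw [Nat.card_eq_fintype_card] at h3
      exact Cfsg.Agent.H64.Sp4Seven.T3_T7 h3 hD hs h hML
    · exfalso
      rcases resl_cases hodd hL.1.le h with ⟨P, hcore, h3, h5', h6⟩ | ⟨h3, h6⟩ | ⟨f, h3, h5', h6⟩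
      · have h8 : (Nat.card F) = 5 := five_of_2880 h3 h5' (((dvd_a3 (Nat.card F)).trans hdvd).trans h6)
        rw [h8, a3_five] at hdvd hc
        have h9 : P ≤ M := index_le hML hcore.perfect hcore.le (by
          have := Nat.le_of_dvd (by norm_num) h6
          omega)
        exact not_fix_of_irr hD hcore.absIrred hcore.perfect (h9.trans inf_le_left)
      · rw [h3, a3_seven] at hdvd
        have := hdvd.trans h6
        revert this; decide
      · exact not_dvd_38 hq h3 h5' (hdvd.trans h6)

theorem part5 (hodd : Odd (Fintype.card F)) (h88 : Res88 F) (h7 : CardT7 F)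
    (h5 : 5 ≤ Fintype.card F) {K : Subalgebra F (Matrix I4 I4 F)} (hK : IsFieldSubalgebra 2 K)
    (hac : IsAdjointClosedFor (sympForm 2 F) K) (hns : ¬ IsSelfAdjointFor (sympForm 2 F) K) :
    IsMaximalIn (spGL 2 F) (subalgebraNormalizer K ⊓ spGL 2 F) := by
  have h2 := two_ne hodd
  have hq := three_le hodd
  have hq5 : 5 ≤ (Nat.card F) := by rw [Nat.card_eq_fintype_card]; exact h5
  set M := subalgebraNormalizer K ⊓ spGL 2 F with hMd
  have hT : T5 M := ⟨h5, K, hK, hac, hns, rfl⟩
  have hc : Nat.card M = a5 (Nat.card F) := card_of_T5 h2 hT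
  refine maximal_of inf_le_right ?_ (fun L hL hML => ?_)
  · intro h
    have h1 : Nat.card M = aS (Nat.card F) := by rw [h]; exact card_S
    have h3 := lt_a2 hq
    have h4 := lt_a5 hq
    omega
  · have hdvd : Nat.card M ∣ Nat.card L := Subgroup.card_dvd_of_le hML
    have hle : Nat.card M ≤ Nat.card L := Nat.le_of_dvd Nat.card_pos hdvd
    rw [hc] at hdvd hle
    rcases list hodd h88 hL with h | h | h | h | h | h | h | h
    · exact (Cfsg.Agent.H64.Sp4Three.irr_T2 h2 (Or.inr (Or.inr (Or.inr hT))) h hML).elim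
    · exact (Cfsg.Agent.H64.Sp4Types.T5_T2 h5 hodd hK hac hns h hML).elim
    · exfalso
      rw [card_of_T3 h2 h] at hle
      have := lt_a53 hq
      omega
    · exfalso
      rw [card_of_T4 h2 h] at hdvd
      exact not_dvd_54 hq hdvd
    · exact eq_of_card hML (by rw [card_of_T5 h2 h, hc])
    · exact (not_T6_of_trace h2 hML h (Cfsg.Agent.H328.Sp4TI.T5_trace h2 hK hac hns)).elim
    · exfalso
      have h3 : (Nat.card F) = 5 := five_of_3840 (prime_of_T7 h) hq5 (((dvd_a5 (Nat.card F)).trans hdvd).trans (h7 L h))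
      rw [h3, a5_five] at hdvd
      have := hdvd.trans (h7 L h)
      revert this; decide
    · exfalso
      rcases resl_cases hodd hL.1.le h with ⟨P, hcore, h3, h5', h6⟩ | ⟨h3, h6⟩ | ⟨f, h3, h5', h6⟩
      · have h8 : (Nat.card F) = 5 := five_of_2880 h3 h5' (((dvd_a5 (Nat.card F)).trans hdvd).trans h6)
        rw [h8, a5_five] at hdvd hc
        have h9 : P ≤ M := index_le hML hcore.perfect hcore.le (by
          have := Nat.le_of_dvd (by norm_num) h6
          omega)
        exact not_norm_of_irr h2 hK hac hns hcore.absIrred hcore.perfect (h9.trans inf_le_left)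
      · rw [h3, a5_seven] at hdvd
        have := hdvd.trans h6
        revert this; decide
      · exact not_dvd_58 hq h3 h5' (hdvd.trans h6)

end Cfsg.Agent.H909.Sp4Geom
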